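import Mathlib
import Groth.Prelude.Def_ZClos
import Groth.Agent.KFlat.SchemeStalk
import Groth.Agent.DomLib.Basic
/-!
Sections and stalks of the Z-closure of a sheaf of modules.
-/
universe u
open AlgebraicGeometry CategoryTheory CategoryTheory.Limits TopologicalSpace Opposite ZClos
set_option backward.isDefEq.respectTransparency false
set_option linter.style.haveILetI false
noncomputable section

namespace Groth.Agent.ZCl

variable {X : Scheme.{u}}

/-- restriction of sections -/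
def rs (M : X.Modules) {W V : X.Opens} (h : W ≤ V) : Γ(M, V) →+ Γ(M, W) :=
  (M.presheaf.map (homOfLE h).op).hom

theorem rs_rs (M : X.Modules) {A B C : X.Opens} (h : B ≤ C) (h' : A ≤ B) (s : Γ(M, C)) :
    rs M h' (rs M h s) = rs M (h'.trans h) s := by
  change (M.presheaf.map (homOfLE h).op ≫ M.presheaf.map (homOfLE h').op).hom s = _
  rw [← Functor.map_comp]; rfl

theorem rs_self (M : X.Modules) {A : X.Opens} (h : A ≤ A) (s : Γ(M, A)) : rs M h s = s := by
  change (M.presheaf.map (homOfLE h).op).hom s = s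
  rw [show (homOfLE h).op = 𝟙 (op A) from rfl, M.presheaf.map_id]
  rfl

theorem rs_bijective (M : X.Modules) {A B : X.Opens} (h : A ≤ B) (h' : B ≤ A) :
    Function.Bijective (rs M h) := by
  obtain rfl : A = B := le_antisymm h h'
  rw [show (rs M h : Γ(M, A) → Γ(M, A)) = id from funext (rs_self M h)]
  exact Function.bijective_id

theorem app_rs {M N : X.Modules} (φ : M ⟶ N) {W V : X.Opens} (h : W ≤ V) (s : Γ(M, V)) :
    φ.app W (rs M h s) = rs N h (φ.app V s) :=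
  ConcreteCategory.congr_hom (φ.mapPresheaf.naturality (homOfLE h).op) s

theorem germ_rs (M : X.Modules) {W V : X.Opens} (h : W ≤ V) (x : X) (hx : x ∈ W) (s : Γ(M, V)) :
    M.presheaf.germ W x hx (rs M h s) = M.presheaf.germ V x (h hx) s :=
  TopCat.Presheaf.germ_res_apply M.presheaf (homOfLE h) x hx s

theorem stalk_map_germ {M N : X.Modules} (φ : M ⟶ N) (x : X) {V : X.Opens} (hx : x ∈ V) (s : Γ(M, V)) :
    (TopCat.Presheaf.stalkFunctor (C := Ab.{u}) x).map φ.mapPresheaf (M.presheaf.germ V x hx s) =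
      N.presheaf.germ V x hx (φ.app V s) :=
  TopCat.Presheaf.stalkFunctor_map_germ_apply V x hx φ.mapPresheaf s

/-- a germ vanishes iff the section vanishes nearby -/
theorem exists_rs_eq_zero (M : X.Modules) {V : X.Opens} {x : X} (hx : x ∈ V) (s : Γ(M, V))
    (h : M.presheaf.germ V x hx s = 0) : ∃ W : X.Opens, x ∈ W ∧ ∃ hW : W ≤ V, rs M hW s = 0 := by
  obtain ⟨W, hxW, i₁, i₂, he⟩ := TopCat.Presheaf.germ_eq M.presheaf x hx hx s 0 (by rw [h, map_zero])
  refine ⟨W, hxW, leOfHom i₁, ?_⟩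
  change (M.presheaf.map i₁.op).hom s = 0
  rw [he, map_zero]

theorem ext_cover (M : X.Modules) {ι : Type u} {V : X.Opens} (W : ι → X.Opens) (hW : ∀ i, W i ≤ V)
    (hcov : ∀ x ∈ V, ∃ i, x ∈ W i) (s t : Γ(M, V)) (h : ∀ i, rs M (hW i) s = rs M (hW i) t) : s = t :=
  TopCat.Sheaf.eq_of_locally_eq' ⟨M.presheaf, M.isSheaf⟩ W V (fun i => homOfLE (hW i))
    (fun x hx => Opens.mem_iSup.2 (hcov x hx)) s t h

theorem ext_germ (M : X.Modules) {V : X.Opens} (s t : Γ(M, V))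
    (h : ∀ (x : X) (hx : x ∈ V), M.presheaf.germ V x hx s = M.presheaf.germ V x hx t) : s = t :=
  TopCat.Presheaf.section_ext (⟨M.presheaf, M.isSheaf⟩ : TopCat.Sheaf Ab.{u} X.toTopCat) V s t h

theorem glue (M : X.Modules) {ι : Type u} {V : X.Opens} (W : ι → X.Opens) (hW : ∀ i, W i ≤ V)
    (hcov : ∀ x ∈ V, ∃ i, x ∈ W i) (s : ∀ i, Γ(M, W i))
    (h : ∀ i j, rs M (inf_le_left : W i ⊓ W j ≤ W i) (s i) = rs M (inf_le_right : W i ⊓ W j ≤ W j) (s j)) :
    ∃ t : Γ(M, V), ∀ i, rs M (hW i) t = s i := by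
  obtain ⟨t, ht, -⟩ := TopCat.Sheaf.existsUnique_gluing' ⟨M.presheaf, M.isSheaf⟩ W V
    (fun i => homOfLE (hW i)) (fun x hx => Opens.mem_iSup.2 (hcov x hx)) s h
  exact ⟨t, ht⟩

theorem injective_of_mono {M N : X.Modules} (φ : M ⟶ N) [Mono φ] (V : X.Opens) :
    Function.Injective (φ.app V) := by
  haveI : Mono φ.mapPresheaf := (inferInstance : Mono ((Scheme.Modules.toPresheaf X).map φ))
  exact (AddCommGrpCat.mono_iff_injective _).1 ((NatTrans.mono_iff_mono_app _).1 ‹_› (op V))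

theorem mono_of_injective {M N : X.Modules} (φ : M ⟶ N) (h : ∀ V, Function.Injective (φ.app V)) :
    Mono φ :=
  ⟨fun a b hab => Scheme.Modules.hom_ext _ _ fun V => by
    ext s
    exact h V (congrArg (fun ψ : _ ⟶ N => ψ.app V s) hab)⟩

theorem bijective_of_isIso {M N : X.Modules} (φ : M ⟶ N) [IsIso φ] (V : X.Opens) :
    Function.Bijective (φ.app V) := ConcreteCategory.bijective_of_isIso (φ.app V)

theorem isIso_of_bijective {M N : X.Modules} (φ : M ⟶ N) (h : ∀ V, Function.Bijective (φ.app V)) :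
    IsIso φ :=
  Scheme.Modules.Hom.isIso_iff_isIso_app.2 fun V => (ConcreteCategory.isIso_iff_bijective _).2 (h V)

/-- bijectivity on all stalks -/
theorem isIso_of_stalk {M N : X.Modules} (φ : M ⟶ N)
    (h : ∀ x : X, Function.Bijective ((TopCat.Presheaf.stalkFunctor (C := Ab.{u}) x).map φ.mapPresheaf)) :
    IsIso φ := by
  refine isIso_of_bijective φ fun V => ?_
  have hinj : ∀ V : X.Opens, Function.Injective (φ.app V) := fun V s t hst =>
    ext_germ M s t fun x hx => (h x).1 (by rw [stalk_map_germ, stalk_map_germ, hst])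
  refine ⟨hinj V, fun t => ?_⟩
  have hloc : ∀ x : {x : X // x ∈ V}, ∃ W : X.Opens, x.1 ∈ W ∧ ∃ hW : W ≤ V,
      ∃ s : Γ(M, W), φ.app W s = rs N hW t := by
    rintro ⟨x, hx⟩
    obtain ⟨σ, hσ⟩ := (h x).2 (N.presheaf.germ V x hx t)
    obtain ⟨W, hxW, s, rfl⟩ := TopCat.Presheaf.exists_germ_eq M.presheaf (x := x) σ
    rw [stalk_map_germ] at hσ
    obtain ⟨W', hxW', i₁, i₂, he⟩ := TopCat.Presheaf.germ_eq N.presheaf x hxW hx _ t hσ
    exact ⟨W', hxW', leOfHom i₂, rs M (leOfHom i₁) s, (app_rs φ (leOfHom i₁) s).trans he⟩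
  choose W hxW hW s hs using hloc
  obtain ⟨S, hS⟩ := glue M W hW (fun x hx => ⟨⟨x, hx⟩, hxW _⟩) s fun i j => hinj _ (by
    rw [app_rs, app_rs, hs, hs, rs_rs, rs_rs])
  refine ⟨S, ext_cover N W hW (fun x hx => ⟨⟨x, hx⟩, hxW _⟩) _ _ fun i => ?_⟩
  rw [← app_rs, hS, hs]

variable {Z : Set X} {F : X.Modules}

theorem le_image (U V : X.Opens) : U.ι ''ᵁ U.ι ⁻¹ᵁ V ≤ U ⊓ V := (ι_image_preimage U V).le
theorem image_le (U V : X.Opens) : U ⊓ V ≤ U.ι ''ᵁ U.ι ⁻¹ᵁ V := (ι_image_preimage U V).ge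

/-- the section of the Z-closure given by a section off a closed subset in `Z` -/
def sec (T : Cl Z) (V : X.Opens) (s : Γ(F, T.U ⊓ V)) : Γ((H0 Z).obj F, V) :=
  (colimit.ι ((diagram Z).obj F) T).app V (rs F (le_image T.U V) s)

theorem diag_map_app {T T' : Cl Z} (f : T ⟶ T') (V : X.Opens) (a : Γ(F, T.U.ι ''ᵁ T.U.ι ⁻¹ᵁ V)) :
    (((diagram Z).obj F).map f).app V a = rs F (resPush_le (Cl.U_anti f.le) V) a := by
  change (resPushMapApp (Cl.U_anti f.le) F).app V a = _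
  rw [resPushMapApp_app]
  rfl

theorem diag_rs (T : Cl Z) {W V : X.Opens} (h : W ≤ V) (a : Γ(F, T.U.ι ''ᵁ T.U.ι ⁻¹ᵁ V)) :
    rs (((diagram Z).obj F).obj T) h a =
      rs F ((le_image T.U W).trans ((inf_le_inf_left T.U h).trans (image_le T.U V))) a := rfl

theorem sec_zero (T : Cl Z) (V : X.Opens) : sec T V (0 : Γ(F, T.U ⊓ V)) = 0 := by
  unfold sec
  rw [map_zero]
  exact map_zero ((colimit.ι ((diagram Z).obj F) T).app V).hom

theorem sec_sub (T : Cl Z) (V : X.Opens) (s t : Γ(F, T.U ⊓ V)) :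
    sec T V (s - t) = sec T V s - sec T V t := by
  unfold sec
  rw [map_sub]
  exact map_sub ((colimit.ι ((diagram Z).obj F) T).app V).hom _ _

theorem sec_mono {T T' : Cl Z} (h : T ≤ T') (V : X.Opens) (s : Γ(F, T.U ⊓ V)) :
    sec T' V (rs F (inf_le_inf_right V (Cl.U_anti h)) s) = sec T V s := by
  unfold sec
  rw [← colimit.w ((diagram Z).obj F) (homOfLE h), Scheme.Modules.Hom.comp_app]
  change _ = (colimit.ι ((diagram Z).obj F) T').app V
    ((((diagram Z).obj F).map (homOfLE h)).app V (rs F (le_image T.U V) s))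
  rw [diag_map_app, rs_rs]
  exact congrArg _ (rs_rs F (le_image T.U V) (resPush_le (Cl.U_anti h) V) s).symm

theorem rs_sec (T : Cl Z) {W V : X.Opens} (h : W ≤ V) (s : Γ(F, T.U ⊓ V)) :
    rs ((H0 Z).obj F) h (sec T V s) = sec T W (rs F (inf_le_inf_left T.U h) s) := by
  refine (app_rs (colimit.ι ((diagram Z).obj F) T) h _).symm.trans ?_
  refine congrArg _ ((diag_rs T h _).trans ?_)
  rw [rs_rs, rs_rs]

theorem rho_sec (T : Cl Z) (V : X.Opens) (t : Γ(F, V)) :
    (rhoApp Z F).app V t = sec T V (rs F inf_le_right t) := by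
  unfold sec
  rw [rhoApp_eq Z F T, Scheme.Modules.Hom.comp_app, rs_rs]
  exact congrArg _ rfl

/-- a section over a part of the complement comes from the module itself -/
theorem sec_eq_rho (T : Cl Z) {W : X.Opens} (hW : W ≤ T.U) (s : Γ(F, T.U ⊓ W)) :
    (rhoApp Z F).app W (rs F (le_inf hW le_rfl) s) = sec T W s := by
  rw [rho_sec T, rs_rs, rs_self]

theorem exists_germ_sec (x : X) (ξ : ((H0 Z).obj F).presheaf.stalk x) :
    ∃ (T : Cl Z) (V : X.Opens) (hx : x ∈ V) (s : Γ(F, T.U ⊓ V)),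
      ((H0 Z).obj F).presheaf.germ V x hx (sec T V s) = ξ := by
  haveI := KFlat.abStalk_preservesColimits (X := X) x
  let hc := isColimitOfPreserves (KFlat.abStalk X x) (colimit.isColimit ((diagram Z).obj F))
  obtain ⟨T, η, hη⟩ := Concrete.isColimit_exists_rep _ hc ξ
  obtain ⟨V, hx, s, rfl⟩ := TopCat.Presheaf.exists_germ_eq (((diagram Z).obj F).obj T).presheaf (x := x) η
  refine ⟨T, V, hx, rs F (image_le T.U V) s, ?_⟩
  rw [← hη]
  refine Eq.trans ?_ (stalk_map_germ (colimit.ι ((diagram Z).obj F) T) x hx s).symm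
  unfold sec
  rw [rs_rs]
  exact congrArg _ (congrArg _ (rs_self F _ (show Γ(F, T.U.ι ''ᵁ T.U.ι ⁻¹ᵁ V) from s)))

theorem germ_sec_eq_zero {T : Cl Z} {V : X.Opens} {x : X} (hx : x ∈ V) (s : Γ(F, T.U ⊓ V))
    (h : ((H0 Z).obj F).presheaf.germ V x hx (sec T V s) = 0) :
    ∃ (T' : Cl Z) (hT : T ≤ T') (W : X.Opens) (_ : x ∈ W) (hW : W ≤ V),
      rs F (inf_le_inf (Cl.U_anti hT) hW) s = 0 := by
  haveI := KFlat.abStalk_preservesColimits (X := X) x
  let D := (diagram Z).obj F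
  let hc := isColimitOfPreserves (KFlat.abStalk X x) (colimit.isColimit D)
  let η : (KFlat.abStalk X x).obj (D.obj T) := (D.obj T).presheaf.germ V x hx (rs F (le_image T.U V) s)
  have h0 : ((KFlat.abStalk X x).mapCocone (colimit.cocone D)).ι.app T η =
      ((KFlat.abStalk X x).mapCocone (colimit.cocone D)).ι.app T 0 := by
    refine Eq.trans ((stalk_map_germ (colimit.ι D T) x hx _).trans h) (map_zero _).symm
  obtain ⟨T', f, g, hfg⟩ := Concrete.isColimit_exists_of_rep_eq _ hc _ _ h0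
  rw [map_zero] at hfg
  have h1 : (D.obj T').presheaf.germ V x hx ((D.map f).app V (rs F (le_image T.U V) s)) = 0 :=
    (stalk_map_germ (D.map f) x hx _).symm.trans hfg
  obtain ⟨W, hxW, hW, he⟩ := exists_rs_eq_zero _ hx _ h1
  refine ⟨T', f.le, W, hxW, hW, ?_⟩
  have he2 : rs F ((le_image T'.U W).trans (inf_le_inf (Cl.U_anti f.le) hW)) s = 0 := by
    refine Eq.trans ?_ he
    rw [show ((D.map f).app V) (rs F (le_image T.U V) s) =
      rs F (resPush_le (Cl.U_anti f.le) V) (rs F (le_image T.U V) s) from diag_map_app f V _, rs_rs]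
    refine Eq.trans ?_ (diag_rs T' hW _).symm
    rw [rs_rs]
  have h3 := congrArg (rs F (image_le T'.U W)) he2
  rwa [rs_rs, map_zero] at h3

/-- sections of the closure which vanish come from sections vanishing off a larger subset -/
theorem exists_eq_zero_of_sec {T : Cl Z} {V : X.Opens} (hV : IsCompact (V : Set X)) (s : Γ(F, T.U ⊓ V))
    (h : sec T V s = 0) : ∃ (T' : Cl Z) (hT : T ≤ T'), rs F (inf_le_inf_right V (Cl.U_anti hT)) s = 0 := by
  classical
  have hloc : ∀ x : {x : X // x ∈ V}, ∃ (T' : Cl Z) (hT : T ≤ T') (W : X.Opens) (_ : x.1 ∈ W)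
      (hW : W ≤ V), rs F (inf_le_inf (Cl.U_anti hT) hW) s = 0 := fun x =>
    germ_sec_eq_zero x.2 s (by rw [h, map_zero])
  choose T' hT W hxW hW hz using hloc
  obtain ⟨t, ht⟩ := hV.elim_finite_subcover (fun i => (W i : Set X)) (fun i => (W i).2)
    (fun x hx => Set.mem_iUnion.2 ⟨⟨x, hx⟩, hxW _⟩)
  refine ⟨t.sup T' ⊔ T, le_sup_right, ext_cover F (fun i : {i // i ∈ t} => (t.sup T' ⊔ T).U ⊓ W i.1)
    (fun i => inf_le_inf_left _ (hW i.1)) (fun x hx => ?_) _ _ fun i => ?_⟩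
  · obtain ⟨i, hi, hxi⟩ := Set.mem_iUnion₂.1 (ht hx.2)
    exact ⟨⟨i, hi⟩, hx.1, hxi⟩
  · have hle : (t.sup T' ⊔ T).U ≤ (T' i.1).U := Cl.U_anti ((Finset.le_sup i.2).trans le_sup_left)
    rw [rs_rs, map_zero, ← rs_rs F (inf_le_inf (Cl.U_anti (hT i.1)) (hW i.1)) (inf_le_inf_right _ hle),
      hz, map_zero]

theorem isCompact_of_le_affine [IsLocallyNoetherian X] {W O : X.Opens} (hW : IsAffineOpen W) (h : O ≤ W) :
    IsCompact (O : Set X) := by
  haveI := IsLocallyNoetherian.component_noetherian (X := X) ⟨W, hW⟩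
  have he : (O : Set X) = hW.fromSpec '' (hW.fromSpec ⁻¹' O) := by
    rw [Set.image_preimage_eq_inter_range, hW.range_fromSpec, Set.inter_eq_left.2 (by exact h)]
  rw [he]
  exact (NoetherianSpace.isCompact (α := PrimeSpectrum Γ(X, W)) _).image hW.fromSpec.continuous

theorem isCompact_subset_affine [IsLocallyNoetherian X] {W : X.Opens} (hW : IsAffineOpen W) {A : Set X}
    (h : A ⊆ W) : IsCompact A := by
  haveI := IsLocallyNoetherian.component_noetherian (X := X) ⟨W, hW⟩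
  have he : A = hW.fromSpec '' (hW.fromSpec ⁻¹' A) := by
    rw [Set.image_preimage_eq_inter_range, hW.range_fromSpec, Set.inter_eq_left.2 h]
  rw [he]
  exact (NoetherianSpace.isCompact (α := PrimeSpectrum Γ(X, W)) _).image hW.fromSpec.continuous

/-- every section of the closure over a compact open comes from a section off a closed subset -/
theorem exists_sec [IsLocallyNoetherian X] {W O : X.Opens} (hW : IsAffineOpen W) (hO : O ≤ W)
    (σ : Γ((H0 Z).obj F, O)) : ∃ (T : Cl Z) (s : Γ(F, T.U ⊓ O)), sec T O s = σ := by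
  classical
  have hloc : ∀ x : {x : X // x ∈ O}, ∃ (T : Cl Z) (V : X.Opens) (_ : x.1 ∈ V) (hV : V ≤ O)
      (s : Γ(F, T.U ⊓ V)), sec T V s = rs _ hV σ := by
    rintro ⟨x, hx⟩
    obtain ⟨T, V, hxV, s, hs⟩ := exists_germ_sec x (((H0 Z).obj F).presheaf.germ O x hx σ)
    obtain ⟨V', hxV', i₁, i₂, he⟩ := TopCat.Presheaf.germ_eq _ x hxV hx _ σ hs
    exact ⟨T, V', hxV', leOfHom i₂, rs F (inf_le_inf_left _ (leOfHom i₁)) s, (rs_sec T (leOfHom i₁) s).symm.trans he⟩
  choose T V hxV hVO s hs using hloc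
  obtain ⟨t, ht⟩ := (isCompact_of_le_affine hW hO).elim_finite_subcover (fun i => (V i : Set X))
    (fun i => (V i).2) (fun x hx => Set.mem_iUnion.2 ⟨⟨x, hx⟩, hxV _⟩)
  let T₀ := t.sup T
  have hle : ∀ i : {i // i ∈ t}, T i.1 ≤ T₀ := fun i => Finset.le_sup i.2
  let s₀ : ∀ i : {i // i ∈ t}, Γ(F, T₀.U ⊓ V i.1) := fun i =>
    rs F (inf_le_inf_right _ (Cl.U_anti (hle i))) (s i.1)
  have hs₀ : ∀ i, sec T₀ (V i.1) (s₀ i) = rs _ (hVO i.1) σ := fun i => by
    rw [sec_mono (hle i), hs]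
  have hov : ∀ p : {i // i ∈ t} × {i // i ∈ t}, ∃ (T' : Cl Z) (hT : T₀ ≤ T'),
      rs F (inf_le_inf_right (V p.1.1 ⊓ V p.2.1) (Cl.U_anti hT))
        (rs F (inf_le_inf_left _ inf_le_left) (s₀ p.1) - rs F (inf_le_inf_left _ inf_le_right) (s₀ p.2)) = 0 :=
    fun p => exists_eq_zero_of_sec
      (isCompact_of_le_affine hW ((inf_le_left.trans (hVO _)).trans hO)) _ (by
        rw [sec_sub, ← rs_sec T₀ inf_le_left, ← rs_sec T₀ inf_le_right, hs₀, hs₀, rs_rs, rs_rs, sub_self])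
  choose T' hT' hz using hov
  let T₁ := T₀ ⊔ (Finset.univ : Finset ({i // i ∈ t} × {i // i ∈ t})).sup T'
  have hcov : ∀ x ∈ T₁.U ⊓ O, ∃ i : {i // i ∈ t}, x ∈ T₁.U ⊓ V i.1 := fun x hx => by
    obtain ⟨i, hi, hxi⟩ := Set.mem_iUnion₂.1 (ht hx.2)
    exact ⟨⟨i, hi⟩, hx.1, hxi⟩
  obtain ⟨S, hS⟩ := glue F (fun i : {i // i ∈ t} => T₁.U ⊓ V i.1) (fun i => inf_le_inf_left _ (hVO i.1))
    hcov (fun i => rs F (inf_le_inf_right _ (Cl.U_anti le_sup_left)) (s₀ i)) fun i j => by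
      have hl : T' (i, j) ≤ T₁ := (Finset.le_sup (Finset.mem_univ _)).trans le_sup_right
      have h1 := congrArg (rs F (show (T₁.U ⊓ V i.1) ⊓ (T₁.U ⊓ V j.1) ≤ (T' (i, j)).U ⊓ (V i.1 ⊓ V j.1) from
        le_inf ((inf_le_left.trans inf_le_left).trans (Cl.U_anti hl))
          (le_inf (inf_le_left.trans inf_le_right) (inf_le_right.trans inf_le_right)))) (hz (i, j))
      simp only [map_sub, map_zero, rs_rs, sub_eq_zero, s₀] at h1
      exact (rs_rs F _ _ _).trans ((rs_rs F _ _ _).trans (h1.trans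
        ((rs_rs F _ _ _).symm.trans (rs_rs F _ _ _).symm)))
  refine ⟨T₁, S, ext_cover _ (fun i : {i // i ∈ t} => V i.1) (fun i => hVO i.1) (fun x hx => ?_) _ _ fun i => ?_⟩
  · obtain ⟨i, hi, hxi⟩ := Set.mem_iUnion₂.1 (ht hx)
    exact ⟨⟨i, hi⟩, hxi⟩
  · rw [rs_sec, hS, sec_mono (show T₀ ≤ T₁ from le_sup_left), hs₀]

theorem closure_subset [IsLocallyNoetherian X] (hZ : StableUnderSpecialization Z) (O : X.Opens) {C : Set X}
    (hC : IsClosed C) (h : (O : Set X) ∩ C ⊆ Z) : closure ((O : Set X) ∩ C) ⊆ Z := by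
  intro z hz
  obtain ⟨W, hW, hzW, -⟩ := exists_isAffineOpen_mem_and_subset (show z ∈ (⊤ : X.Opens) from trivial)
  let K := Scheme.IdealSheafData.vanishingIdeal (X := X) ⟨C, hC⟩
  let O' : K.subscheme.Opens := K.subschemeι ⁻¹ᵁ (O ⊓ W)
  let g : O'.toScheme ⟶ X := O'.ι ≫ K.subschemeι
  have hr : Set.range g = ((O : Set X) ∩ W) ∩ C := by
    rw [Scheme.Hom.comp_base, TopCat.coe_comp, Set.range_comp, Scheme.Opens.range_ι]
    change K.subschemeι '' (K.subschemeι ⁻¹' ((O : Set X) ∩ W)) = _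
    rw [Set.image_preimage_eq_inter_range, Scheme.IdealSheafData.range_subschemeι,
      Scheme.IdealSheafData.coe_support_vanishingIdeal]
    rfl
  haveI : CompactSpace O'.toScheme := by
    refine isCompact_univ_iff.1 ?_
    have hi : Topology.IsInducing g := g.isEmbedding.isInducing
    rw [hi.isCompact_iff, Set.image_univ, hr]
    exact isCompact_subset_affine hW (fun y hy => hy.1.2)
  haveI : QuasiCompact g := ⟨fun U hU hU' => by
    have hi : Topology.IsInducing g := g.isEmbedding.isInducing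
    rw [hi.isCompact_iff, Set.image_preimage_eq_inter_range, hr]
    exact isCompact_subset_affine hW (fun y hy => hy.2.1.2)⟩
  obtain ⟨w, hw⟩ := DomLib.exists_specializes g (y := z) (by
    rw [hr]
    have h1 : z ∈ (W : Set X) ∩ closure ((O : Set X) ∩ C) := ⟨hzW, hz⟩
    refine closure_mono ?_ (W.2.inter_closure h1)
    rintro y ⟨h1, h2, h3⟩; exact ⟨⟨h2, h1⟩, h3⟩)
  have hgw : g w ∈ ((O : Set X) ∩ W) ∩ C := hr ▸ ⟨w, rfl⟩
  exact hZ hw (h ⟨hgw.1.1, hgw.2⟩)

/-- the closure of the part in `Z` as an index -/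
def closCl [IsLocallyNoetherian X] (hZ : StableUnderSpecialization Z) (O : X.Opens) {C : Set X}
    (hC : IsClosed C) (h : (O : Set X) ∩ C ⊆ Z) : Cl Z :=
  ⟨⟨closure ((O : Set X) ∩ C), isClosed_closure⟩, closure_subset hZ O hC h⟩

theorem closCl_U_inf_le [IsLocallyNoetherian X] (hZ : StableUnderSpecialization Z) (O : X.Opens) {C : Set X}
    (hC : IsClosed C) (h : (O : Set X) ∩ C ⊆ Z) :
    (((closCl hZ O hC h).U ⊓ O : X.Opens) : Set X) ⊆ Cᶜ :=
  fun x hx hxC => hx.1 (subset_closure (s := (O : Set X) ∩ C) ⟨hx.2, hxC⟩)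

/-- a section with zero germs off `Z` vanishes off some closed subset in `Z` -/
theorem exists_eq_zero_of_germ [IsLocallyNoetherian X] (hZ : StableUnderSpecialization Z) {O : X.Opens}
    (s : Γ(F, O)) (h : ∀ (x : X) (hx : x ∈ O), x ∉ Z → F.presheaf.germ O x hx s = 0) :
    ∃ T : Cl Z, rs F (inf_le_right : T.U ⊓ O ≤ O) s = 0 := by
  let N : Set X := {x | ∃ W : X.Opens, x ∈ W ∧ ∃ hW : W ≤ O, rs F hW s = 0}
  have hN : IsOpen N := isOpen_iff_forall_mem_open.2 fun x ⟨W, hxW, hW, he⟩ =>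
    ⟨W, fun y hy => ⟨W, hy, hW, he⟩, W.2, hxW⟩
  have hsub : (O : Set X) ∩ Nᶜ ⊆ Z := fun x hx => by
    by_contra hxZ
    exact hx.2 (exists_rs_eq_zero F hx.1 s (h x hx.1 hxZ))
  refine ⟨closCl hZ O hN.isClosed_compl hsub, ext_germ F _ _ fun x hx => ?_⟩
  obtain ⟨W, hxW, hW, he⟩ : x ∈ N :=
    not_not.1 (closCl_U_inf_le hZ O hN.isClosed_compl hsub hx)
  rw [germ_rs, map_zero, ← germ_rs F hW x hxW, he, map_zero]

theorem pure_iff : IsZPure Z F ↔
    ∀ (T : Cl Z) (V : X.Opens), Function.Injective (rs F (inf_le_right : T.U ⊓ V ≤ V)) := by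
  constructor
  · intro h T V s t hst
    haveI : Mono (rhoApp Z F) := h
    refine injective_of_mono (rhoApp Z F) V ?_
    rw [rho_sec T, rho_sec T, hst]
  · intro h
    refine mono_of_injective _ fun V => (injective_iff_map_eq_zero ((rhoApp Z F).app V).hom).2 fun t ht => ?_
    refine ext_germ F _ _ fun x hx => ?_
    rw [map_zero]
    have h0 : ((H0 Z).obj F).presheaf.germ V x hx ((rhoApp Z F).app V t) = 0 := by
      rw [show (rhoApp Z F).app V t = 0 from ht, map_zero]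
    rw [rho_sec ⊥] at h0
    obtain ⟨T', hT, W, hxW, hW, he⟩ := germ_sec_eq_zero hx _ h0
    rw [rs_rs, ← rs_rs F hW (inf_le_right : T'.U ⊓ W ≤ W)] at he
    rw [← germ_rs F hW x hxW, h T' W (he.trans (map_zero _).symm), map_zero]

theorem closed_iff : IsZClosed Z F ↔
    ∀ (T : Cl Z) (V : X.Opens), Function.Bijective (rs F (inf_le_right : T.U ⊓ V ≤ V)) := by
  constructor
  · intro h T V
    haveI : IsIso (rhoApp Z F) := h
    have hp : IsZPure Z F := (inferInstance : Mono (rhoApp Z F))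
    refine ⟨pure_iff.1 hp T V, fun s => ?_⟩
    obtain ⟨t, ht⟩ := (bijective_of_isIso (rhoApp Z F) V).2 (sec T V s)
    refine ⟨t, injective_of_mono (rhoApp Z F) _ ?_⟩
    have h1 := congrArg (rs ((H0 Z).obj F) (inf_le_right : T.U ⊓ V ≤ V)) ht
    rw [← app_rs, rs_sec] at h1
    rw [h1, ← sec_eq_rho T inf_le_left, rs_rs, rs_self]
  · intro h
    have hp : IsZPure Z F := pure_iff.2 fun T V => (h T V).1
    haveI : Mono (rhoApp Z F) := hp
    refine isIso_of_stalk _ fun x => ⟨?_, fun ξ => ?_⟩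
    · refine (injective_iff_map_eq_zero
        ((TopCat.Presheaf.stalkFunctor (C := Ab.{u}) x).map (rhoApp Z F).mapPresheaf).hom).2 fun σ hσ => ?_
      obtain ⟨V, hx, t, rfl⟩ := TopCat.Presheaf.exists_germ_eq F.presheaf (x := x) σ
      obtain ⟨W, hxW, hW, he⟩ := exists_rs_eq_zero _ hx _ ((stalk_map_germ _ x hx t).symm.trans hσ)
      rw [← app_rs] at he
      have := injective_of_mono (rhoApp Z F) W (he.trans (map_zero ((rhoApp Z F).app W).hom).symm)
      rw [← germ_rs F hW x hxW, this, map_zero]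
    · obtain ⟨T, V, hx, s, rfl⟩ := exists_germ_sec x ξ
      obtain ⟨t, rfl⟩ := (h T V).2 s
      exact ⟨F.presheaf.germ V x hx t, by rw [stalk_map_germ, ← rho_sec T]⟩

theorem pure_mono_set {Z' : Set X} (h : Z' ⊆ Z) (hp : IsZPure Z F) : IsZPure Z' F :=
  pure_iff.2 fun T V => pure_iff.1 hp ⟨T.1, T.2.trans h⟩ V

theorem closed_mono_set {Z' : Set X} (h : Z' ⊆ Z) (hp : IsZClosed Z F) : IsZClosed Z' F :=
  closed_iff.2 fun T V => closed_iff.1 hp ⟨T.1, T.2.trans h⟩ V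

theorem rs_inf_bijective_iff (T : Cl Z) (V : X.Opens) :
    Function.Bijective ((toDiagram Z F T).app V) ↔
      Function.Bijective (rs F (inf_le_right : T.U ⊓ V ≤ V)) := by
  have he : ((toDiagram Z F T).app V : Γ(F, V) → _) =
      rs F (le_image T.U V) ∘ rs F (inf_le_right : T.U ⊓ V ≤ V) := by
    funext t
    change rs F (T.U.ι.image_preimage_le V) t = _
    exact (rs_rs F _ _ t).symm
  rw [he]
  exact Function.Bijective.of_comp_iff' (rs_bijective F _ (image_le T.U V)) _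

theorem rs_inf_injective_iff (T : Cl Z) (V : X.Opens) :
    Function.Injective ((toDiagram Z F T).app V) ↔
      Function.Injective (rs F (inf_le_right : T.U ⊓ V ≤ V)) := by
  have he : ((toDiagram Z F T).app V : Γ(F, V) → _) =
      rs F (le_image T.U V) ∘ rs F (inf_le_right : T.U ⊓ V ≤ V) := by
    funext t
    change rs F (T.U.ι.image_preimage_le V) t = _
    exact (rs_rs F _ _ t).symm
  rw [he]
  exact (rs_bijective F _ (image_le T.U V)).1.of_comp_iff _

theorem isZClosedAt_of_not_mem {x : X} (hx : x ∉ Z) : IsZClosedAt Z F x := by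
  refine ⟨(injective_iff_map_eq_zero (rhoStalk Z F x).hom).2 fun σ hσ => ?_, fun ξ => ?_⟩
  · obtain ⟨V, hxV, t, rfl⟩ := TopCat.Presheaf.exists_germ_eq F.presheaf (x := x) σ
    have h0 := (stalk_map_germ (rhoApp Z F) x hxV t).symm.trans hσ
    rw [rho_sec ⊥] at h0
    obtain ⟨T', hT, W, hxW, hW, he⟩ := germ_sec_eq_zero hxV _ h0
    rw [rs_rs] at he
    have hxT : x ∈ T'.U ⊓ W := ⟨fun h => hx (T'.2 h), hxW⟩
    rw [← germ_rs F (inf_le_right.trans hW) x hxT, he, map_zero]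
  · obtain ⟨T, V, hxV, s, rfl⟩ := exists_germ_sec x ξ
    have hxT : x ∈ T.U ⊓ V := ⟨fun h => hx (T.2 h), hxV⟩
    refine ⟨F.presheaf.germ (T.U ⊓ V) x hxT s, (stalk_map_germ (rhoApp Z F) x hxT s).trans ?_⟩
    rw [← germ_rs ((H0 Z).obj F) (inf_le_right : T.U ⊓ V ≤ V) x hxT, rs_sec,
      ← sec_eq_rho T inf_le_left, rs_rs, rs_self]

theorem isZClosed_H0 [IsLocallyNoetherian X] : IsZClosed Z ((H0 Z).obj F) := by
  classical
  have hinj : ∀ (T : Cl Z) (V : X.Opens),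
      Function.Injective (rs ((H0 Z).obj F) (inf_le_right : T.U ⊓ V ≤ V)) := by
    intro T V
    refine (injective_iff_map_eq_zero _).2 fun σ hσ => ext_germ _ _ _ fun x hx => ?_
    rw [map_zero]
    obtain ⟨T', W, hxW, s, hs⟩ := exists_germ_sec x (((H0 Z).obj F).presheaf.germ V x hx σ)
    obtain ⟨W', hxW', i₁, i₂, he⟩ := TopCat.Presheaf.germ_eq _ x hxW hx _ σ hs
    obtain ⟨A, hA, hxA, hAW⟩ := exists_isAffineOpen_mem_and_subset hxW'
    have hAV : A ≤ V := le_trans hAW (leOfHom i₂)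
    have hAW' : A ≤ W := le_trans hAW (leOfHom i₁)
    let s' : Γ(F, T'.U ⊓ A) := rs F (inf_le_inf_left _ hAW') s
    have hs' : sec T' A s' = rs _ hAV σ := by
      rw [← rs_sec T' hAW', ← rs_rs _ (leOfHom i₁) (hAW : A ≤ W'), show rs _ (leOfHom i₁) (sec T' W s) =
        rs _ (leOfHom i₂) σ from he, rs_rs]
    have h0 : sec T' (T.U ⊓ A) (rs F (inf_le_inf_left _ inf_le_right) s') = 0 := by
      rw [← rs_sec T' inf_le_right, hs', rs_rs, ← rs_rs _ (inf_le_right : T.U ⊓ V ≤ V) (inf_le_inf_left _ hAV), hσ, map_zero]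
    obtain ⟨T'', hT'', hz⟩ := exists_eq_zero_of_sec (isCompact_of_le_affine hA inf_le_right) _ h0
    rw [← germ_rs _ hAV x hxA, ← hs', ← sec_mono (show T' ≤ T'' ⊔ T from hT''.trans le_sup_left) A s']
    have h4 : rs F (inf_le_inf_right A (Cl.U_anti (show T' ≤ T'' ⊔ T from hT''.trans le_sup_left))) s' = 0 := by
      have h5 := congrArg (rs F (show (T'' ⊔ T).U ⊓ A ≤ T''.U ⊓ (T.U ⊓ A) from
        le_inf (inf_le_left.trans (Cl.U_anti le_sup_left))
          (inf_le_inf_right A (Cl.U_anti le_sup_right)))) hz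
      rw [rs_rs, rs_rs, map_zero] at h5
      exact h5
    rw [h4, sec_zero, map_zero]
  refine closed_iff.2 fun T V => ⟨hinj T V, fun σ => ?_⟩
  have hloc : ∀ x : {x : X // x ∈ V}, ∃ (A : X.Opens) (_ : x.1 ∈ A) (hA : A ≤ V)
      (τ : Γ((H0 Z).obj F, A)), rs _ inf_le_right τ = rs _ (inf_le_inf_left T.U hA) σ := by
    rintro ⟨x, hx⟩
    obtain ⟨A, hA, hxA, hAV'⟩ := exists_isAffineOpen_mem_and_subset hx
    have hAV : A ≤ V := hAV'
    obtain ⟨T', s, hs⟩ := exists_sec hA (inf_le_right : T.U ⊓ A ≤ A) (rs _ (inf_le_inf_left T.U hAV) σ)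
    refine ⟨A, hxA, hAV, sec (T' ⊔ T) A (rs F (le_inf (inf_le_left.trans (Cl.U_anti le_sup_left))
      (inf_le_inf_right A (Cl.U_anti le_sup_right))) s), ?_⟩
    rw [rs_sec, ← hs, rs_rs, ← sec_mono (le_sup_left : T' ≤ T' ⊔ T) (T.U ⊓ A) s]
  choose A hxA hA τ hτ using hloc
  obtain ⟨S, hS⟩ := glue _ A hA (fun x hx => ⟨⟨x, hx⟩, hxA _⟩) τ fun i j => by
    apply hinj T
    have e : ∀ (k : {x : X // x ∈ V}) (hk : A i ⊓ A j ≤ A k),
        rs _ (inf_le_right : T.U ⊓ (A i ⊓ A j) ≤ _) (rs _ hk (τ k)) =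
          rs _ (inf_le_inf_left T.U (hk.trans (hA k))) σ := fun k hk => by
      rw [rs_rs, ← rs_rs _ (inf_le_right : T.U ⊓ A k ≤ A k) (inf_le_inf_left _ hk), hτ, rs_rs]
    rw [e i inf_le_left, e j inf_le_right]
  refine ⟨S, ext_cover _ (fun i => T.U ⊓ A i) (fun i => inf_le_inf_left _ (hA i))
    (fun x hx => ⟨⟨x, hx.2⟩, hx.1, hxA _⟩) _ _ fun i => ?_⟩
  rw [rs_rs, ← rs_rs _ (hA i) (inf_le_right : T.U ⊓ A i ≤ A i), hS, hτ]

theorem exists_fac {F' : X.Modules} (hF' : IsZClosed Z F') (u : F ⟶ F') :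
    ∃! v : (H0 Z).obj F ⟶ F', rhoApp Z F ≫ v = u := by
  haveI : IsIso (rhoApp Z F') := hF'
  refine ⟨(H0 Z).map u ≫ inv (rhoApp Z F'), ?_, fun v hv => ?_⟩
  · change rhoApp Z F ≫ (H0 Z).map u ≫ inv (rhoApp Z F') = u
    rw [← Category.assoc, IsIso.comp_inv_eq]
    exact ((rho Z).naturality u).symm
  · have hex : ∀ v₁ v₂ : (H0 Z).obj F ⟶ F', rhoApp Z F ≫ v₁ = rhoApp Z F ≫ v₂ → v₁ = v₂ := by
      intro v₁ v₂ h
      refine Scheme.Modules.hom_ext _ _ fun V => ?_
      ext σ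
      refine ext_germ F' _ _ fun x hx => ?_
      obtain ⟨T, W, hxW, s, hs⟩ := exists_germ_sec x (((H0 Z).obj F).presheaf.germ V x hx σ)
      have e : v₁.app W (sec T W s) = v₂.app W (sec T W s) := by
        apply ((closed_iff.1 hF') T W).1
        rw [← app_rs, ← app_rs, rs_sec, ← sec_eq_rho T inf_le_left]
        exact congrArg (fun φ : F ⟶ F' => φ.app _ _) h
      rw [← stalk_map_germ v₁ x hx, ← stalk_map_germ v₂ x hx, ← hs, stalk_map_germ, stalk_map_germ, e]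
    apply hex
    rw [hv, ← Category.assoc, eq_comm, IsIso.comp_inv_eq]
    exact ((rho Z).naturality u).symm

theorem isIso_fac [IsLocallyNoetherian X] (hZ : StableUnderSpecialization Z) {F' : X.Modules}
    (hF' : IsZClosed Z F') (u : F ⟶ F')
    (hu : ∀ x : X, x ∉ Z → Function.Bijective ((TopCat.Presheaf.stalkFunctor (C := Ab.{u}) x).map u.mapPresheaf))
    (v : (H0 Z).obj F ⟶ F') (hv : rhoApp Z F ≫ v = u) : IsIso v := by
  classical
  have hvsec : ∀ (T : Cl Z) (V : X.Opens) (s : Γ(F, T.U ⊓ V)),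
      rs F' (inf_le_right : T.U ⊓ V ≤ V) (v.app V (sec T V s)) = u.app _ s := by
    intro T V s
    rw [← app_rs, rs_sec, ← sec_eq_rho T inf_le_left, rs_rs, rs_self, ← hv]
    rfl
  have hgerm : ∀ {O : X.Opens} (s : Γ(F, O)), u.app O s = 0 →
      ∀ (x : X) (hx : x ∈ O), x ∉ Z → F.presheaf.germ O x hx s = 0 := fun {O} s hs x hx hxZ => by
    refine (hu x hxZ).1 ?_
    rw [stalk_map_germ, hs, map_zero, map_zero]
  refine isIso_of_stalk v fun x => ⟨?_, fun η => ?_⟩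
  · refine (injective_iff_map_eq_zero
      ((TopCat.Presheaf.stalkFunctor (C := Ab.{u}) x).map v.mapPresheaf).hom).2 fun ξ hξ => ?_
    obtain ⟨T, V, hx, s, rfl⟩ := exists_germ_sec x ξ
    obtain ⟨W, hxW, hW, he⟩ := exists_rs_eq_zero _ hx _ ((stalk_map_germ v x hx _).symm.trans hξ)
    rw [← app_rs, rs_sec] at he
    have hs0 := hvsec T W (rs F (inf_le_inf_left _ hW) s)
    rw [he, map_zero] at hs0
    obtain ⟨T', hT'⟩ := exists_eq_zero_of_germ hZ _ (hgerm _ hs0.symm)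
    rw [← germ_rs _ hW x hxW, rs_sec, ← sec_mono (show T ≤ T ⊔ T' from le_sup_left) W]
    have h4 := congrArg (rs F (show (T ⊔ T').U ⊓ W ≤ T'.U ⊓ (T.U ⊓ W) from
      le_inf (inf_le_left.trans (Cl.U_anti le_sup_right)) (inf_le_inf_right W (Cl.U_anti le_sup_left)))) hT'
    rw [rs_rs, map_zero] at h4
    rw [h4, sec_zero, map_zero]
  · obtain ⟨V₀, hx₀, t₀, rfl⟩ := TopCat.Presheaf.exists_germ_eq F'.presheaf (x := x) η
    obtain ⟨V, hV, hxV, hVV⟩ := exists_isAffineOpen_mem_and_subset hx₀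
    let t : Γ(F', V) := rs F' hVV t₀
    have hloc : ∀ y : {y : X // y ∈ V ∧ y ∉ Z}, ∃ (W : X.Opens) (_ : y.1 ∈ W) (hW : W ≤ V)
        (s : Γ(F, W)), u.app W s = rs F' hW t := by
      rintro ⟨y, hyV, hyZ⟩
      obtain ⟨σ, hσ⟩ := (hu y hyZ).2 (F'.presheaf.germ V y hyV t)
      obtain ⟨W, hyW, s, rfl⟩ := TopCat.Presheaf.exists_germ_eq F.presheaf (x := y) σ
      rw [stalk_map_germ] at hσ
      obtain ⟨W', hyW', i₁, i₂, he⟩ := TopCat.Presheaf.germ_eq F'.presheaf y hyW hyV _ t hσ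
      exact ⟨W', hyW', leOfHom i₂, rs F (leOfHom i₁) s, (app_rs u (leOfHom i₁) s).trans he⟩
    choose W hyW hWV s hs using hloc
    let O : X.Opens := ⨆ i, W i
    have hOV : O ≤ V := iSup_le hWV
    obtain ⟨t', ht'⟩ := (isCompact_of_le_affine hV hOV).elim_finite_subcover (fun i => (W i : Set X))
      (fun i => (W i).2) (fun y hy => Set.mem_iUnion.2 (Opens.mem_iSup.1 hy))
    have hsub : (V : Set X) ∩ (O : Set X)ᶜ ⊆ Z := fun y hy => by
      by_contra hyZ
      exact hy.2 (Opens.mem_iSup.2 ⟨⟨y, hy.1, hyZ⟩, hyW _⟩)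
    have hov : ∀ p : {i // i ∈ t'} × {i // i ∈ t'}, ∃ T : Cl Z,
        rs F (inf_le_right : T.U ⊓ (W p.1.1 ⊓ W p.2.1) ≤ _)
          (rs F inf_le_left (s p.1.1) - rs F inf_le_right (s p.2.1)) = 0 := fun p =>
      exists_eq_zero_of_germ hZ _ (hgerm _ (by
        rw [map_sub, app_rs, app_rs, hs, hs]
        simp only [t, rs_rs, sub_self]))
    choose T' hT' using hov
    let T : Cl Z := closCl hZ V O.2.isClosed_compl hsub ⊔
      (Finset.univ : Finset ({i // i ∈ t'} × {i // i ∈ t'})).sup T'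
    have hcov : ∀ y ∈ T.U ⊓ V, ∃ i : {i // i ∈ t'}, y ∈ T.U ⊓ W i.1 := fun y hy => by
      have hyO : y ∈ O := not_not.1 (closCl_U_inf_le hZ V O.2.isClosed_compl hsub
        ⟨Cl.U_anti le_sup_left hy.1, hy.2⟩)
      obtain ⟨i, hi, hyi⟩ := Set.mem_iUnion₂.1 (ht' hyO)
      exact ⟨⟨i, hi⟩, hy.1, hyi⟩
    obtain ⟨S, hS⟩ := glue F (fun i : {i // i ∈ t'} => T.U ⊓ W i.1) (fun i => inf_le_inf_left _ (hWV i.1))
      hcov (fun i => rs F inf_le_right (s i.1)) fun i j => by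
        have hl : T' (i, j) ≤ T := (Finset.le_sup (Finset.mem_univ _)).trans le_sup_right
        have h1 := congrArg (rs F (show (T.U ⊓ W i.1) ⊓ (T.U ⊓ W j.1) ≤ (T' (i, j)).U ⊓ (W i.1 ⊓ W j.1) from
          le_inf ((inf_le_left.trans inf_le_left).trans (Cl.U_anti hl))
            (le_inf (inf_le_left.trans inf_le_right) (inf_le_right.trans inf_le_right)))) (hT' (i, j))
        rw [map_sub, map_sub, map_zero, rs_rs, rs_rs, rs_rs, rs_rs, sub_eq_zero] at h1
        rw [rs_rs, rs_rs]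
        exact h1
    refine ⟨((H0 Z).obj F).presheaf.germ V x hxV (sec T V S), ?_⟩
    rw [stalk_map_germ, ← germ_rs F' hVV x hxV]
    refine congrArg _ (((closed_iff.1 hF') T V).1 ?_)
    rw [hvsec]
    refine ext_cover F' (fun i : {i // i ∈ t'} => T.U ⊓ W i.1) (fun i => inf_le_inf_left _ (hWV i.1))
      hcov _ _ fun i => ?_
    rw [← app_rs, hS, app_rs, hs]
    simp only [t, rs_rs]

end Groth.Agent.ZCl
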