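import Groth.Agent.ZCl.DepthAt
import Groth.Agent.AssLib.Points
/-!
Coherent Z-closures: open loci, restrictions, associated points.
-/
universe u
open AlgebraicGeometry CategoryTheory CategoryTheory.Limits TopologicalSpace Opposite ZClos
open Groth.Agent.WeakAssLib
set_option backward.isDefEq.respectTransparency false
set_option linter.style.haveILetI false
noncomputable section

namespace Groth.Agent.ZCl

variable {X : Scheme.{u}} {Z : Set X} {F : X.Modules}

theorem isQCoh_resPush [IsLocallyNoetherian X] (hF : Coh.IsQCoh F) (T : Cl Z) :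
    Coh.IsQCoh ((resPush T.U).obj F) := by
  haveI : IsLocallyNoetherian T.U.toScheme := inferInstance
  exact QC.isQCoh_pushforward (hM := QC.isQCoh_restrict T.U.ι hF) T.U.ι

theorem isQCoh_H0 [IsLocallyNoetherian X] (hF : Coh.IsQCoh F) : Coh.IsQCoh ((H0 Z).obj F) :=
  QC.isQCoh_colimit _ fun T => isQCoh_resPush hF T

/-- the app of a morphism, linearly -/
def appₗ {M N : X.Modules} (φ : M ⟶ N) (A : X.Opens) : Γ(M, A) →ₗ[Γ(X, A)] Γ(N, A) where
  toFun := φ.app A
  map_add' := map_add _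
  map_smul' r s := φ.app_smul r s

/-- bijectivity on stalks of a morphism of coherent modules is an open condition -/
theorem isOpen_stalk_bijective [IsLocallyNoetherian X] {M N : X.Modules} (hM : Coh.IsCoh M) (hN : Coh.IsCoh N)
    (φ : M ⟶ N) : IsOpen {x : X | Function.Bijective (stalkHom φ x)} := by
  classical
  refine isOpen_iff_forall_mem_open.2 fun x hx => ?_
  obtain ⟨A, hA, hxA, -⟩ := exists_isAffineOpen_mem_and_subset (show x ∈ (⊤ : X.Opens) from trivial)
  have : IsNoetherianRing Γ(X, A) := IsLocallyNoetherian.component_noetherian ⟨A, hA⟩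
  have : Module.Finite Γ(X, A) Γ(M, A) := (QC.isCoh_iff_finite_sections.mp hM).2 ⟨A, hA⟩
  have : Module.Finite Γ(X, A) Γ(N, A) := (QC.isCoh_iff_finite_sections.mp hN).2 ⟨A, hA⟩
  have hLM : QC.IsLoc M A := QC.isLoc_of_isQCoh hA (hM := hM.1)
  have hLN : QC.IsLoc N A := QC.isLoc_of_isQCoh hA (hM := hN.1)
  let f := appₗ φ A
  obtain ⟨G, hG⟩ := (IsNoetherian.noetherian (LinearMap.ker f) : (LinearMap.ker f).FG)
  have h1 : ∀ m : G, ∃ a, a ∉ (hA.primeIdealOf ⟨x, hxA⟩).asIdeal ∧ a • m.1 = 0 := fun m =>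
    (germ_eq_zero_iff hA hLM hxA _).1 (hx.1 (by
      rw [map_zero, stalkHom_germ, show φ.app A m.1 = 0 from (show m.1 ∈ LinearMap.ker f from hG ▸ Submodule.subset_span m.2),
        map_zero]))
  choose t ht htm using h1
  obtain ⟨G', hG'⟩ := (Module.Finite.fg_top : (⊤ : Submodule Γ(X, A) Γ(N, A)).FG)
  have h2 : ∀ n : G', ∃ a, a ∉ (hA.primeIdealOf ⟨x, hxA⟩).asIdeal ∧ a • n.1 ∈ LinearMap.range f := fun n => by
    obtain ⟨σ, hσ⟩ := hx.2 (mgerm N hxA n.1)
    obtain ⟨a, m, ha, ham⟩ := exists_germ hA hLM hxA σ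
    have h3 : mgerm N hxA (a • n.1 - φ.app A m) = 0 := by
      rw [map_sub, mgerm_smul, ← hσ, ← stalkHom_smul, ham, stalkHom_germ, sub_self]
    obtain ⟨b, hb, hbz⟩ := (germ_eq_zero_iff hA hLN hxA _).1 h3
    refine ⟨b * a, (hA.primeIdealOf ⟨x, hxA⟩).asIdeal.primeCompl.mul_mem hb ha, b • m, ?_⟩
    rw [smul_sub, sub_eq_zero] at hbz
    rw [mul_smul, hbz, map_smul]; rfl
  choose s hs hsn using h2
  let g := (∏ m : G, t m) * ∏ n : G', s n
  have hg : g ∉ (hA.primeIdealOf ⟨x, hxA⟩).asIdeal := by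
    refine (hA.primeIdealOf ⟨x, hxA⟩).asIdeal.primeCompl.mul_mem ?_ ?_ <;>
    intro hmem <;> obtain ⟨j, -, hj⟩ := (Ideal.IsPrime.prod_mem_iff).1 hmem
    exacts [ht j hj, hs j hj]
  have hker : ∀ m : Γ(M, A), f m = 0 → g • m = 0 := fun m hm => by
    have hmK : m ∈ Submodule.span Γ(X, A) (G : Set Γ(M, A)) := hG ▸ hm
    refine Submodule.span_induction (fun z hz => ?_) ?_ (fun a b _ _ ha hb => ?_) (fun a z _ hz => ?_) hmK
    · show ((∏ m : G, t m) * ∏ n : G', s n) • z = 0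
      rw [← Finset.prod_erase_mul _ _ (Finset.mem_univ (⟨z, hz⟩ : G)), mul_comm, ← mul_assoc, mul_smul, htm ⟨z, hz⟩, smul_zero]
    · simp
    · rw [smul_add, ha, hb, add_zero]
    · rw [smul_comm, hz, smul_zero]
  have hran : ∀ n : Γ(N, A), g • n ∈ LinearMap.range f := fun n => by
    have hn : n ∈ Submodule.span Γ(X, A) (G' : Set Γ(N, A)) := hG' ▸ Submodule.mem_top
    refine Submodule.span_induction (fun z hz => ?_) ?_ (fun a b _ _ ha hb => ?_) (fun a z _ hz => ?_) hn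
    · show ((∏ m : G, t m) * ∏ n : G', s n) • z ∈ _
      rw [← Finset.prod_erase_mul _ _ (Finset.mem_univ (⟨z, hz⟩ : G')), ← mul_assoc, mul_smul]
      exact Submodule.smul_mem _ _ (hsn ⟨z, hz⟩)
    · simp
    · rw [smul_add]; exact add_mem ha hb
    · rw [smul_comm]; exact Submodule.smul_mem _ _ hz
  refine ⟨X.basicOpen g, fun z hz => ?_, (X.basicOpen g).2, (mem_primeIdealOf hA hxA g).2 hg⟩
  have hzA : z ∈ A := X.basicOpen_le g hz
  have hgz := (mem_primeIdealOf hA hzA g).1 hz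
  constructor
  · refine (injective_iff_map_eq_zero _).2 fun σ hσ => ?_
    obtain ⟨a, m, ha, ham⟩ := exists_germ hA hLM hzA σ
    have h3 : mgerm N hzA (φ.app A m) = 0 := by rw [← stalkHom_germ, ← ham, stalkHom_smul, hσ, smul_zero]
    obtain ⟨b, hb, hbz⟩ := (germ_eq_zero_iff hA hLN hzA _).1 h3
    have h4 : mgerm M hzA m = 0 := (germ_eq_zero_iff hA hLM hzA _).2
      ⟨g * b, (hA.primeIdealOf ⟨z, hzA⟩).asIdeal.primeCompl.mul_mem hgz hb, by
        rw [mul_smul]; exact hker _ ((map_smul f b m).trans hbz)⟩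
    rw [← ham] at h4
    exact (isUnit_germ hA hzA ha).smul_eq_zero.1 h4
  · intro η
    obtain ⟨a, n, ha, han⟩ := exists_germ hA hLN hzA η
    obtain ⟨m, hm⟩ := hran n
    obtain ⟨e, he⟩ := isUnit_germ hA hzA ((hA.primeIdealOf ⟨z, hzA⟩).asIdeal.primeCompl.mul_mem hgz ha)
    refine ⟨(↑e⁻¹ : X.presheaf.stalk z) • mgerm M hzA m, ?_⟩
    rw [stalkHom_smul, stalkHom_germ, show φ.app A m = g • n from hm, mgerm_smul, ← han,
      ← mul_smul ((X.presheaf.germ A z hzA).hom g), ← map_mul, ← he, ← mul_smul, Units.inv_mul, one_smul]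

theorem isOpen_isZClosedAt [IsLocallyNoetherian X] (hF : Coh.IsCoh F) (hH : Coh.IsCoh ((H0 Z).obj F)) :
    IsOpen {x : X | IsZClosedAt Z F x} := isOpen_stalk_bijective hF hH (rhoApp Z F)

theorem isZClosedAt_iff_depth [IsLocallyNoetherian X] (hZ : StableUnderSpecialization Z) (hF : Coh.IsCoh F) (x : X) :
    IsZClosedAt Z F x ↔
      ∀ x' : X, x' ⤳ x → x' ∈ Z → (2 : ℕ∞) ≤ LocCoh.depth (X.presheaf.stalk x') (F.presheaf.stalk x') :=
  ⟨fun h _ h1 h2 => two_le_depth_of_isZClosedAt_self hZ hF h2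
    (isZClosedAt_of_specializes hZ hF (isQCoh_H0 hF.1) h h1), isZClosedAt_of_depth hF⟩

theorem isZClosedAt_of_isZClosed (h : IsZClosed Z F) (x : X) : IsZClosedAt Z F x := by
  haveI : IsIso (rhoApp Z F) := h
  haveI : IsIso (rhoApp Z F).mapPresheaf :=
    (inferInstance : IsIso ((Scheme.Modules.toPresheaf X).map (rhoApp Z F)))
  exact ConcreteCategory.bijective_of_isIso ((TopCat.Presheaf.stalkFunctor (C := Ab.{u}) x).map (rhoApp Z F).mapPresheaf)

/-- bijectivity for affine opens implies bijectivity for all opens -/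
theorem bij_of_affine (T : Cl Z) (U : X.Opens)
    (hU : ∀ A : X.Opens, IsAffineOpen A → A ≤ U → Function.Bijective (rs F (inf_le_right : T.U ⊓ A ≤ A)))
    {B : X.Opens} (hB : B ≤ U) : Function.Bijective (rs F (inf_le_right : T.U ⊓ B ≤ B)) := by
  have hi : ∀ B ≤ U, Function.Injective (rs F (inf_le_right : T.U ⊓ B ≤ B)) := fun B hB =>
    inj_of_cover T B fun x hx => by
      obtain ⟨A, hA, hxA, hAB⟩ := exists_isAffineOpen_mem_and_subset hx
      exact ⟨A, hxA, hAB, (hU A hA (le_trans hAB hB)).1⟩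
  refine ⟨hi B hB, fun σ => ?_⟩
  choose A hA hxA hAB using fun x : {x : X // x ∈ B} => exists_isAffineOpen_mem_and_subset x.2
  choose τ hτ using fun x : {x : X // x ∈ B} => (hU (A x) (hA x) (le_trans (hAB x) hB)).2
    (rs F (inf_le_inf_left T.U (hAB x)) σ)
  obtain ⟨S, hS⟩ := glue F A (fun x => hAB x) (fun x hx => ⟨⟨x, hx⟩, hxA _⟩) τ fun i j => by
    apply hi _ (inf_le_left.trans (le_trans (hAB i) hB))
    have e : ∀ (k : {x : X // x ∈ B}) (hk : A i ⊓ A j ≤ A k),
        rs F (inf_le_right : T.U ⊓ _ ≤ _) (rs F hk (τ k)) =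
          rs F (inf_le_inf_left T.U (hk.trans (hAB k))) σ := fun k hk => by
      rw [rs_rs, ← rs_rs F (inf_le_right : T.U ⊓ A k ≤ _) (inf_le_inf_left _ hk), hτ, rs_rs]
    rw [e i inf_le_left, e j inf_le_right]
  refine ⟨S, ext_cover F (fun x => T.U ⊓ A x) (fun x => inf_le_inf_left _ (hAB x))
    (fun x hx => ⟨⟨x, hx.2⟩, hx.1, hxA _⟩) _ _ fun i => ?_⟩
  rw [rs_rs, ← rs_rs F (hAB i) (inf_le_right : T.U ⊓ A i ≤ _), hS, hτ]

theorem isZClosed_restrict_of_depth [IsLocallyNoetherian X] (hZ : StableUnderSpecialization Z) (hF : Coh.IsCoh F)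
    (U : X.Opens)
    (h : ∀ x ∈ U, x ∈ Z → (2 : ℕ∞) ≤ LocCoh.depth (X.presheaf.stalk x) (F.presheaf.stalk x)) :
    IsZClosed (U.ι.base ⁻¹' Z) ((Scheme.Modules.restrictFunctor U.ι).obj F) := by
  refine closed_iff.2 fun T W => ?_
  obtain ⟨T', hT'⟩ := exists_cl_ext hZ U T
  rw [rs_restrict]
  refine bij_congr inf_le_right _ (hT' W).symm (bij_of_affine T' U (fun A hA hAU => ?_) ?_)
  · exact (bijective_rs_iff_depth F hF hA T'.U).2 fun y hy hyT => h y (hAU hy) (T'.2 (not_not.1 hyT))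
  · rintro z ⟨w, -, rfl⟩
    exact w.2

theorem two_le_depth_of_restrict [IsLocallyNoetherian X] (hZ : StableUnderSpecialization Z) (hF : Coh.IsCoh F)
    (V : X.Opens) (h : IsZClosed (V.ι.base ⁻¹' Z) ((Scheme.Modules.restrictFunctor V.ι).obj F))
    {y : X} (hyV : y ∈ V) (hy : y ∈ Z) :
    (2 : ℕ∞) ≤ LocCoh.depth (X.presheaf.stalk y) (F.presheaf.stalk y) := by
  obtain ⟨A, hA, hyA, hAV⟩ := exists_isAffineOpen_mem_and_subset hyV
  exact (bijective_rs_iff_depth F hF hA (clPt hZ hy).U).1 (bij_of_restrict V h (clPt hZ hy) hAV) y hyA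
    fun hm => mem_clPt_U.1 hm specializes_rfl

theorem depth_one_of_not_ass [IsLocallyNoetherian X] (hF : Coh.IsCoh F) {y : X} (hy : ¬ Curv2.IsAssPoint F y) :
    (1 : ℕ∞) ≤ LocCoh.depth (X.presheaf.stalk y) (F.presheaf.stalk y) := by
  obtain ⟨A, hA, hyA, -⟩ := exists_isAffineOpen_mem_and_subset (show y ∈ (⊤ : X.Opens) from trivial)
  have : IsNoetherianRing Γ(X, A) := IsLocallyNoetherian.component_noetherian ⟨A, hA⟩
  have : Module.Finite Γ(X, A) Γ(F, A) := (QC.isCoh_iff_finite_sections.mp hF).2 ⟨A, hA⟩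
  let q := (hA.primeIdealOf ⟨y, hyA⟩).asIdeal
  obtain ⟨a, ha, hreg⟩ := exists_reg_elem (M := Γ(F, A)) q q fun r _ hr hqr n hn =>
    hy (AssLib.isAssPoint_of_colon_eq hA (QC.isLoc_of_isQCoh hA (hM := hF.1)) hyA n (by
      ext c
      rw [LinearMap.mem_ker, LinearMap.toSpanSingleton_apply, hn c, le_antisymm hr hqr]))
  rw [depth_fromSpec hF hA hyA]
  refine (LocH.le_idealDepth_iff (IsLocalRing.maximalIdeal (Localization.AtPrime q))
    (LocalizedModule q.primeCompl Γ(F, A)) 1).2 fun i hi =>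
      LocH.subsingleton_of_isWeaklyRegular _ ([a].map (algebraMap Γ(X, A) (Localization.AtPrime q))) _
        ((LocH.weaklyRegular_localized_iff q.primeCompl [a]).2 fun j hj m hm => ?_) (fun r hr => ?_) i (by simpa using hi)
  · obtain rfl : j = 0 := by simpa using hj
    simp only [List.take_zero, Ideal.ofList_nil, Submodule.bot_smul, Submodule.mem_bot, List.getElem_cons_zero] at hm ⊢
    obtain ⟨t, ht, h⟩ := hreg m hm
    exact ⟨t, ht, h⟩
  · rw [← IsLocalization.AtPrime.map_eq_maximalIdeal q (Localization.AtPrime q)]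
    simp only [List.map_cons, List.map_nil, List.mem_cons, List.not_mem_nil, or_false] at hr
    rw [hr]
    exact Ideal.mem_map_of_mem _ ha

theorem isZPure_of_forall_at (h : ∀ x : X, IsZPureAt Z F x) : IsZPure Z F :=
  mono_of_injective _ fun V s t hst => ext_germ F s t fun x hx => h x (by
    exact (stalk_map_germ (rhoApp Z F) x hx s).trans ((congrArg _ hst).trans (stalk_map_germ (rhoApp Z F) x hx t).symm))

theorem isCoh_resPush [IsLocallyNoetherian X] (hF : Coh.IsCoh F) (hp : IsZPure Z F)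
    (hH : Coh.IsCoh ((H0 Z).obj F)) (T : Cl Z) : Coh.IsCoh ((resPush T.U).obj F) := by
  haveI : IsLocallyNoetherian T.U.toScheme := inferInstance
  refine QC.isCoh_iff_finite_sections.mpr ⟨isQCoh_resPush hF.1 T, fun A => ?_⟩
  have : IsNoetherianRing Γ(X, A.1) := IsLocallyNoetherian.component_noetherian A
  have : Module.Finite Γ(X, A.1) Γ((H0 Z).obj F, A.1) := (QC.isCoh_iff_finite_sections.mp hH).2 A
  have : _root_.IsNoetherian Γ(X, A.1) Γ(colimit ((diagram Z).obj F), A.1) :=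
    (inferInstance : _root_.IsNoetherian Γ(X, A.1) Γ((H0 Z).obj F, A.1))
  refine Module.Finite.of_injective (appₗ (colimit.ι ((diagram Z).obj F) T) A.1) ?_
  refine (injective_iff_map_eq_zero _).2 fun a ha => ?_
  have e : rs F (le_image T.U A.1) (rs F (image_le T.U A.1) a) = a :=
    (rs_rs F _ _ _).trans (rs_self F _ _)
  have h0 : sec T A.1 (rs F (image_le T.U A.1) a) = 0 := (congrArg _ e).trans ha
  obtain ⟨T', hT', hz⟩ := exists_eq_zero_of_sec A.2.isCompact _ h0
  have h1 : rs F (image_le T.U A.1) a = 0 := by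
    refine pure_iff.1 hp T' (T.U ⊓ A.1) ?_
    rw [map_zero]
    have hle : T'.U ⊓ (T.U ⊓ A.1) ≤ T'.U ⊓ A.1 := inf_le_inf_left _ inf_le_right
    have := congrArg (rs F hle) hz
    rw [rs_rs, map_zero] at this
    exact this
  rw [← e, h1, map_zero]

end Groth.Agent.ZCl
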