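import Groth.Agent.ZCl.Local
import Groth.Agent.LCZ.Scheme
import Groth.Agent.LocH.TildeCompl
import Groth.Agent.LocH.DepthMisc
import Groth.Agent.QC.Closure
import Groth.Agent.QC.Localisation
/-!
Restriction of sections of a coherent module off a closed subset, and depths of stalks.
-/
universe u
open AlgebraicGeometry CategoryTheory CategoryTheory.Limits TopologicalSpace Opposite ZClos
set_option backward.isDefEq.respectTransparency false
set_option linter.style.haveILetI false
noncomputable section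

namespace Groth.Agent.ZCl

variable {X : Scheme.{u}}

theorem rs_comm_iff {M N : X.Modules} (e : M ≅ N) {W V : X.Opens} (h : W ≤ V) :
    (Function.Injective (rs M h) ↔ Function.Injective (rs N h)) ∧
      (Function.Bijective (rs M h) ↔ Function.Bijective (rs N h)) := by
  have hb : ∀ W, Function.Bijective (e.hom.app W) := bijective_of_isIso e.hom
  have he : (rs N h : _ → _) ∘ e.hom.app V = e.hom.app W ∘ rs M h := by
    funext s
    exact (app_rs e.hom h s).symm
  constructor
  · constructor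
    · intro hi
      refine (Function.Injective.of_comp_iff' _ (hb V)).1 ?_
      rw [he]
      exact (hb W).1.comp hi
    · intro hi
      have := hi.comp (hb V).1
      rw [he] at this
      exact this.of_comp
  · constructor
    · intro hi
      refine (Function.Bijective.of_comp_iff _ (hb V)).1 ?_
      rw [he]
      exact (hb W).comp hi
    · intro hi
      have := hi.comp (hb V)
      rw [he] at this
      exact (Function.Bijective.of_comp_iff' (hb W) _).1 this

/-- sections over an affine open and off a closed subset, through the ideal of that subset -/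
theorem exists_ideal_bijective_rs_iff [IsLocallyNoetherian X] (F : X.Modules) (hF : Coh.IsCoh F) {V : X.Opens}
    (hV : IsAffineOpen V) (U : X.Opens) :
    ∃ J : Ideal Γ(X, V), (∀ p : PrimeSpectrum Γ(X, V), J ≤ p.asIdeal ↔ hV.fromSpec p ∉ U) ∧
      (Function.Injective (rs F (inf_le_right : U ⊓ V ≤ V)) ↔ (1 : ℕ∞) ≤ LocCoh.idealDepth J Γ(F, V)) ∧
      (Function.Bijective (rs F (inf_le_right : U ⊓ V ≤ V)) ↔ (2 : ℕ∞) ≤ LocCoh.idealDepth J Γ(F, V)) := by
  have : F.IsQuasicoherent := hF.1
  have : Module.Finite Γ(X, V) Γ(F, V) := (Groth.Agent.QC.isCoh_iff_finite_sections.mp hF).2 ⟨V, hV⟩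
  have : IsNoetherianRing Γ(X, V) := IsLocallyNoetherian.component_noetherian ⟨V, hV⟩
  let f := hV.fromSpec
  let W : (Spec Γ(X, V)).Opens := f ⁻¹ᵁ U
  obtain ⟨J, hJ⟩ := Groth.Agent.LCZ.exists_eq_openCompl (A := Γ(X, V)) W
  have hJp : ∀ p : PrimeSpectrum Γ(X, V), J ≤ p.asIdeal ↔ f p ∉ U := fun p => by
    have h1 : p ∈ EGA4.openCompl Γ(X, V) J ↔ f p ∈ U := by rw [hJ]; rfl
    rw [← not_iff_not, not_not, ← h1]
    rfl
  let P := F.restrict f
  have : P.IsQuasicoherent := Groth.Agent.QC.isQCoh_restrict f ‹F.IsQuasicoherent›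
  let N : ModuleCat.{u} Γ(X, V) := (modulesSpecToSheaf.obj P).presheaf.obj (op ⊤)
  let eU := Groth.Agent.QC.secEquiv hV F ⊤ (Groth.Agent.QC.image_fromSpec_top hV)
  let eL : N ≃ₗ[Γ(X, V)] Γ(F, V) :=
    { eU with
      map_smul' := fun r s => by
        have h2 := Groth.Agent.QC.secEquiv_smul (M := F) hV _ (Groth.Agent.QC.image_fromSpec_top hV) r s
        rw [Groth.Agent.QC.resO_self] at h2
        exact h2 }
  have : Module.Finite Γ(X, V) N := Module.Finite.equiv eL.symm
  have e0 : LocCoh.idealDepth J N = LocCoh.idealDepth J Γ(F, V) := Groth.Agent.LocH.idealDepth_congr eL J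
  have hle : EGA4.openCompl Γ(X, V) J ≤ (⊤ : (Spec Γ(X, V)).Opens) := le_top
  have himg : f ''ᵁ EGA4.openCompl Γ(X, V) J = U ⊓ V := by
    rw [hJ, Scheme.Hom.image_preimage_eq_opensRange_inf, hV.opensRange_fromSpec, inf_comm]
  have htop : f ''ᵁ (⊤ : (Spec Γ(X, V)).Opens) = V := Groth.Agent.QC.image_fromSpec_top hV
  have e1 : (Function.Injective (rs F (inf_le_right : U ⊓ V ≤ V)) ↔
        Function.Injective (rs (tilde N) hle)) ∧
      (Function.Bijective (rs F (inf_le_right : U ⊓ V ≤ V)) ↔ Function.Bijective (rs (tilde N) hle)) := by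
    obtain ⟨a, b⟩ := rs_comm_iff (Groth.Agent.QC.isoTildeΓ P) hle
    refine ⟨?_, ?_⟩
    · refine Iff.trans ⟨inj_congr2 _ (f.image_mono hle) himg.symm htop.symm,
        inj_congr2 (f.image_mono hle) _ himg htop⟩ a.symm
    · refine Iff.trans ⟨bij_congr2 _ (f.image_mono hle) himg.symm htop.symm,
        bij_congr2 (f.image_mono hle) _ himg htop⟩ b.symm
  refine ⟨J, hJp, ?_, ?_⟩
  · rw [e1.1, ← e0]
    exact (Groth.Agent.LocH.injective_restrCompl_iff (M := N) J).trans (Groth.Agent.LocH.torsionSub_eq_bot_iff J)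
  · rw [e1.2, ← e0]
    exact Groth.Agent.LocH.bijective_restrCompl_iff_two_le (M := N) J

theorem le_idealDepth_iff_stalk [IsLocallyNoetherian X] (F : X.Modules) (hF : Coh.IsCoh F) {V : X.Opens}
    (hV : IsAffineOpen V) (U : X.Opens) {J : Ideal Γ(X, V)}
    (hJ : ∀ p : PrimeSpectrum Γ(X, V), J ≤ p.asIdeal ↔ hV.fromSpec p ∉ U) (n : ℕ) :
    (n : ℕ∞) ≤ LocCoh.idealDepth J Γ(F, V) ↔
      ∀ x ∈ V, x ∉ U → (n : ℕ∞) ≤ LocCoh.depth (X.presheaf.stalk x) (F.presheaf.stalk x) := by
  have : Module.Finite Γ(X, V) Γ(F, V) := (Groth.Agent.QC.isCoh_iff_finite_sections.mp hF).2 ⟨V, hV⟩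
  have : IsNoetherianRing Γ(X, V) := IsLocallyNoetherian.component_noetherian ⟨V, hV⟩
  rw [Groth.Agent.LocH.le_idealDepth_iff_forall_prime]
  constructor
  · intro H x hxV hxU
    rw [← SetLike.mem_coe, ← hV.range_fromSpec] at hxV
    obtain ⟨p, rfl⟩ := hxV
    rw [Groth.Agent.LCZ.depth_stalk_eq F hF hV p]
    exact H p ((hJ p).2 hxU)
  · intro H p hp
    rw [← Groth.Agent.LCZ.depth_stalk_eq F hF hV p]
    refine H _ ?_ ((hJ p).1 hp)
    rw [← SetLike.mem_coe, ← hV.range_fromSpec]
    exact ⟨p, rfl⟩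

/-- sections restrict injectively off a closed subset iff the depths there are positive -/
theorem injective_rs_iff_depth [IsLocallyNoetherian X] (F : X.Modules) (hF : Coh.IsCoh F) {V : X.Opens}
    (hV : IsAffineOpen V) (U : X.Opens) :
    Function.Injective (rs F (inf_le_right : U ⊓ V ≤ V)) ↔
      ∀ x ∈ V, x ∉ U → (1 : ℕ∞) ≤ LocCoh.depth (X.presheaf.stalk x) (F.presheaf.stalk x) := by
  obtain ⟨J, hJ, h, -⟩ := exists_ideal_bijective_rs_iff F hF hV U
  rw [h]
  exact_mod_cast le_idealDepth_iff_stalk F hF hV U hJ 1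

/-- sections extend uniquely across a closed subset iff the depths there are at least two -/
theorem bijective_rs_iff_depth [IsLocallyNoetherian X] (F : X.Modules) (hF : Coh.IsCoh F) {V : X.Opens}
    (hV : IsAffineOpen V) (U : X.Opens) :
    Function.Bijective (rs F (inf_le_right : U ⊓ V ≤ V)) ↔
      ∀ x ∈ V, x ∉ U → (2 : ℕ∞) ≤ LocCoh.depth (X.presheaf.stalk x) (F.presheaf.stalk x) := by
  obtain ⟨J, hJ, -, h⟩ := exists_ideal_bijective_rs_iff F hF hV U
  rw [h]
  exact_mod_cast le_idealDepth_iff_stalk F hF hV U hJ 2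

end Groth.Agent.ZCl
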