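import Mathlib
import Groth.Agent.LocH.Depth
import Groth.Agent.LocH.Spread
/-!
Depth two spreads from a prime to a neighbourhood.
-/
universe u
open RingTheory.Sequence
open scoped Pointwise

namespace Groth.Agent.ZCl

variable {A : Type u} [CommRing A] [IsNoetherianRing A] {M : Type u} [AddCommGroup M] [Module A M]

/-- a nonzero element of the localization has an exact annihilator below the prime -/
theorem exists_ass_le {p : Ideal A} [p.IsPrime] {m : M} (h : ∀ t ∉ p, t • m ≠ 0) :
    ∃ (q : Ideal A) (_ : q.IsPrime) (n : M), q ≤ p ∧ (∀ a : A, a • m = 0 → a ∈ q) ∧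
      ∀ a : A, a • n = 0 ↔ a ∈ q := by
  have hle : Submodule.colon (⊥ : Submodule A M) {m} ≤ p := fun a ha => by
    by_contra hap
    exact h a hap (by simpa [Submodule.mem_colon_singleton] using ha)
  obtain ⟨q, hq, hqp⟩ := Ideal.exists_minimalPrimes_le hle
  obtain ⟨n, hn⟩ := Submodule.exists_eq_colon_of_mem_minimalPrimes hq
  refine ⟨q, hq.1.1, n, hqp, fun a ha => hq.1.2 (by simpa [Submodule.mem_colon_singleton] using ha), fun a => ?_⟩
  rw [hn]
  simp [Submodule.mem_colon_singleton]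

theorem exists_regular_pair {R : Type u} [CommRing R] [IsLocalRing R] [IsNoetherianRing R] (L : Type u)
    [AddCommGroup L] [Module R L] [Module.Finite R L] (n : ℕ) (h : (n : ℕ∞) ≤ LocCoh.depth R L) :
    ∃ rs : List R, rs.length = n ∧ IsWeaklyRegular L rs ∧ ∀ r ∈ rs, r ∈ IsLocalRing.maximalIdeal R :=
  LocH.exists_isWeaklyRegular _ n L ((LocH.le_idealDepth_iff _ L n).1 h)

theorem mk_eq_zero_iff' (q : Ideal A) [q.IsPrime] (m : M) :
    LocalizedModule.mk m (1 : q.primeCompl) = 0 ↔ ∃ t ∉ q, t • m = 0 := by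
  constructor
  · intro h
    obtain ⟨t, ht⟩ := (IsLocalizedModule.eq_zero_iff q.primeCompl (LocalizedModule.mkLinearMap q.primeCompl M)).1 h
    exact ⟨t, t.2, ht⟩
  · rintro ⟨t, ht, h⟩
    exact (IsLocalizedModule.eq_zero_iff q.primeCompl (LocalizedModule.mkLinearMap q.primeCompl M)).2 ⟨⟨t, ht⟩, h⟩

/-- depth at least one excludes exact annihilators -/
theorem not_ann_eq_of_depth [Module.Finite A M] {q : Ideal A} [q.IsPrime]
    (h : (1 : ℕ∞) ≤ LocCoh.depth (Localization.AtPrime q) (LocalizedModule q.primeCompl M)) (n : M) :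
    ¬ ∀ a : A, a • n = 0 ↔ a ∈ q := by
  intro hn
  obtain ⟨rs, hlen, hrs, hmem⟩ := exists_regular_pair _ 1 (by exact_mod_cast h)
  obtain ⟨r, rfl⟩ := List.length_eq_one_iff.1 hlen
  have hr : IsSMulRegular (LocalizedModule q.primeCompl M) r := ((isWeaklyRegular_cons_iff _ r []).1 hrs).1
  have hrq : r ∈ q.map (algebraMap A (Localization.AtPrime q)) := by
    rw [IsLocalization.AtPrime.map_eq_maximalIdeal q (Localization.AtPrime q)]
    exact hmem r (by simp)
  have hall : ∀ r' ∈ q.map (algebraMap A (Localization.AtPrime q)),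
      r' • LocalizedModule.mk n (1 : q.primeCompl) = 0 := fun r' hr' => by
    induction hr' using Submodule.span_induction with
    | mem a ha =>
      obtain ⟨c, hc, rfl⟩ := ha
      rw [algebraMap_smul, LocalizedModule.smul'_mk, (hn c).2 hc, LocalizedModule.zero_mk]
    | zero => exact zero_smul _ _
    | add a b _ _ ha hb => rw [add_smul, ha, hb, add_zero]
    | smul c a _ ha => rw [smul_eq_mul, mul_smul, ha, smul_zero]
  have h0 := hall r hrq
  obtain ⟨t, ht, htn⟩ := (mk_eq_zero_iff' q n).1 (hr.right_eq_zero_of_smul h0)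
  exact ht ((hn t).1 htn)

/-- an element of the ideal which is regular at the prime -/
theorem exists_reg_elem [Module.Finite A M] (J p : Ideal A) [p.IsPrime]
    (h : ∀ (q : Ideal A) [q.IsPrime], q ≤ p → J ≤ q → ∀ n : M, ¬ ∀ a : A, a • n = 0 ↔ a ∈ q) :
    ∃ x ∈ J, ∀ m : M, x • m = 0 → ∃ t ∉ p, t • m = 0 := by
  classical
  have hfin : {q ∈ associatedPrimes A M | q ≤ p}.Finite := (associatedPrimes.finite A M).subset fun q hq => hq.1
  have hnot : ¬ ((J : Set A) ⊆ ⋃ q ∈ (↑hfin.toFinset : Set (Ideal A)), (q : Set A)) := fun hsub => by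
    obtain ⟨q, hq, hJq⟩ := (Ideal.subset_union_prime (s := hfin.toFinset) (f := fun q => q) ⊥ ⊥
      (fun q hq _ _ => ((hfin.mem_toFinset.1 hq).1).isPrime)).1 hsub
    obtain ⟨hass, hqp⟩ := hfin.mem_toFinset.1 hq
    obtain ⟨hprime, n, hn⟩ := isAssociatedPrime_iff.1 hass
    exact h q hqp hJq n fun a => by rw [hn]; simp [Submodule.mem_colon_singleton]
  obtain ⟨x, hxJ, hx⟩ := Set.not_subset.1 hnot
  refine ⟨x, hxJ, fun m hm => ?_⟩
  by_contra hc
  push Not at hc
  obtain ⟨q, hq, n, hqp, hle, hn⟩ := exists_ass_le hc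
  refine hx (Set.mem_biUnion (x := q) (hfin.mem_toFinset.2 ⟨?_, hqp⟩) (hle x hm))
  exact isAssociatedPrime_iff.2 ⟨hq, n, by ext a; rw [← hn a]; simp [Submodule.mem_colon_singleton]⟩

theorem exists_smul_eq_of_pair {R L : Type*} [CommRing R] [AddCommGroup L] [Module R L] {a b x : R}
    (ha : IsSMulRegular L a) (hb : IsSMulRegular (QuotSMulTop a L) b) (hx : IsSMulRegular L x) {μ c d : L}
    (hc : a • μ = x • c) (hd : b • μ = x • d) : ∃ e, μ = x • e := by
  have h1 : b • c = a • d := hx (by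
    change x • b • c = x • a • d
    rw [smul_comm x b c, smul_comm x a d, ← hc, ← hd, smul_comm])
  have h2 : (Submodule.Quotient.mk c : QuotSMulTop a L) = 0 := hb.right_eq_zero_of_smul (by
    rw [← Submodule.Quotient.mk_smul, h1, Submodule.Quotient.mk_eq_zero, Submodule.mem_smul_pointwise_iff_exists]
    exact ⟨d, Submodule.mem_top, rfl⟩)
  rw [Submodule.Quotient.mk_eq_zero, Submodule.mem_smul_pointwise_iff_exists] at h2
  obtain ⟨e, -, rfl⟩ := h2
  exact ⟨e, ha (by change a • μ = a • x • e; rw [hc, smul_comm])⟩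

theorem mem_span_smul_top_iff (x : A) (m : M) :
    m ∈ Ideal.span {x} • (⊤ : Submodule A M) ↔ ∃ c : M, x • c = m := by
  rw [Submodule.ideal_span_singleton_smul, Submodule.mem_smul_pointwise_iff_exists]
  simp

/-- modulo a regular element there is no exact annihilator where the depth is two -/
theorem not_ann_quot_of_depth [Module.Finite A M] {q : Ideal A} [q.IsPrime] {x : A}
    (h : (2 : ℕ∞) ≤ LocCoh.depth (Localization.AtPrime q) (LocalizedModule q.primeCompl M))
    (hxreg : ∀ m : M, x • m = 0 → ∃ t ∉ q, t • m = 0)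
    (n : M ⧸ (Ideal.span {x} • (⊤ : Submodule A M))) : ¬ ∀ a : A, a • n = 0 ↔ a ∈ q := by
  intro hn
  obtain ⟨m, rfl⟩ := Submodule.Quotient.mk_surjective _ n
  obtain ⟨rs, hlen, hrs, hmem⟩ := exists_regular_pair _ 2 (by exact_mod_cast h)
  obtain ⟨a, b, rfl⟩ := List.length_eq_two.1 hlen
  obtain ⟨ha, hb⟩ := (isWeaklyRegular_cons_iff _ a [b]).1 hrs
  let μ := LocalizedModule.mk m (1 : q.primeCompl)
  let x' := algebraMap A (Localization.AtPrime q) x
  have hx' : IsSMulRegular (LocalizedModule q.primeCompl M) x' := by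
    refine isSMulRegular_iff_right_eq_zero_of_smul.2 fun z hz => ?_
    induction z using LocalizedModule.induction_on with
    | h c s =>
      rw [algebraMap_smul, LocalizedModule.smul'_mk] at hz
      obtain ⟨u, hu⟩ := LocalizedModule.mk_eq.1 (hz.trans (LocalizedModule.zero_mk 1).symm)
      simp only [Submonoid.smul_def, Submonoid.coe_one, one_smul, smul_zero] at hu
      obtain ⟨t, ht, htc⟩ := hxreg ((u : A) • c) (by rw [smul_comm, hu])
      refine (LocalizedModule.mk_eq.2 ⟨⟨t * u, q.primeCompl.mul_mem ht u.2⟩, ?_⟩).trans (LocalizedModule.zero_mk 1)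
      simp only [Submonoid.smul_def, Submonoid.coe_one, one_smul, smul_zero, mul_smul, htc]
  have hmax : ∀ r ∈ IsLocalRing.maximalIdeal (Localization.AtPrime q), ∃ c, r • μ = x' • c := by
    intro r hr
    rw [← IsLocalization.AtPrime.map_eq_maximalIdeal q (Localization.AtPrime q)] at hr
    induction hr using Submodule.span_induction with
    | mem r hr =>
      obtain ⟨c, hc, rfl⟩ := hr
      have h1 := (hn c).2 hc
      rw [← Submodule.Quotient.mk_smul, Submodule.Quotient.mk_eq_zero, mem_span_smul_top_iff] at h1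
      obtain ⟨e, he⟩ := h1
      exact ⟨LocalizedModule.mk e 1, by
        simp only [μ, x', algebraMap_smul, LocalizedModule.smul'_mk, he]⟩
    | zero => exact ⟨0, by rw [zero_smul, smul_zero]⟩
    | add r r' _ _ hr hr' =>
      obtain ⟨c, hc⟩ := hr
      obtain ⟨c', hc'⟩ := hr'
      exact ⟨c + c', by rw [add_smul, hc, hc', smul_add]⟩
    | smul s r _ hr =>
      obtain ⟨c, hc⟩ := hr
      exact ⟨s • c, by rw [smul_eq_mul, mul_smul, hc, smul_comm]⟩
  obtain ⟨c, hc⟩ := hmax a (hmem a (by simp))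
  obtain ⟨d, hd⟩ := hmax b (hmem b (by simp))
  obtain ⟨e, he⟩ := exists_smul_eq_of_pair ha ((isWeaklyRegular_cons_iff _ b []).1 hb).1 hx' hc hd
  induction e using LocalizedModule.induction_on with
  | h c s =>
    simp only [μ, x', algebraMap_smul, LocalizedModule.smul'_mk] at he
    obtain ⟨u, hu⟩ := LocalizedModule.mk_eq.1 he
    simp only [Submonoid.smul_def, Submonoid.coe_one, one_smul] at hu
    refine (q.primeCompl.mul_mem u.2 s.2) ((hn _).1 ?_)
    rw [← Submodule.Quotient.mk_smul, Submodule.Quotient.mk_eq_zero, mem_span_smul_top_iff, mul_smul, hu]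
    exact ⟨(u : A) • c, smul_comm _ _ _⟩

theorem two_le_depth_of_pair [Module.Finite A M] {q : Ideal A} [q.IsPrime] {x y : A} (hx : x ∈ q) (hy : y ∈ q)
    (h : IsWeaklyRegular (LocalizedModule q.primeCompl M) ([x, y].map (algebraMap A (Localization.AtPrime q)))) :
    (2 : ℕ∞) ≤ LocCoh.depth (Localization.AtPrime q) (LocalizedModule q.primeCompl M) := by
  refine (LocH.le_idealDepth_iff (IsLocalRing.maximalIdeal (Localization.AtPrime q))
    (LocalizedModule q.primeCompl M) 2).2 fun i hi =>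
      LocH.subsingleton_of_isWeaklyRegular _ _ _ h (fun r hr => ?_) i (by simpa using hi)
  rw [← IsLocalization.AtPrime.map_eq_maximalIdeal q (Localization.AtPrime q)]
  simp only [List.map_cons, List.map_nil, List.mem_cons, List.not_mem_nil, or_false] at hr
  rcases hr with rfl | rfl
  · exact Ideal.mem_map_of_mem _ hx
  · exact Ideal.mem_map_of_mem _ hy

theorem weaklyRegular_pair {p : Ideal A} [p.IsPrime] {x y : A}
    (hx : ∀ m : M, x • m = 0 → ∃ t ∉ p, t • m = 0)
    (hy : ∀ n : M ⧸ (Ideal.span {x} • (⊤ : Submodule A M)), y • n = 0 → ∃ t ∉ p, t • n = 0) :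
    IsWeaklyRegular (LocalizedModule p.primeCompl M) ([x, y].map (algebraMap A (Localization.AtPrime p))) := by
  rw [LocH.weaklyRegular_localized_iff]
  intro i hi m hm
  rcases i with _ | _ | i
  · simp only [List.take_zero, Ideal.ofList_nil, Submodule.bot_smul, Submodule.mem_bot, List.getElem_cons_zero] at hm ⊢
    obtain ⟨t, ht, h⟩ := hx m hm
    exact ⟨t, ht, h⟩
  · simp only [List.take_succ_cons, List.take_zero, Ideal.ofList_singleton, List.getElem_cons_succ,
      List.getElem_cons_zero] at hm ⊢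
    obtain ⟨t, ht, h⟩ := hy (Submodule.Quotient.mk m) (by rwa [← Submodule.Quotient.mk_smul, Submodule.Quotient.mk_eq_zero])
    exact ⟨t, ht, by rwa [← Submodule.Quotient.mk_smul, Submodule.Quotient.mk_eq_zero] at h⟩
  · simp at hi

/-- depth two at all primes of `V(J)` below `p` holds near `p` -/
theorem exists_spread_two [Module.Finite A M] (J p : Ideal A) [p.IsPrime]
    (h : ∀ (q : Ideal A) [q.IsPrime], q ≤ p → J ≤ q →
      (2 : ℕ∞) ≤ LocCoh.depth (Localization.AtPrime q) (LocalizedModule q.primeCompl M)) :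
    ∃ g ∉ p, ∀ (q : Ideal A) [q.IsPrime], g ∉ q → J ≤ q →
      (2 : ℕ∞) ≤ LocCoh.depth (Localization.AtPrime q) (LocalizedModule q.primeCompl M) := by
  by_cases hJ : J ≤ p
  swap
  · obtain ⟨g, hgJ, hgp⟩ := Set.not_subset.1 hJ
    exact ⟨g, hgp, fun q _ hgq hJq => absurd (hJq hgJ) hgq⟩
  obtain ⟨x, hxJ, hx⟩ := exists_reg_elem (M := M) J p fun q _ hq hJq =>
    not_ann_eq_of_depth (le_trans (by norm_num) (h q hq hJq))
  obtain ⟨y, hyJ, hy⟩ := exists_reg_elem (M := M ⧸ (Ideal.span {x} • (⊤ : Submodule A M))) J p fun q _ hq hJq =>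
    not_ann_quot_of_depth (h q hq hJq) fun m hm => by
      obtain ⟨t, ht, htm⟩ := hx m hm
      exact ⟨t, fun htq => ht (hq htq), htm⟩
  obtain ⟨g, hg, hgq⟩ := LocH.exists_notMem_weaklyRegular p [x, y] (weaklyRegular_pair hx hy)
  exact ⟨g, hg, fun q _ hgnq hJq => two_le_depth_of_pair (hJq hxJ) (hJq hyJ) (hgq q hgnq)⟩

end Groth.Agent.ZCl
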