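import Groth.Agent.ZCl.Depth
import Groth.Agent.ZCl.Alg
import Groth.Agent.AssLib.Push
import Groth.Agent.WeakAssLib.Stalk
import Groth.Prelude.Def_CurvBase
/-!
Z-purity and Z-closedness at a point, by depths at the generizations.
-/
universe u
open AlgebraicGeometry CategoryTheory CategoryTheory.Limits TopologicalSpace Opposite ZClos
open Groth.Agent.WeakAssLib
set_option backward.isDefEq.respectTransparency false
set_option linter.style.haveILetI false
noncomputable section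

namespace Groth.Agent.ZCl

variable {X : Scheme.{u}} {Z : Set X} {F : X.Modules}

theorem fromSpec_primeIdealOf' {A : X.Opens} (hA : IsAffineOpen A) {x : X} (hx : x ∈ A) :
    hA.fromSpec (hA.primeIdealOf ⟨x, hx⟩) = x := hA.fromSpec_primeIdealOf ⟨x, hx⟩

theorem le_of_specializes {A : X.Opens} (hA : IsAffineOpen A) {x y : X} (hx : x ∈ A) (hy : y ∈ A) (h : y ⤳ x) :
    (hA.primeIdealOf ⟨y, hy⟩).asIdeal ≤ (hA.primeIdealOf ⟨x, hx⟩).asIdeal := by
  refine (PrimeSpectrum.le_iff_specializes _ _).2 (hA.fromSpec.isOpenEmbedding.isInducing.specializes_iff.1 ?_)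
  rw [fromSpec_primeIdealOf' hA hx, fromSpec_primeIdealOf' hA hy]
  exact h

/-- the closure of a point of `Z` as an index -/
def clPt (hZ : StableUnderSpecialization Z) {y : X} (hy : y ∈ Z) : Cl Z :=
  ⟨⟨closure {y}, isClosed_closure⟩, fun _ hz => hZ (specializes_iff_mem_closure.2 hz) hy⟩

theorem mem_clPt_U {hZ : StableUnderSpecialization Z} {y : X} {hy : y ∈ Z} {z : X} :
    z ∈ (clPt hZ hy).U ↔ ¬ y ⤳ z := by
  rw [specializes_iff_mem_closure]; rfl

/-- a germ killed off a closed subset in `Z` is killed by `ρ` -/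
theorem rhoStalk_germ_eq_zero (T : Cl Z) {W : X.Opens} {x : X} (hx : x ∈ W) (t : Γ(F, W))
    (h : rs F (inf_le_right : T.U ⊓ W ≤ W) t = 0) : rhoStalk Z F x (F.presheaf.germ W x hx t) = 0 := by
  refine (stalk_map_germ (rhoApp Z F) x hx t).trans ?_
  rw [rho_sec T, h, sec_zero, map_zero]

theorem depth_fromSpec [IsLocallyNoetherian X] (hF : Coh.IsCoh F) {A : X.Opens} (hA : IsAffineOpen A)
    {y : X} (hy : y ∈ A) :
    LocCoh.depth (X.presheaf.stalk y) (F.presheaf.stalk y) =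
      LocCoh.depth (Localization.AtPrime (hA.primeIdealOf ⟨y, hy⟩).asIdeal)
        (LocalizedModule (hA.primeIdealOf ⟨y, hy⟩).asIdeal.primeCompl Γ(F, A)) := by
  have h := LCZ.depth_stalk_eq F hF hA (hA.primeIdealOf ⟨y, hy⟩)
  rw [fromSpec_primeIdealOf' hA hy] at h
  exact h

theorem isZPureAt_of_depth [IsLocallyNoetherian X] (hF : Coh.IsCoh F) {x : X}
    (h : ∀ x' : X, x' ⤳ x → x' ∈ Z → (1 : ℕ∞) ≤ LocCoh.depth (X.presheaf.stalk x') (F.presheaf.stalk x')) :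
    IsZPureAt Z F x := by
  refine (injective_iff_map_eq_zero (rhoStalk Z F x).hom).2 fun σ hσ => ?_
  obtain ⟨V, hxV, t, rfl⟩ := TopCat.Presheaf.exists_germ_eq F.presheaf (x := x) σ
  have h0 := (stalk_map_germ (rhoApp Z F) x hxV t).symm.trans hσ
  rw [rho_sec ⊥] at h0
  obtain ⟨T, hT, W, hxW, hW, he⟩ := germ_sec_eq_zero hxV _ h0
  rw [rs_rs] at he
  obtain ⟨A, hA, hxA, hAW⟩ := exists_isAffineOpen_mem_and_subset hxW
  have hAV : A ≤ V := le_trans hAW hW
  have hL : QC.IsLoc F A := QC.isLoc_of_isQCoh hA (hM := hF.1)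
  have : IsNoetherianRing Γ(X, A) := IsLocallyNoetherian.component_noetherian ⟨A, hA⟩
  have : Module.Finite Γ(X, A) Γ(F, A) := (QC.isCoh_iff_finite_sections.mp hF).2 ⟨A, hA⟩
  let m : Γ(F, A) := rs F hAV t
  rw [← germ_rs F hAV x hxA t]
  by_contra hne
  have hc : ∀ a ∉ (hA.primeIdealOf ⟨x, hxA⟩).asIdeal, a • m ≠ 0 := fun a ha hz =>
    hne ((germ_eq_zero_iff hA hL hxA m).2 ⟨a, ha, hz⟩)
  obtain ⟨q, hq, n, hqp, hle, hn⟩ := exists_ass_le hc
  let y := hA.fromSpec ⟨q, hq⟩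
  have hyA : y ∈ A := by rw [← SetLike.mem_coe, ← hA.range_fromSpec]; exact ⟨_, rfl⟩
  have hyq : hA.primeIdealOf ⟨y, hyA⟩ = ⟨q, hq⟩ :=
    hA.fromSpec.isOpenEmbedding.injective (fromSpec_primeIdealOf' hA hyA)
  have hyx : y ⤳ x := AssLib.specializes_of_le hA hyA hxA (by rw [hyq]; exact hqp)
  have hyT : y ∉ T.U := fun hyT => by
    have h1 : mgerm F hyA m = 0 := by
      show F.presheaf.germ A y hyA (rs F hAV t) = 0
      rw [germ_rs, ← germ_rs F (inf_le_right.trans hW) y (show y ∈ T.U ⊓ W from ⟨hyT, hAW hyA⟩) t, he, map_zero]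
    obtain ⟨a, ha, ham⟩ := (germ_eq_zero_iff hA hL hyA m).1 h1
    rw [hyq] at ha
    exact ha (hle a ham)
  have hd := h y hyx (T.2 (not_not.1 hyT))
  rw [depth_fromSpec hF hA hyA, hyq] at hd
  exact not_ann_eq_of_depth hd n hn

theorem depth_one_of_isZPureAt [IsLocallyNoetherian X] (hZ : StableUnderSpecialization Z) (hF : Coh.IsCoh F)
    {x : X} (h : IsZPureAt Z F x) {y : X} (hyx : y ⤳ x) (hy : y ∈ Z) :
    (1 : ℕ∞) ≤ LocCoh.depth (X.presheaf.stalk y) (F.presheaf.stalk y) := by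
  obtain ⟨A, hA, hxA, -⟩ := exists_isAffineOpen_mem_and_subset (show x ∈ (⊤ : X.Opens) from trivial)
  have hyA : y ∈ A := hyx.mem_open A.2 hxA
  have : IsNoetherianRing Γ(X, A) := IsLocallyNoetherian.component_noetherian ⟨A, hA⟩
  have : Module.Finite Γ(X, A) Γ(F, A) := (QC.isCoh_iff_finite_sections.mp hF).2 ⟨A, hA⟩
  have hL : QC.IsLoc F A := QC.isLoc_of_isQCoh hA (hM := hF.1)
  let q := (hA.primeIdealOf ⟨y, hyA⟩).asIdeal
  have hnot : ∀ n : Γ(F, A), ¬ ∀ a : Γ(X, A), a • n = 0 ↔ a ∈ q := fun n hn => by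
    have h0 : rhoStalk Z F x (F.presheaf.germ A x hxA n) = 0 := by
      refine rhoStalk_germ_eq_zero (clPt hZ hy) hxA n (ext_germ F _ _ fun z hz => ?_)
      rw [germ_rs, map_zero]
      have hnle : ¬ q ≤ (hA.primeIdealOf ⟨z, hz.2⟩).asIdeal := fun hle =>
        mem_clPt_U.1 hz.1 (AssLib.specializes_of_le hA hyA hz.2 hle)
      obtain ⟨a, ha, haz⟩ := SetLike.not_le_iff_exists.1 hnle
      exact (germ_eq_zero_iff hA hL hz.2 n).2 ⟨a, haz, (hn a).2 ha⟩
    obtain ⟨a, ha, han⟩ := (germ_eq_zero_iff hA hL hxA n).1 (h (h0.trans (map_zero _).symm))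
    exact ha (le_of_specializes hA hxA hyA hyx ((hn a).1 han))
  obtain ⟨a, ha, hreg⟩ := exists_reg_elem (M := Γ(F, A)) q q fun r _ hr hqr n hn =>
    hnot n (by rw [le_antisymm hqr hr]; exact hn)
  rw [depth_fromSpec hF hA hyA]
  refine (LocH.le_idealDepth_iff (IsLocalRing.maximalIdeal (Localization.AtPrime q))
    (LocalizedModule q.primeCompl Γ(F, A)) 1).2 fun i hi =>
      LocH.subsingleton_of_isWeaklyRegular _ ([a].map (algebraMap Γ(X, A) (Localization.AtPrime q))) _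
        ((LocH.weaklyRegular_localized_iff q.primeCompl [a]).2 fun j hj m hm => ?_) (fun r hr => ?_) i (by simpa using hi)
  · obtain rfl : j = 0 := by simpa using hj
    simp only [List.take_zero, Ideal.ofList_nil, Submodule.bot_smul, Submodule.mem_bot, List.getElem_cons_zero] at hm ⊢
    obtain ⟨t, ht, h⟩ := hreg m hm
    exact ⟨t, ht, h⟩
  · rw [← IsLocalization.AtPrime.map_eq_maximalIdeal q (Localization.AtPrime q)]
    simp only [List.map_cons, List.map_nil, List.mem_cons, List.not_mem_nil, or_false] at hr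
    rw [hr]
    exact Ideal.mem_map_of_mem _ ha

/-- depth two at the generizations off `U` holds on a neighbourhood -/
theorem exists_affine_two_le [IsLocallyNoetherian X] (hF : Coh.IsCoh F) (U : X.Opens) {A : X.Opens}
    (hA : IsAffineOpen A) {x : X} (hxA : x ∈ A)
    (h : ∀ y : X, y ⤳ x → y ∉ U → (2 : ℕ∞) ≤ LocCoh.depth (X.presheaf.stalk y) (F.presheaf.stalk y)) :
    ∃ B : X.Opens, IsAffineOpen B ∧ x ∈ B ∧ B ≤ A ∧
      ∀ y ∈ B, y ∉ U → (2 : ℕ∞) ≤ LocCoh.depth (X.presheaf.stalk y) (F.presheaf.stalk y) := by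
  have : IsNoetherianRing Γ(X, A) := IsLocallyNoetherian.component_noetherian ⟨A, hA⟩
  have : Module.Finite Γ(X, A) Γ(F, A) := (QC.isCoh_iff_finite_sections.mp hF).2 ⟨A, hA⟩
  obtain ⟨J, hJ⟩ := LCZ.exists_eq_openCompl (A := Γ(X, A)) (hA.fromSpec ⁻¹ᵁ U)
  have hJp : ∀ p : PrimeSpectrum Γ(X, A), J ≤ p.asIdeal ↔ hA.fromSpec p ∉ U := fun p => by
    have h1 : p ∈ EGA4.openCompl Γ(X, A) J ↔ hA.fromSpec p ∈ U := by rw [hJ]; rfl
    rw [← not_iff_not, not_not, ← h1]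
    rfl
  have hpt : ∀ p : PrimeSpectrum Γ(X, A), hA.fromSpec p ∈ A := fun p => by
    rw [← SetLike.mem_coe, ← hA.range_fromSpec]; exact ⟨p, rfl⟩
  obtain ⟨g, hg, hgq⟩ := exists_spread_two (M := Γ(F, A)) J (hA.primeIdealOf ⟨x, hxA⟩).asIdeal fun q hq hqp hJq => by
    have hyq : hA.primeIdealOf ⟨_, hpt ⟨q, hq⟩⟩ = ⟨q, hq⟩ :=
      hA.fromSpec.isOpenEmbedding.injective (fromSpec_primeIdealOf' hA (hpt ⟨q, hq⟩))
    have hd := h _ (AssLib.specializes_of_le hA (hpt ⟨q, hq⟩) hxA (by rw [hyq]; exact hqp)) ((hJp ⟨q, hq⟩).1 hJq)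
    rw [depth_fromSpec hF hA (hpt ⟨q, hq⟩), hyq] at hd
    exact hd
  refine ⟨X.basicOpen g, hA.basicOpen g, (mem_primeIdealOf hA hxA g).2 hg, X.basicOpen_le g, fun y hy hyU => ?_⟩
  have hyA : y ∈ A := X.basicOpen_le g hy
  rw [depth_fromSpec hF hA hyA]
  exact hgq _ ((mem_primeIdealOf hA hyA g).1 hy) ((hJp _).2 (by rw [fromSpec_primeIdealOf' hA hyA]; exact hyU))

theorem isZClosedAt_of_depth [IsLocallyNoetherian X] (hF : Coh.IsCoh F) {x : X}
    (h : ∀ x' : X, x' ⤳ x → x' ∈ Z → (2 : ℕ∞) ≤ LocCoh.depth (X.presheaf.stalk x') (F.presheaf.stalk x')) :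
    IsZClosedAt Z F x := by
  refine ⟨isZPureAt_of_depth hF fun y hy hyZ => le_trans (by norm_num) (h y hy hyZ), fun ξ => ?_⟩
  obtain ⟨T, V, hxV, s, rfl⟩ := exists_germ_sec x ξ
  obtain ⟨A, hA, hxA, hAV'⟩ := exists_isAffineOpen_mem_and_subset hxV
  obtain ⟨B, hB, hxB, hBA, hd⟩ := exists_affine_two_le hF T.U hA hxA fun y hy hyT => h y hy (T.2 (not_not.1 hyT))
  have hBV : B ≤ V := hBA.trans hAV'
  obtain ⟨t, ht⟩ := ((bijective_rs_iff_depth F hF hB T.U).2 hd).2 (rs F (inf_le_inf_left _ hBV) s)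
  refine ⟨F.presheaf.germ B x hxB t, (stalk_map_germ (rhoApp Z F) x hxB t).trans ?_⟩
  rw [rho_sec T, ht, ← rs_sec T hBV, germ_rs]

theorem isZClosedAt_of_specializes [IsLocallyNoetherian X] (hZ : StableUnderSpecialization Z) (hF : Coh.IsCoh F)
    (hH : Coh.IsQCoh ((H0 Z).obj F)) {x y : X} (h : IsZClosedAt Z F x) (hyx : y ⤳ x) : IsZClosedAt Z F y := by
  refine ⟨isZPureAt_of_depth hF fun z hzy hzZ => depth_one_of_isZPureAt hZ hF h.1 (hzy.trans hyx) hzZ, fun ξ => ?_⟩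
  obtain ⟨A, hA, hxA, -⟩ := exists_isAffineOpen_mem_and_subset (show x ∈ (⊤ : X.Opens) from trivial)
  have hyA : y ∈ A := hyx.mem_open A.2 hxA
  obtain ⟨a, s, ha, has⟩ := exists_germ hA (QC.isLoc_of_isQCoh hA (hM := hH)) hyA ξ
  obtain ⟨σ, hσ⟩ := h.2 (((H0 Z).obj F).presheaf.germ A x hxA s)
  obtain ⟨W, hxW, t, rfl⟩ := TopCat.Presheaf.exists_germ_eq F.presheaf (x := x) σ
  obtain ⟨W', hxW', i₁, i₂, he⟩ := TopCat.Presheaf.germ_eq ((H0 Z).obj F).presheaf x hxW hxA _ s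
    ((stalk_map_germ (rhoApp Z F) x hxW t).symm.trans hσ)
  have hyW' : y ∈ W' := hyx.mem_open W'.2 hxW'
  have hy1 : stalkHom (rhoApp Z F) y (F.presheaf.germ W y (leOfHom i₁ hyW') t) = mgerm ((H0 Z).obj F) hyA s := by
    refine (stalk_map_germ (rhoApp Z F) y (leOfHom i₁ hyW') t).trans ?_
    show _ = ((H0 Z).obj F).presheaf.germ A y hyA s
    rw [← germ_rs _ (leOfHom i₁) y hyW', ← germ_rs _ (leOfHom i₂) y hyW' s]
    exact congrArg _ he
  obtain ⟨e, he'⟩ := isUnit_germ hA hyA ha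
  refine ⟨(↑e⁻¹ : X.presheaf.stalk y) • F.presheaf.germ W y (leOfHom i₁ hyW') t, ?_⟩
  show stalkHom (rhoApp Z F) y _ = ξ
  rw [stalkHom_smul, hy1, ← has, ← he', smul_smul, Units.inv_mul, one_smul]

theorem two_le_depth_of_isZClosedAt_self [IsLocallyNoetherian X] (hZ : StableUnderSpecialization Z)
    (hF : Coh.IsCoh F) {y : X} (hy : y ∈ Z) (h : IsZClosedAt Z F y) :
    (2 : ℕ∞) ≤ LocCoh.depth (X.presheaf.stalk y) (F.presheaf.stalk y) := by
  classical
  obtain ⟨A, hA, hyA, -⟩ := exists_isAffineOpen_mem_and_subset (show y ∈ (⊤ : X.Opens) from trivial)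
  have : IsNoetherianRing Γ(X, A) := IsLocallyNoetherian.component_noetherian ⟨A, hA⟩
  have : Module.Finite Γ(X, A) Γ(F, A) := (QC.isCoh_iff_finite_sections.mp hF).2 ⟨A, hA⟩
  have hL : QC.IsLoc F A := QC.isLoc_of_isQCoh hA (hM := hF.1)
  let p := (hA.primeIdealOf ⟨y, hyA⟩).asIdeal
  have hd1 : (1 : ℕ∞) ≤ LocCoh.depth (Localization.AtPrime p) (LocalizedModule p.primeCompl Γ(F, A)) := by
    rw [← depth_fromSpec hF hA hyA]
    exact depth_one_of_isZPureAt hZ hF h.1 specializes_rfl hy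
  obtain ⟨x, hxp, hx⟩ := exists_reg_elem (M := Γ(F, A)) p p fun q _ hq hpq n hn =>
    not_ann_eq_of_depth hd1 n (by rw [← le_antisymm hq hpq]; exact hn)
  let K : Submodule Γ(X, A) Γ(F, A) := LinearMap.ker (x • LinearMap.id)
  obtain ⟨G, hG⟩ := (IsNoetherian.noetherian K : K.FG)
  choose t ht htm using fun m : G => hx m.1 (show m.1 ∈ K from hG ▸ Submodule.subset_span m.2)
  let g := ∏ m : G, t m
  have hgp : g ∉ p := fun hmem => by
    obtain ⟨j, -, hj⟩ := (Ideal.IsPrime.prod_mem_iff).1 hmem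
    exact ht j hj
  have hker : ∀ m : Γ(F, A), x • m = 0 → g • m = 0 := fun m hm => by
    have hmK : m ∈ Submodule.span Γ(X, A) (G : Set Γ(F, A)) := hG ▸ hm
    refine Submodule.span_induction (fun z hz => ?_) ?_ (fun a b _ _ ha hb => ?_) (fun a z _ hz => ?_) hmK
    · show (∏ m : G, t m) • z = 0
      rw [← Finset.prod_erase_mul _ _ (Finset.mem_univ (⟨z, hz⟩ : G)), mul_smul, htm ⟨z, hz⟩, smul_zero]
    · simp
    · rw [smul_add, ha, hb, add_zero]
    · rw [smul_comm, hz, smul_zero]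
  let B := X.basicOpen g
  have hyB : y ∈ B := (mem_primeIdealOf hA hyA g).2 hgp
  have hreg : ∀ (W : X.Opens) (hWB : W ≤ B) (hWA : W ≤ A) (s : Γ(F, W)), QC.resO X hWA x • s = 0 → s = 0 :=
    fun W hWB hWA s hs => WeakAssLib.ext_germ F s fun z hz => by
      obtain ⟨a, s', ha, has⟩ := exists_germ hA hL (hWA hz) (mgerm F hz s)
      have h1 : (X.presheaf.germ A z (hWA hz)).hom x • mgerm F hz s = 0 := by
        rw [show (X.presheaf.germ A z (hWA hz)).hom x = (X.presheaf.germ W z hz).hom (QC.resO X hWA x) from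
          (X.presheaf.germ_res_apply _ _ _ _).symm, ← mgerm_smul, hs, map_zero]
      have h2 : mgerm F (hWA hz) (x • s') = 0 := by rw [mgerm_smul, ← has, smul_comm, h1, smul_zero]
      obtain ⟨b, hb, hbz⟩ := (germ_eq_zero_iff hA hL (hWA hz) _).1 h2
      have h3 : (g * b) • s' = 0 := by rw [mul_smul]; exact hker _ (by rw [smul_comm]; exact hbz)
      have h4 : mgerm F (hWA hz) s' = 0 := (germ_eq_zero_iff hA hL (hWA hz) _).2
        ⟨g * b, (hA.primeIdealOf ⟨z, hWA hz⟩).asIdeal.primeCompl.mul_mem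
          ((mem_primeIdealOf hA (hWA hz) g).1 (hWB hz)) hb, h3⟩
      rw [← has] at h4
      exact (isUnit_germ hA (hWA hz) ha).smul_eq_zero.1 h4
  have hquot : ∀ n : Γ(F, A) ⧸ (Ideal.span {x} • (⊤ : Submodule Γ(X, A) Γ(F, A))),
      ¬ ∀ a : Γ(X, A), a • n = 0 ↔ a ∈ p := by
    intro n hn
    obtain ⟨m, rfl⟩ := Submodule.Quotient.mk_surjective _ n
    have hc : ∀ f : p, ∃ c : Γ(F, A), x • c = (f : Γ(X, A)) • m := fun f =>
      (mem_span_smul_top_iff x _).1 ((Submodule.Quotient.mk_eq_zero _).1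
        (by rw [Submodule.Quotient.mk_smul]; exact (hn f).2 f.2))
    choose c hc using hc
    let T := clPt hZ hy
    let Wf : p → X.Opens := fun f => X.basicOpen (f : Γ(X, A)) ⊓ B
    have hWA : ∀ f, Wf f ≤ A := fun f => inf_le_left.trans (X.basicOpen_le _)
    have hWT : ∀ f, Wf f ≤ T.U ⊓ B := fun f z hz => ⟨mem_clPt_U.2 fun hyz => by
      have hzA : z ∈ A := hWA f hz
      exact (mem_primeIdealOf hA hzA _).1 hz.1 (le_of_specializes hA hzA hyA hyz f.2), hz.2⟩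
    have hs : ∀ f : p, ∃ s : Γ(F, Wf f), QC.resO X (hWA f) x • s = rs F (hWA f) m := fun f => by
      have hu : IsUnit (QC.resO X (hWA f) (f : Γ(X, A))) := by
        rw [← QC.resO_resO (inf_le_left : Wf f ≤ X.basicOpen (f : Γ(X, A))) (X.basicOpen_le _)]
        exact (X.toRingedSpace.isUnit_res_basicOpen (f : Γ(X, A))).map _
      obtain ⟨u, hu⟩ := hu
      refine ⟨(↑u⁻¹ : Γ(X, Wf f)) • QC.res F (hWA f) (c f), ?_⟩
      rw [smul_comm, ← QC.res_smul, hc f, QC.res_smul, ← hu, smul_smul, Units.inv_mul, one_smul]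
      rfl
    choose s hs using hs
    have hsmul : ∀ {W' W : X.Opens} (hW : W' ≤ W) (hW'A : W' ≤ A) (hWA' : W ≤ A) (r : Γ(F, W)),
        rs F hW (QC.resO X hWA' x • r) = QC.resO X hW'A x • rs F hW r := fun {W' W} hW hW'A hWA' r => by
      show QC.res F hW (QC.resO X hWA' x • r) = QC.resO X hW'A x • QC.res F hW r
      rw [QC.res_smul, QC.resO_resO]
    obtain ⟨S, hS⟩ := glue F Wf hWT (fun z hz => by
        have hzA : z ∈ A := X.basicOpen_le g hz.2
        obtain ⟨f, hf, hfz⟩ := SetLike.not_le_iff_exists.1 (fun hle =>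
          mem_clPt_U.1 hz.1 (AssLib.specializes_of_le hA hyA hzA hle) :
          ¬ p ≤ (hA.primeIdealOf ⟨z, hzA⟩).asIdeal)
        exact ⟨⟨f, hf⟩, (mem_primeIdealOf hA hzA f).2 hfz, hz.2⟩) s fun i j => by
      have hle : Wf i ⊓ Wf j ≤ A := inf_le_left.trans (hWA i)
      refine sub_eq_zero.1 (hreg _ (inf_le_left.trans inf_le_right) hle _ ?_)
      rw [smul_sub, ← hsmul inf_le_left hle (hWA i), ← hsmul inf_le_right hle (hWA j), hs, hs, rs_rs, rs_rs,
        sub_self]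
    obtain ⟨σ, hσ⟩ := h.2 (((H0 Z).obj F).presheaf.germ B y hyB (sec T B S))
    obtain ⟨a, t₀, ha, hat⟩ := exists_germ hA hL hyA σ
    obtain ⟨W, hyW, w, rfl⟩ := TopCat.Presheaf.exists_germ_eq F.presheaf (x := y) σ
    obtain ⟨W', hyW', i₁, i₂, he⟩ := TopCat.Presheaf.germ_eq ((H0 Z).obj F).presheaf y hyW hyB _ (sec T B S)
      ((stalk_map_germ (rhoApp Z F) y hyW w).symm.trans hσ)
    have hW'W : W' ≤ W := leOfHom i₁
    have hW'B : W' ≤ B := leOfHom i₂
    have h1 : sec T W' (rs F (inf_le_right : T.U ⊓ W' ≤ W') (rs F hW'W w) - rs F (inf_le_inf_left T.U hW'B) S) = 0 := by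
      rw [sec_sub, ← rho_sec T, ← rs_sec T hW'B, app_rs, sub_eq_zero]
      exact he
    obtain ⟨T', hT', W'', hyW'', hW'', hz⟩ := germ_sec_eq_zero hyW' _ (by rw [h1, map_zero])
    have hW''A : W'' ≤ A := hW''.trans (hW'B.trans (X.basicOpen_le g))
    have h5 : rhoStalk Z F y (F.presheaf.germ W'' y hyW''
        (QC.resO X hW''A x • rs F (hW''.trans hW'W) w - rs F hW''A m)) = 0 := by
      refine rhoStalk_germ_eq_zero T' hyW'' _ ?_
      have hle : T'.U ⊓ W'' ≤ A := inf_le_right.trans hW''A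
      rw [map_sub, rs_rs, rs_rs, sub_eq_zero] at hz
      have hS' : QC.resO X hle x • rs F (inf_le_inf (Cl.U_anti hT') (hW''.trans hW'B)) S = rs F hle m := by
        refine ext_germ F _ _ fun z hz' => ?_
        have hzA : z ∈ A := hle hz'
        obtain ⟨f, hf, hfz⟩ := SetLike.not_le_iff_exists.1 (fun hle' =>
          mem_clPt_U.1 (Cl.U_anti hT' hz'.1) (AssLib.specializes_of_le hA hyA hzA hle') :
          ¬ p ≤ (hA.primeIdealOf ⟨z, hzA⟩).asIdeal)
        have hzW : z ∈ Wf ⟨f, hf⟩ := ⟨(mem_primeIdealOf hA hzA f).2 hfz, hW'B (hW'' hz'.2)⟩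
        have hzz : z ∈ (T'.U ⊓ W'') ⊓ Wf ⟨f, hf⟩ := ⟨hz', hzW⟩
        rw [← germ_rs F (inf_le_left : (T'.U ⊓ W'') ⊓ Wf ⟨f, hf⟩ ≤ _) z hzz,
          ← germ_rs F (inf_le_left : (T'.U ⊓ W'') ⊓ Wf ⟨f, hf⟩ ≤ _) z hzz (rs F hle m)]
        refine congrArg _ ?_
        rw [hsmul inf_le_left (inf_le_right.trans (hWA ⟨f, hf⟩)) hle, rs_rs,
          ← rs_rs F (hWT ⟨f, hf⟩) (inf_le_right : (T'.U ⊓ W'') ⊓ Wf ⟨f, hf⟩ ≤ _) S, hS,
          ← hsmul inf_le_right _ (hWA ⟨f, hf⟩), hs, rs_rs, rs_rs]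
      rw [map_sub, hsmul inf_le_right hle hW''A, rs_rs, rs_rs, ← hS']
      rw [hz, rs_rs, sub_self]
    have h6 := h.1 (h5.trans (map_zero _).symm)
    rw [map_sub, sub_eq_zero] at h6
    have h7 : (X.presheaf.germ A y hyA).hom x • F.presheaf.germ W y hyW w = mgerm F hyA m := by
      refine Eq.trans ?_ (h6.trans (germ_rs F hW''A y hyW'' m))
      rw [show F.presheaf.germ W'' y hyW'' (QC.resO X hW''A x • rs F (hW''.trans hW'W) w) =
        mgerm F hyW'' (QC.resO X hW''A x • rs F (hW''.trans hW'W) w) from rfl, mgerm_smul,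
        show (X.presheaf.germ W'' y hyW'').hom (QC.resO X hW''A x) = (X.presheaf.germ A y hyA).hom x from
          X.presheaf.germ_res_apply _ _ _ _]
      exact congrArg _ (germ_rs F (hW''.trans hW'W) y hyW'' w).symm
    have h8 : mgerm F hyA (a • m - x • t₀) = 0 := by
      rw [map_sub, mgerm_smul, mgerm_smul, ← h7, ← hat, smul_comm]
      exact sub_self _
    obtain ⟨b, hb, hbz⟩ := (germ_eq_zero_iff hA hL hyA _).1 h8
    refine ((hA.primeIdealOf ⟨y, hyA⟩).asIdeal.primeCompl.mul_mem hb ha) ((hn (b * a)).1 ?_)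
    rw [← Submodule.Quotient.mk_smul, Submodule.Quotient.mk_eq_zero, mem_span_smul_top_iff, mul_smul]
    refine ⟨b • t₀, ?_⟩
    rw [smul_sub, sub_eq_zero] at hbz
    rw [hbz, smul_comm]
  obtain ⟨z, hzp, hz⟩ := exists_reg_elem (M := Γ(F, A) ⧸ (Ideal.span {x} • (⊤ : Submodule Γ(X, A) Γ(F, A)))) p p
    fun q _ hq hpq n hn => hquot n (by rw [← le_antisymm hq hpq]; exact hn)
  rw [depth_fromSpec hF hA hyA]
  exact two_le_depth_of_pair hxp hzp (weaklyRegular_pair hx hz)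

end Groth.Agent.ZCl
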