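import Groth.Agent.ZCl.Basic
/-!
Local criteria for Z-pure and Z-closed modules; behaviour under restriction to opens.
-/
universe u
open AlgebraicGeometry CategoryTheory CategoryTheory.Limits TopologicalSpace Opposite ZClos
set_option backward.isDefEq.respectTransparency false
set_option linter.style.haveILetI false
noncomputable section

namespace Groth.Agent.ZCl

variable {X : Scheme.{u}} {Z : Set X} {F : X.Modules}

theorem inj_congr {a a' b : X.Opens} (h : a ≤ b) (h' : a' ≤ b) (e : a = a')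
    (hi : Function.Injective (rs F h)) : Function.Injective (rs F h') := by
  subst e; exact hi

theorem bij_congr {a a' b : X.Opens} (h : a ≤ b) (h' : a' ≤ b) (e : a = a')
    (hi : Function.Bijective (rs F h)) : Function.Bijective (rs F h') := by
  subst e; exact hi

theorem inj_congr2 {a a' b b' : X.Opens} (h : a ≤ b) (h' : a' ≤ b') (e : a = a') (e' : b = b')
    (hi : Function.Injective (rs F h)) : Function.Injective (rs F h') := by
  subst e e'; exact hi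

theorem bij_congr2 {a a' b b' : X.Opens} (h : a ≤ b) (h' : a' ≤ b') (e : a = a') (e' : b = b')
    (hi : Function.Bijective (rs F h)) : Function.Bijective (rs F h') := by
  subst e e'; exact hi

theorem inj_of_cover (T : Cl Z) (V : X.Opens)
    (h : ∀ x ∈ V, ∃ A : X.Opens, x ∈ A ∧ A ≤ V ∧ Function.Injective (rs F (inf_le_right : T.U ⊓ A ≤ A))) :
    Function.Injective (rs F (inf_le_right : T.U ⊓ V ≤ V)) := by
  choose A hxA hAV hA using h
  intro s t hst
  refine ext_cover F (fun x : {x : X // x ∈ V} => A x.1 x.2) (fun x => hAV x.1 x.2)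
    (fun x hx => ⟨⟨x, hx⟩, hxA x hx⟩) s t fun x => hA x.1 x.2 ?_
  have := congrArg (rs F (inf_le_inf_left T.U (hAV x.1 x.2))) hst
  rw [rs_rs, rs_rs] at this ⊢
  exact this

theorem pure_of_cover
    (h : ∀ (T : Cl Z) (x : X), ∃ A : X.Opens, x ∈ A ∧ ∀ B ≤ A, Function.Injective (rs F (inf_le_right : T.U ⊓ B ≤ B))) :
    IsZPure Z F := pure_iff.2 fun T V => inj_of_cover T V fun x hx => by
  obtain ⟨A, hxA, hA⟩ := h T x
  exact ⟨A ⊓ V, ⟨hxA, hx⟩, inf_le_right, hA _ inf_le_left⟩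

theorem closed_of_cover
    (h : ∀ (T : Cl Z) (x : X), ∃ A : X.Opens, x ∈ A ∧ ∀ B ≤ A, Function.Bijective (rs F (inf_le_right : T.U ⊓ B ≤ B))) :
    IsZClosed Z F := by
  have hp := pure_iff.1 (pure_of_cover fun T x => by
    obtain ⟨A, hxA, hA⟩ := h T x
    exact ⟨A, hxA, fun B hB => (hA B hB).1⟩)
  refine closed_iff.2 fun T V => ⟨hp T V, fun σ => ?_⟩
  choose A hxA hA using h T
  choose τ hτ using fun x : {x : X // x ∈ V} => (hA x.1 (A x.1 ⊓ V) inf_le_left).2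
    (rs F (inf_le_inf_left T.U (inf_le_right : A x.1 ⊓ V ≤ V)) σ)
  obtain ⟨S, hS⟩ := glue F (fun x : {x : X // x ∈ V} => A x.1 ⊓ V) (fun _ => inf_le_right)
    (fun x hx => ⟨⟨x, hx⟩, hxA x, hx⟩) τ fun i j => by
      apply hp T
      have e : ∀ (k : {x : X // x ∈ V}) (hk : (A i.1 ⊓ V) ⊓ (A j.1 ⊓ V) ≤ A k.1 ⊓ V),
          rs F (inf_le_right : T.U ⊓ _ ≤ _) (rs F hk (τ k)) =
            rs F (inf_le_inf_left T.U (hk.trans inf_le_right)) σ := fun k hk => by
        rw [rs_rs, ← rs_rs F (inf_le_right : T.U ⊓ (A k.1 ⊓ V) ≤ _) (inf_le_inf_left _ hk), hτ, rs_rs]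
      rw [e i inf_le_left, e j inf_le_right]
  refine ⟨S, ext_cover F (fun x : {x : X // x ∈ V} => T.U ⊓ (A x.1 ⊓ V))
    (fun _ => inf_le_inf_left _ inf_le_right)
    (fun x hx => ⟨⟨x, hx.2⟩, hx.1, hxA x, hx.2⟩) _ _ fun i => ?_⟩
  rw [rs_rs, ← rs_rs F (inf_le_right : A i.1 ⊓ V ≤ V) (inf_le_right : T.U ⊓ (A i.1 ⊓ V) ≤ _), hS, hτ]

theorem rs_restrict (V : X.Opens) {W W' : V.toScheme.Opens} (h : W ≤ W') :
    (rs ((Scheme.Modules.restrictFunctor V.ι).obj F) h : _ → _) =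
      rs F (V.ι.image_mono h) := rfl

/-- an index on an open comes from an index on the whole space -/
theorem exists_cl_ext [IsLocallyNoetherian X] (hZ : StableUnderSpecialization Z) (V : X.Opens)
    (T : Cl (V.ι.base ⁻¹' Z)) : ∃ T' : Cl Z, ∀ W : V.toScheme.Opens,
      V.ι ''ᵁ (T.U ⊓ W) = T'.U ⊓ V.ι ''ᵁ W := by
  obtain ⟨C, hC, hCe⟩ : ∃ C : Set X, IsClosed C ∧ V.ι.base ⁻¹' C = (T.1 : Set V.toScheme) := by
    obtain ⟨C, hC, hCe⟩ := V.ι.isOpenEmbedding.isInducing.isClosed_iff.1 T.1.isClosed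
    exact ⟨C, hC, hCe⟩
  have hsub : (V : Set X) ∩ C ⊆ Z := fun x hx => by
    have : (⟨x, hx.1⟩ : V.toScheme) ∈ V.ι.base ⁻¹' C := hx.2
    rw [hCe] at this
    exact T.2 this
  refine ⟨closCl hZ V hC hsub, fun W => ?_⟩
  ext x
  constructor
  · rintro ⟨y, ⟨hyT, hyW⟩, rfl⟩
    refine ⟨fun hy => hyT ?_, y, hyW, rfl⟩
    rw [← hCe]
    exact (closure_minimal Set.inter_subset_right hC) hy
  · rintro ⟨hxT, y, hyW, rfl⟩
    refine ⟨y, ⟨fun hy => hxT (subset_closure ?_), hyW⟩, rfl⟩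
    rw [← hCe] at hy
    exact ⟨y.2, hy⟩

/-- an index on the whole space restricts to an open -/
def clRes (V : X.Opens) (T : Cl Z) : Cl (V.ι.base ⁻¹' Z) :=
  ⟨⟨V.ι.base ⁻¹' T.1, T.1.isClosed.preimage V.ι.continuous⟩, fun _ hy => T.2 hy⟩

theorem image_clRes (V : X.Opens) (T : Cl Z) {B : X.Opens} (hB : B ≤ V) :
    V.ι ''ᵁ ((clRes V T).U ⊓ V.ι ⁻¹ᵁ B) = T.U ⊓ B ∧ V.ι ''ᵁ (V.ι ⁻¹ᵁ B) = B := by
  constructor
  · ext x
    constructor
    · rintro ⟨y, ⟨hyT, hyB⟩, rfl⟩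
      exact ⟨hyT, hyB⟩
    · rintro ⟨hxT, hxB⟩
      exact ⟨⟨x, hB hxB⟩, ⟨hxT, hxB⟩, rfl⟩
  · rw [ι_image_preimage, inf_eq_right.2 hB]

theorem pure_restrict [IsLocallyNoetherian X] (hZ : StableUnderSpecialization Z) (V : X.Opens)
    (h : IsZPure Z F) : IsZPure (V.ι.base ⁻¹' Z) ((Scheme.Modules.restrictFunctor V.ι).obj F) := by
  refine pure_iff.2 fun T W => ?_
  obtain ⟨T', hT'⟩ := exists_cl_ext hZ V T
  rw [rs_restrict]
  exact inj_congr inf_le_right _ (hT' W).symm (pure_iff.1 h T' (V.ι ''ᵁ W))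

theorem closed_restrict [IsLocallyNoetherian X] (hZ : StableUnderSpecialization Z) (V : X.Opens)
    (h : IsZClosed Z F) : IsZClosed (V.ι.base ⁻¹' Z) ((Scheme.Modules.restrictFunctor V.ι).obj F) := by
  refine closed_iff.2 fun T W => ?_
  obtain ⟨T', hT'⟩ := exists_cl_ext hZ V T
  rw [rs_restrict]
  exact bij_congr inf_le_right _ (hT' W).symm (closed_iff.1 h T' (V.ι ''ᵁ W))

theorem inj_of_restrict (V : X.Opens)
    (h : IsZPure (V.ι.base ⁻¹' Z) ((Scheme.Modules.restrictFunctor V.ι).obj F)) (T : Cl Z)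
    {B : X.Opens} (hB : B ≤ V) : Function.Injective (rs F (inf_le_right : T.U ⊓ B ≤ B)) := by
  obtain ⟨e1, e2⟩ := image_clRes V T hB
  exact inj_congr2 (V.ι.image_mono inf_le_right) _ e1 e2
    (pure_iff.1 h (clRes V T) (V.ι ⁻¹ᵁ B))

theorem bij_of_restrict (V : X.Opens)
    (h : IsZClosed (V.ι.base ⁻¹' Z) ((Scheme.Modules.restrictFunctor V.ι).obj F)) (T : Cl Z)
    {B : X.Opens} (hB : B ≤ V) : Function.Bijective (rs F (inf_le_right : T.U ⊓ B ≤ B)) := by
  obtain ⟨e1, e2⟩ := image_clRes V T hB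
  exact bij_congr2 (V.ι.image_mono inf_le_right) _ e1 e2
    (closed_iff.1 h (clRes V T) (V.ι ⁻¹ᵁ B))

theorem inj_swap (T : Cl Z) (V : X.Opens) :
    Function.Injective (rs F (inf_le_left : V ⊓ T.U ≤ V)) ↔
      Function.Injective (rs F (inf_le_right : T.U ⊓ V ≤ V)) :=
  ⟨inj_congr _ _ (inf_comm _ _), inj_congr _ _ (inf_comm _ _)⟩

theorem bij_swap (T : Cl Z) (V : X.Opens) :
    Function.Bijective (rs F (inf_le_left : V ⊓ T.U ≤ V)) ↔
      Function.Bijective (rs F (inf_le_right : T.U ⊓ V ≤ V)) :=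
  ⟨bij_congr _ _ (inf_comm _ _), bij_congr _ _ (inf_comm _ _)⟩

theorem subsingleton_sections {M : X.Modules} (h : IsZero M) (V : X.Opens) : Subsingleton Γ(M, V) :=
  ⟨fun s t => by
    have e : 𝟙 M = 0 := h.eq_of_src _ _
    have := congrArg (fun φ : M ⟶ M => φ.app V s) e
    have := congrArg (fun φ : M ⟶ M => φ.app V t) e
    simp only [Scheme.Modules.Hom.id_app] at *
    simp_all⟩

theorem subsingleton_stalk {M : X.Modules} (h : IsZero M) (x : X) : Subsingleton (M.presheaf.stalk x) :=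
  ⟨fun a b => by
    obtain ⟨V, hxV, s, rfl⟩ := TopCat.Presheaf.exists_germ_eq M.presheaf (x := x) a
    obtain ⟨W, hxW, t, rfl⟩ := TopCat.Presheaf.exists_germ_eq M.presheaf (x := x) b
    haveI := subsingleton_sections h V
    haveI := subsingleton_sections h W
    rw [Subsingleton.elim s 0, Subsingleton.elim t 0, map_zero, map_zero]⟩

end Groth.Agent.ZCl
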