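import Groth.Agent.ZCl.FlatSec
import Groth.Agent.ZCl.Closed
import Groth.Agent.KFlat.Pullback
import Groth.Agent.QC.Coherent

/-!
Flat base change of the Z-closure.
-/

set_option autoImplicit false
set_option backward.isDefEq.respectTransparency false
set_option linter.style.haveILetI false
set_option maxHeartbeats 1000000

universe u

open CategoryTheory CategoryTheory.Limits AlgebraicGeometry TopologicalSpace Opposite ZClos
open scoped TensorProduct

noncomputable section

namespace Groth.Agent.ZCl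

variable {X X' : Scheme.{u}} [IsLocallyNoetherian X] [IsLocallyNoetherian X'] (f : X' ⟶ X) [Flat f]
  {Z : Set X} {G : X.Modules}

omit [IsLocallyNoetherian X'] in
/-- Pulled back sections over an affine do not see the inverse image of a closed subset in `Z`. -/
theorem bij_rs_preimage (hG : Coh.IsQCoh G) (hcl : IsZClosed Z G) (T : Cl Z) {V : X.Opens} (hV : IsAffineOpen V)
    {A : X'.Opens} (hA : IsAffineOpen A) (e : A ≤ f ⁻¹ᵁ V) :
    Function.Bijective (rs ((Scheme.Modules.pullback f).obj G) (inf_le_right : f ⁻¹ᵁ T.U ⊓ A ≤ A)) := by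
  classical
  have hc : IsCompact ((T.U ⊓ V : X.Opens) : Set X) := isCompact_of_le_affine hV inf_le_right
  have hloc : ∀ x : {x : X // x ∈ T.U ⊓ V}, ∃ a : Γ(X, V), X.basicOpen a ≤ T.U ⊓ V ∧ x.1 ∈ X.basicOpen a :=
    fun x => hV.exists_basicOpen_le ⟨x.1, x.2⟩ x.2.2
  choose a ha hxa using hloc
  obtain ⟨t, ht⟩ := hc.elim_finite_subcover (fun i => (X.basicOpen (a i) : Set X)) (fun i => (X.basicOpen (a i)).2)
    (fun x hx => Set.mem_iUnion.2 ⟨⟨x, hx⟩, hxa _⟩)
  let a' : {i // i ∈ t} → Γ(X, V) := fun i => a i.1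
  have hO : T.U ⊓ V = ⨆ i, X.basicOpen (a' i) := by
    refine le_antisymm (fun x hx => ?_) (iSup_le fun i => ha i.1)
    obtain ⟨i, hi, hxi⟩ := Set.mem_iUnion₂.1 (ht hx)
    exact Opens.mem_iSup.2 ⟨⟨i, hi⟩, hxi⟩
  have h0 : Function.Bijective (secRho (idA V) G (le_top : T.U ⊓ V ≤ ⊤)) := by
    change Function.Bijective (rs G (inf_le_inf_left V le_top : V ⊓ (T.U ⊓ V) ≤ V ⊓ ⊤))
    exact bij_congr2 inf_le_right _ (inf_eq_right.2 inf_le_right).symm (inf_top_eq V).symm (closed_iff.1 hcl T V)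
  have h1 := bijective_secRho_pullback G f e hG hV hA (Flat.flat_appLE f hV hA e) a' hO h0
  change Function.Bijective (rs ((Scheme.Modules.pullback f).obj G)
    (inf_le_inf_left A le_top : A ⊓ f ⁻¹ᵁ (T.U ⊓ V) ≤ A ⊓ ⊤)) at h1
  refine bij_congr2 _ inf_le_right ?_ (inf_top_eq A) h1
  exact le_antisymm (le_inf (inf_le_right.trans (f.preimage_mono inf_le_left)) inf_le_left)
    (le_inf inf_le_right (le_inf inf_le_left (inf_le_right.trans e)))

omit [Flat f] in
omit [IsLocallyNoetherian X] in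
/-- the closure of the image of a closed piece over `Z` stays in `Z` -/
theorem closure_image_subset (hZ : StableUnderSpecialization Z) {A : X'.Opens} (hA : IsAffineOpen A)
    {C : Set X'} (hC : IsClosed C) (h : C ⊆ f.base ⁻¹' Z) : closure (f.base '' ((A : Set X') ∩ C)) ⊆ Z := by
  intro z hz
  let K := Scheme.IdealSheafData.vanishingIdeal (⟨C, hC⟩ : Closeds X')
  let O' : K.subscheme.Opens := K.subschemeι ⁻¹ᵁ A
  let g : O'.toScheme ⟶ X' := O'.ι ≫ K.subschemeι
  have hr : Set.range g.base = (A : Set X') ∩ C := by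
    rw [Scheme.Hom.comp_base, TopCat.coe_comp, Set.range_comp, Scheme.Opens.range_ι]
    change K.subschemeι '' (K.subschemeι ⁻¹' (A : Set X')) = _
    rw [Set.image_preimage_eq_inter_range, Scheme.IdealSheafData.range_subschemeι,
      Scheme.IdealSheafData.coe_support_vanishingIdeal]
    rfl
  have hcpt : ∀ S : Set O'.toScheme, IsCompact S := fun S => by
    have hi : Topology.IsInducing g := g.isEmbedding.isInducing
    rw [hi.isCompact_iff]
    exact isCompact_subset_affine hA fun y ⟨w, _, hw⟩ => (hr ▸ (⟨w, hw⟩ : y ∈ Set.range g.base) : y ∈ (A : Set X') ∩ C).1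
  haveI : QuasiCompact (g ≫ f) := ⟨fun U _ _ => hcpt _⟩
  obtain ⟨w, hw⟩ := DomLib.exists_specializes (g ≫ f) (y := z) (by
    rwa [show Set.range ⇑(g ≫ f) = f.base '' Set.range g.base by rw [← Set.range_comp]; rfl, hr])
  exact hZ hw (h (hr ▸ (⟨w, rfl⟩ : g.base w ∈ Set.range g.base) : g.base w ∈ (A : Set X') ∩ C).2)

/-- Flat pull back preserves Z-closed quasi-coherent modules. -/
theorem isZClosed_pullback (hZ : StableUnderSpecialization Z) (hG : Coh.IsQCoh G) (hcl : IsZClosed Z G) :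
    IsZClosed (f.base ⁻¹' Z) ((Scheme.Modules.pullback f).obj G) := by
  refine closed_of_cover fun T' x => ?_
  obtain ⟨V, hV, hxV, -⟩ := exists_isAffineOpen_mem_and_subset (show f x ∈ (⊤ : X.Opens) from trivial)
  refine ⟨f ⁻¹ᵁ V, hxV, fun B hB => bij_of_affine T' (f ⁻¹ᵁ V) (fun A hA hAV => ?_) hB⟩
  let G₁ := (Scheme.Modules.pullback f).obj G
  let T : Cl Z := ⟨⟨closure (f.base '' ((A : Set X') ∩ (T'.1 : Set X'))), isClosed_closure⟩,
    closure_image_subset f hZ hA T'.1.2 T'.2⟩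
  have hle : f ⁻¹ᵁ T.U ⊓ A ≤ T'.U ⊓ A := fun y hy =>
    ⟨fun hyT => hy.1 (subset_closure ⟨y, ⟨hy.2, hyT⟩, rfl⟩), hy.2⟩
  have hb := bij_rs_preimage f hG hcl T hV hA hAV
  have hi : Function.Injective (rs G₁ hle) := by
    intro s t hst
    choose B hB hxB hBW using fun y : {y : X' // y ∈ T'.U ⊓ A} => exists_isAffineOpen_mem_and_subset y.2
    refine ext_cover G₁ B (fun y => hBW y) (fun y hy => ⟨⟨y, hy⟩, hxB _⟩) s t fun y => ?_
    have hBA : B y ≤ A := le_trans (hBW y) inf_le_right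
    refine (bij_rs_preimage f hG hcl T hV (hB y) (hBA.trans hAV)).1 ?_
    have h := congrArg (rs G₁ (inf_le_inf_left (f ⁻¹ᵁ T.U) hBA)) hst
    rw [rs_rs, rs_rs] at h
    rw [rs_rs, rs_rs]
    exact h
  have he : ∀ s, rs G₁ (inf_le_right : f ⁻¹ᵁ T.U ⊓ A ≤ A) s = rs G₁ hle (rs G₁ inf_le_right s) :=
    fun s => (rs_rs G₁ _ hle s).symm
  refine ⟨fun s t h => hb.1 (by rw [he, he]; exact congrArg _ h), fun σ => ?_⟩
  obtain ⟨s, hs⟩ := hb.2 (rs G₁ hle σ)
  exact ⟨s, hi ((he s).symm.trans hs)⟩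

omit [IsLocallyNoetherian X] [IsLocallyNoetherian X'] [Flat f] in
/-- A pulled back morphism is bijective on a stalk as soon as the morphism is. -/
theorem bijective_stalk_pullback {M N : X.Modules} (φ : M ⟶ N) (x : X')
    (h : Function.Bijective ((TopCat.Presheaf.stalkFunctor (C := Ab.{u}) (f.base x)).map φ.mapPresheaf)) :
    Function.Bijective ((TopCat.Presheaf.stalkFunctor (C := Ab.{u}) x).map
      ((Scheme.Modules.pullback f).map φ).mapPresheaf) := by
  haveI : IsIso ((DerSch.stalkFunctor X (f.base x)).map φ) := (ConcreteCategory.isIso_iff_bijective _).2 h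
  have h1 : IsIso ((DerSch.stalkFunctor X (f.base x) ⋙ ModuleCat.extendScalars.{u, u, u} (f.stalkMap x).hom).map φ) :=
    inferInstanceAs (IsIso ((ModuleCat.extendScalars.{u, u, u} (f.stalkMap x).hom).map _))
  haveI h2 := (NatIso.isIso_map_iff (KFlat.pullStalkIso f x) φ).2 h1
  exact ConcreteCategory.bijective_of_isIso ((Scheme.Modules.pullback f ⋙ DerSch.stalkFunctor X' x).map φ)

omit [IsLocallyNoetherian X] [IsLocallyNoetherian X'] [Flat f] in
theorem stableUnderSpecialization_preimage (hZ : StableUnderSpecialization Z) :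
    StableUnderSpecialization (f.base ⁻¹' Z) := fun _ _ h hx => hZ (h.map f.continuous) hx

/-- Flat base change of the Z-closure. -/
theorem nonempty_pullback_H0_iso (hZ : StableUnderSpecialization Z) {F : X.Modules} (hF : Coh.IsQCoh F) :
    Nonempty ((Scheme.Modules.pullback f).obj ((H0 Z).obj F) ≅
      (H0 (f.base ⁻¹' Z)).obj ((Scheme.Modules.pullback f).obj F)) := by
  have hF' := isZClosed_pullback f hZ (isQCoh_H0 hF) isZClosed_H0
  let u := (Scheme.Modules.pullback f).map (rhoApp Z F)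
  obtain ⟨v, hv, -⟩ := exists_fac hF' u
  haveI := isIso_fac (stableUnderSpecialization_preimage f hZ) hF' u
    (fun x hx => bijective_stalk_pullback f (rhoApp Z F) x (isZClosedAt_of_not_mem hx)) v hv
  exact ⟨(asIso v).symm⟩

omit [IsLocallyNoetherian X] [IsLocallyNoetherian X'] in
/-- Finite type descends along a faithfully flat quasi-compact morphism. -/
theorem finite_sections_of_pullback [Surjective f] [QuasiCompact f] {H : X.Modules} (hH : Coh.IsQCoh H)
    (hfin : ∀ A : X'.affineOpens, Module.Finite Γ(X', A.1) Γ((Scheme.Modules.pullback f).obj H, A.1))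
    {V : X.Opens} (hV : IsAffineOpen V) : Module.Finite Γ(X, V) Γ(H, V) := by
  classical
  let H₁ := (Scheme.Modules.pullback f).obj H
  let η := (Scheme.Modules.pullbackPushforwardAdjunction f).unit.app H
  choose A hA hxA hAV' using fun x : {x : X' // x ∈ f ⁻¹ᵁ V} => exists_isAffineOpen_mem_and_subset x.2
  have hAV : ∀ x, A x ≤ f ⁻¹ᵁ V := hAV'
  obtain ⟨t, ht⟩ := (f.isCompact_preimage hV.isCompact).elim_finite_subcover (fun i => (A i : Set X'))
    (fun i => (A i).2) (fun x hx => Set.mem_iUnion.2 ⟨⟨x, hx⟩, hxA _⟩)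
  have hspan : ∀ i, Submodule.span Γ(X', A i) (Set.range (RelTilde.resθ f η (hAV i))) = ⊤ := by
    intro i
    let N := Submodule.span Γ(X', A i) (Set.range (RelTilde.resθ f η (hAV i)))
    obtain ⟨g, -, huniq⟩ := RelTilde.isBC_unit f hH hV (hA i) (hAV i) (Γ(H₁, A i) ⧸ N) 0
    have h0 : N.mkQ = 0 := (huniq N.mkQ fun m => (Submodule.Quotient.mk_eq_zero N).2
      (Submodule.subset_span ⟨m, rfl⟩)).trans (huniq 0 fun m => rfl).symm
    show N = ⊤
    exact N.ker_mkQ.symm.trans (by rw [h0, LinearMap.ker_zero])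
  have hgen : ∀ i, ∃ S : Finset Γ(H, V),
      Submodule.span Γ(X', A i) (RelTilde.resθ f η (hAV i) '' (S : Set Γ(H, V))) = ⊤ := by
    intro i
    haveI := hfin ⟨A i, hA i⟩
    obtain ⟨S₀, hS₀⟩ := (Module.Finite.fg_top : (⊤ : Submodule Γ(X', A i) Γ(H₁, A i)).FG)
    have h : ∀ s : Γ(H₁, A i), ∃ S : Finset Γ(H, V),
        s ∈ Submodule.span Γ(X', A i) (RelTilde.resθ f η (hAV i) '' (S : Set Γ(H, V))) := fun s => by
      obtain ⟨T, hT, hsT⟩ := Submodule.mem_span_finite_of_mem_span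
        ((hspan i).ge (Submodule.mem_top : s ∈ (⊤ : Submodule Γ(X', A i) Γ(H₁, A i))))
      obtain ⟨S, -, hS⟩ := Finset.subset_set_image_iff.1 (by rwa [← Set.image_univ] at hT)
      exact ⟨S, by rw [← Finset.coe_image, hS]; exact hsT⟩
    choose S hS using h
    refine ⟨S₀.biUnion S, eq_top_iff.2 (hS₀ ▸ Submodule.span_le.2 fun s hs => ?_)⟩
    exact Submodule.span_mono (Set.image_mono (Finset.coe_subset.2 (Finset.subset_biUnion_of_mem S hs))) (hS s)
  choose S hS using hgen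
  refine ⟨⟨t.biUnion S, eq_top_iff.2 fun m _ => ?_⟩⟩
  let M₀ := Submodule.span Γ(X, V) ((t.biUnion S : Finset Γ(H, V)) : Set Γ(H, V))
  let q : Γ(H, V) ⧸ M₀ := M₀.mkQ m
  let I : Ideal Γ(X, V) := LinearMap.ker (LinearMap.toSpanSingleton Γ(X, V) (Γ(H, V) ⧸ M₀) q)
  have hI : ∀ i ∈ t, I.map (f.appLE V (A i) (hAV i)).hom = ⊤ := by
    intro i hi
    let φ := (f.appLE V (A i) (hAV i)).hom
    letI := φ.toAlgebra
    haveI : Module.Flat Γ(X, V) Γ(X', A i) := Flat.flat_appLE f hV (hA i) (hAV i)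
    let w : Γ(H, V) →ₛₗ[φ] (Γ(X', A i) ⊗[Γ(X, V)] (Γ(H, V) ⧸ M₀)) :=
      { toFun := fun n => (1 : Γ(X', A i)) ⊗ₜ M₀.mkQ n
        map_add' := fun a b => by rw [map_add, TensorProduct.tmul_add]
        map_smul' := fun r n => by
          rw [map_smul, TensorProduct.tmul_smul, ← IsScalarTower.algebraMap_smul Γ(X', A i) r]
          rfl }
    obtain ⟨g, hg, -⟩ := RelTilde.isBC_unit f hH hV (hA i) (hAV i) _ w
    have hg0 : g = 0 := LinearMap.ext_on (hS i) (by
      rintro _ ⟨n, hn, rfl⟩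
      rw [hg]
      show (1 : Γ(X', A i)) ⊗ₜ[Γ(X, V)] M₀.mkQ n = 0
      rw [show M₀.mkQ n = 0 from
          (Submodule.Quotient.mk_eq_zero M₀).2 (Submodule.subset_span (Finset.mem_biUnion.2 ⟨i, hi, hn⟩)),
        TensorProduct.tmul_zero])
    have h10 : (1 : Γ(X', A i)) ⊗ₜ[Γ(X, V)] q = 0 := (hg m).symm.trans (by rw [hg0]; rfl)
    have hex := Module.Flat.lTensor_exact Γ(X', A i)
      (LinearMap.exact_subtype_ker_map (LinearMap.toSpanSingleton Γ(X, V) (Γ(H, V) ⧸ M₀) q))
    obtain ⟨z, hz⟩ := (hex (1 ⊗ₜ (1 : Γ(X, V)))).1 (by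
      rw [LinearMap.lTensor_tmul, LinearMap.toSpanSingleton_apply, one_smul]; exact h10)
    refine (Ideal.eq_top_iff_one _).2 ?_
    have hmem : ∀ z : Γ(X', A i) ⊗[Γ(X, V)] I, (TensorProduct.rid Γ(X, V) Γ(X', A i))
        ((Submodule.subtype I).lTensor Γ(X', A i) z) ∈ I.map φ := by
      intro z
      induction z using TensorProduct.induction_on with
      | zero => simp
      | add a b ha hb => rw [map_add, map_add]; exact add_mem ha hb
      | tmul b r =>
        rw [LinearMap.lTensor_tmul, TensorProduct.rid_tmul, Algebra.smul_def]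
        exact Ideal.mul_mem_right _ _ (Ideal.mem_map_of_mem _ r.2)
    have h1 := hmem z
    rw [show ((Submodule.subtype I).lTensor Γ(X', A i)) z = _ from hz, TensorProduct.rid_tmul, one_smul] at h1
    exact h1
  have htop : I = ⊤ := by
    have hcov : V ≤ ⨆ r : (I : Set Γ(X, V)), X.basicOpen (r : Γ(X, V)) := fun y hy => by
      obtain ⟨x, rfl⟩ := f.surjective y
      obtain ⟨i, hi, hxi⟩ := Set.mem_iUnion₂.1 (ht hy)
      have h1 : Ideal.span ((f.appLE V (A i) (hAV i)).hom '' (I : Set Γ(X, V))) = ⊤ := hI i hi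
      rw [← (hA i).self_le_iSup_basicOpen_iff] at h1
      obtain ⟨⟨_, r, hr, rfl⟩, hx⟩ := Opens.mem_iSup.1 (h1 hxi)
      rw [Scheme.basicOpen_appLE] at hx
      exact Opens.mem_iSup.2 ⟨⟨r, hr⟩, hx.2⟩
    rw [hV.self_le_iSup_basicOpen_iff] at hcov
    rwa [Ideal.span_eq] at hcov
  have h1 : (1 : Γ(X, V)) ∈ I := htop ▸ Submodule.mem_top
  rw [LinearMap.mem_ker, LinearMap.toSpanSingleton_apply, one_smul] at h1
  exact (Submodule.Quotient.mk_eq_zero M₀).1 h1

end Groth.Agent.ZCl
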