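import Groth.Agent.ZCl.Closed
import Groth.Agent.LocH.DepthPrimes
/-!
Associated points of a coherent Z-closure.
-/
universe u
open AlgebraicGeometry CategoryTheory CategoryTheory.Limits TopologicalSpace Opposite ZClos
open Groth.Agent.WeakAssLib
set_option backward.isDefEq.respectTransparency false
set_option linter.style.haveILetI false
noncomputable section

namespace Groth.Agent.ZCl

variable {X : Scheme.{u}} {Z : Set X} {F : X.Modules}

/-- a stalkwise bijective morphism as a linear equivalence -/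
def stalkEquiv {M N : X.Modules} (φ : M ⟶ N) {x : X} (h : Function.Bijective (stalkHom φ x)) :
    M.presheaf.stalk x ≃ₗ[X.presheaf.stalk x] N.presheaf.stalk x :=
  LinearEquiv.ofBijective { toFun := stalkHom φ x
                            map_add' := map_add _
                            map_smul' := fun r m => stalkHom_smul φ x r m } h

theorem isAssPoint_H0 {x : X} (hxZ : x ∉ Z) (hx : Curv2.IsAssPoint F x) :
    Curv2.IsAssPoint ((H0 Z).obj F) x := by
  let e := stalkEquiv (rhoApp Z F) (x := x) (isZClosedAt_of_not_mem hxZ)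
  exact hx.map_of_injective e.toLinearMap e.injective

/-- the closure of a point of `Z` has codimension at least two in the closure of an associated point off `Z` -/
theorem two_le_dim_quot [IsLocallyNoetherian X] (hZ : StableUnderSpecialization Z)
    (hH : Coh.IsCoh ((H0 Z).obj F)) {x : X} (hx : Curv2.IsAssPoint F x) (hxZ : x ∉ Z) {y : X} (hy : y ∈ Z)
    (h : x ⤳ y) :
    (2 : WithBot ℕ∞) ≤ ringKrullDim (X.presheaf.stalk y ⧸
      (IsLocalRing.maximalIdeal (X.presheaf.stalk x)).comap (X.presheaf.stalkSpecializes h).hom) := by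
  obtain ⟨A, hA, hyA, -⟩ := exists_isAffineOpen_mem_and_subset (show y ∈ (⊤ : X.Opens) from trivial)
  have hxA : x ∈ A := h.mem_open A.2 hyA
  have : IsNoetherianRing Γ(X, A) := IsLocallyNoetherian.component_noetherian ⟨A, hA⟩
  have : Module.Finite Γ(X, A) Γ((H0 Z).obj F, A) := (QC.isCoh_iff_finite_sections.mp hH).2 ⟨A, hA⟩
  let p := (hA.primeIdealOf ⟨x, hxA⟩).asIdeal
  let q := (hA.primeIdealOf ⟨y, hyA⟩).asIdeal
  have hpq : p < q := by
    refine lt_of_le_of_ne (le_of_specializes hA hyA hxA h) fun e => hxZ ?_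
    rw [← fromSpec_primeIdealOf' hA hxA, show hA.primeIdealOf ⟨x, hxA⟩ = hA.primeIdealOf ⟨y, hyA⟩ from
      PrimeSpectrum.ext e, fromSpec_primeIdealOf' hA hyA]
    exact hy
  obtain ⟨n, hn⟩ := AssLib.exists_colon_eq hA (QC.isLoc_of_isQCoh hA (hM := hH.1)) hxA (isAssPoint_H0 hxZ hx)
  have hn' : ∀ a : Γ(X, A), a • n = 0 ↔ a ∈ p := fun a => by
    rw [show a ∈ p ↔ a ∈ LinearMap.ker (LinearMap.toSpanSingleton Γ(X, A) Γ((H0 Z).obj F, A) n) by rw [hn],
      LinearMap.mem_ker, LinearMap.toSpanSingleton_apply]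
  have hd : ((0 + 2 : ℕ) : ℕ∞) ≤ LocCoh.depth (Localization.AtPrime q) (LocalizedModule q.primeCompl Γ((H0 Z).obj F, A)) := by
    rw [← depth_fromSpec hH hA hyA]
    exact_mod_cast two_le_depth_of_isZClosedAt_self hZ hH hy (isZClosedAt_of_isZClosed isZClosed_H0 y)
  obtain ⟨P, hP, hpP, hPq, hne⟩ : ∃ P : Ideal Γ(X, A), P.IsPrime ∧ p ≤ P ∧ P ≤ q ∧ ¬ (P = p ∨ P = q) := by
    by_contra hc
    push Not at hc
    have h1 := LocH.depth_step hpq (fun P hP h1 h2 => by have := hc P hP h1 h2; tauto) _ 0 hd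
    exact not_ann_eq_of_depth (by exact_mod_cast h1) n hn'
  push Not at hne
  let := TopCat.Presheaf.algebra_section_stalk X.presheaf ⟨y, hyA⟩
  have hloc : IsLocalization.AtPrime (X.presheaf.stalk y) q := hA.isLocalization_stalk ⟨y, hyA⟩
  let P₀ := (IsLocalRing.maximalIdeal (X.presheaf.stalk x)).comap (X.presheaf.stalkSpecializes h).hom
  have hP₀ : P₀.IsPrime := Ideal.comap_isPrime _ _
  have hc : P₀.comap (algebraMap Γ(X, A) (X.presheaf.stalk y)) = p := by
    ext a
    show (X.presheaf.stalkSpecializes h).hom ((X.presheaf.germ A y hyA).hom a) ∈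
      IsLocalRing.maximalIdeal (X.presheaf.stalk x) ↔ _
    rw [← CommRingCat.comp_apply, TopCat.Presheaf.germ_stalkSpecializes, IsLocalRing.mem_maximalIdeal,
      mem_nonunits_iff]
    change ¬ IsUnit ((X.presheaf.germ A x hxA).hom a) ↔ _
    rw [← X.mem_basicOpen a x hxA, mem_primeIdealOf hA hxA, not_not]
  have hdisj : Disjoint (q.primeCompl : Set Γ(X, A)) (P : Set Γ(X, A)) :=
    Set.disjoint_left.2 fun a ha haP => ha (hPq haP)
  let P₁ := P.map (algebraMap Γ(X, A) (X.presheaf.stalk y))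
  have hP₁ : P₁.IsPrime := IsLocalization.isPrime_of_isPrime_disjoint q.primeCompl _ P hP hdisj
  have hc₁ : P₁.comap (algebraMap Γ(X, A) (X.presheaf.stalk y)) = P :=
    IsLocalization.comap_map_of_isPrime_disjoint q.primeCompl _ hP hdisj
  have h01 : P₀ < P₁ := by
    refine lt_of_le_of_ne ?_ fun e => hne.1 ?_
    · rw [← IsLocalization.map_comap q.primeCompl _ P₀]
      exact Ideal.map_mono (hc.le.trans hpP)
    · rw [← hc₁, ← e, hc]
  have h12 : P₁ < IsLocalRing.maximalIdeal (X.presheaf.stalk y) := by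
    refine lt_of_le_of_ne (IsLocalRing.le_maximalIdeal hP₁.ne_top) fun e => hne.2 ?_
    rw [← hc₁, e]
    exact IsLocalization.AtPrime.comap_maximalIdeal _ q
  let π := Ideal.Quotient.mk P₀
  have hm : ∀ J : Ideal (X.presheaf.stalk y), P₀ ≤ J → (J.map π).comap π = J := fun J hJ => by
    rw [Ideal.comap_map_of_surjective' _ Ideal.Quotient.mk_surjective, Ideal.mk_ker, sup_eq_left.2 hJ]
  have hp1 : (P₁.map π).IsPrime :=
    Ideal.map_isPrime_of_surjective Ideal.Quotient.mk_surjective (by rw [Ideal.mk_ker]; exact h01.le)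
  have hp2 : ((IsLocalRing.maximalIdeal (X.presheaf.stalk y)).map π).IsPrime :=
    Ideal.map_isPrime_of_surjective Ideal.Quotient.mk_surjective (by rw [Ideal.mk_ker]; exact (h01.trans h12).le)
  have hp0 : (⊥ : Ideal (X.presheaf.stalk y ⧸ P₀)).IsPrime := Ideal.isPrime_bot
  have hlt1 : (⊥ : Ideal (X.presheaf.stalk y ⧸ P₀)) < P₁.map π := by
    refine lt_of_le_of_ne bot_le fun e => h01.ne ?_
    rw [← hm P₁ h01.le, ← e, ← RingHom.ker_eq_comap_bot, Ideal.mk_ker]
  have hlt2 : P₁.map π < (IsLocalRing.maximalIdeal (X.presheaf.stalk y)).map π := by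
    refine lt_of_le_of_ne (Ideal.map_mono h12.le) fun e => h12.ne ?_
    rw [← hm P₁ h01.le, e, hm _ (h01.trans h12).le]
  have e1 := Ideal.height_add_one_le_of_lt_of_isPrime hlt1
  have e2 := Ideal.height_add_one_le_of_lt_of_isPrime hlt2
  have h2 : (2 : ℕ∞) ≤ ((IsLocalRing.maximalIdeal (X.presheaf.stalk y)).map π).height :=
    le_trans (show (2 : ℕ∞) ≤ (⊥ : Ideal (X.presheaf.stalk y ⧸ P₀)).height + 1 + 1 by
      rw [add_assoc, one_add_one_eq_two]; exact le_add_self) ((add_le_add e1 le_rfl).trans e2)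
  refine le_trans ?_ (Ideal.height_le_ringKrullDim_of_ne_top hp2.ne_top)
  exact WithBot.coe_le_coe.2 h2

end Groth.Agent.ZCl
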