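import Groth.Agent.ZCl.AssH0
/-!
The closure off the points of codimension at least two, and condition (S₂).
-/
universe u
open AlgebraicGeometry CategoryTheory CategoryTheory.Limits TopologicalSpace Opposite ZClos
open Groth.Agent.WeakAssLib
set_option backward.isDefEq.respectTransparency false
set_option linter.style.haveILetI false
noncomputable section

namespace Groth.Agent.ZCl

variable {X : Scheme.{u}} {F : X.Modules}

theorem stable_dimGe (n : ℕ) : StableUnderSpecialization (dimGe X n) := fun x y hxy hx => by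
  have h1 : Order.coheight x ≤ Order.coheight y := Order.coheight_anti (show y ≤ x from hxy)
  show (n : WithBot ℕ∞) ≤ ringKrullDim (X.presheaf.stalk y)
  refine le_trans (show (n : WithBot ℕ∞) ≤ ringKrullDim (X.presheaf.stalk x) from hx) ?_
  rw [AlgebraicGeometry.ringKrullDim_stalk_eq_coheight, AlgebraicGeometry.ringKrullDim_stalk_eq_coheight]
  exact WithBot.coe_le_coe.2 h1

theorem supportDim_eq_of_supp [IsLocallyNoetherian X] (hF : Coh.IsCoh F)
    (hsupp : ∀ x : X, Nontrivial (F.presheaf.stalk x)) (x : X) :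
    Module.supportDim (X.presheaf.stalk x) (F.presheaf.stalk x) = ringKrullDim (X.presheaf.stalk x) := by
  obtain ⟨A, hA, hxA, -⟩ := exists_isAffineOpen_mem_and_subset (show x ∈ (⊤ : X.Opens) from trivial)
  have hL : QC.IsLoc F A := QC.isLoc_of_isQCoh hA (hM := hF.1)
  let := TopCat.Presheaf.algebra_section_stalk X.presheaf ⟨x, hxA⟩
  let p := (hA.primeIdealOf ⟨x, hxA⟩).asIdeal
  have hloc : IsLocalization.AtPrime (X.presheaf.stalk x) p := hA.isLocalization_stalk ⟨x, hxA⟩
  have huniv : Module.support (X.presheaf.stalk x) (F.presheaf.stalk x) = Set.univ := by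
    refine Set.eq_univ_of_forall fun P => ?_
    by_contra hP
    rw [Module.notMem_support_iff'] at hP
    let q : PrimeSpectrum Γ(X, A) := ⟨P.asIdeal.comap (algebraMap Γ(X, A) (X.presheaf.stalk x)), Ideal.comap_isPrime _ _⟩
    have hqp : q.asIdeal ≤ p := fun a ha => by
      by_contra hap
      exact P.2.ne_top (Ideal.eq_top_of_isUnit_mem _ ha
        (IsLocalization.map_units (M := p.primeCompl) (X.presheaf.stalk x) ⟨a, hap⟩))
    let z := hA.fromSpec q
    have hzA : z ∈ A := by rw [← SetLike.mem_coe, ← hA.range_fromSpec]; exact ⟨_, rfl⟩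
    have hzq : hA.primeIdealOf ⟨z, hzA⟩ = q :=
      hA.fromSpec.isOpenEmbedding.injective (fromSpec_primeIdealOf' hA hzA)
    obtain ⟨σ, hσ⟩ := @exists_ne _ (hsupp z) (0 : F.presheaf.stalk z)
    obtain ⟨a, m, ha, ham⟩ := exists_germ hA hL hzA σ
    obtain ⟨r, hr, hrm⟩ := hP (mgerm F hxA m)
    obtain ⟨⟨c, s⟩, hcs⟩ := IsLocalization.surj p.primeCompl r
    have hcq : c ∉ q.asIdeal := fun hc => by
      rcases P.2.mem_or_mem (show r * algebraMap Γ(X, A) (X.presheaf.stalk x) (s : Γ(X, A)) ∈ P.asIdeal by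
        rw [hcs]; exact hc) with h | h
      · exact hr h
      · exact s.2 (hqp h)
    have h1 : mgerm F hxA (c • m) = 0 := by
      rw [mgerm_smul]
      change algebraMap Γ(X, A) (X.presheaf.stalk x) c • mgerm F hxA m = 0
      rw [← hcs, mul_comm, mul_smul, hrm, smul_zero]
    obtain ⟨b, hb, hbz⟩ := (germ_eq_zero_iff hA hL hxA _).1 h1
    have h2 : mgerm F hzA m = 0 := (germ_eq_zero_iff hA hL hzA _).2
      ⟨b * c, by rw [hzq]; exact q.asIdeal.primeCompl.mul_mem (fun h => hb (hqp h)) hcq, by rw [mul_smul]; exact hbz⟩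
    rw [← ham] at h2
    exact hσ ((isUnit_germ hA hzA ha).smul_eq_zero.1 h2)
  rw [Module.supportDim, huniv]
  exact Order.krullDim_eq_of_orderIso OrderIso.Set.univ

theorem S2_bound_of_not_mem [IsLocallyNoetherian X] (hF : Coh.IsCoh F)
    (hass : ∀ x ∈ AssSch.Ass F, ringKrullDim (X.presheaf.stalk x) ≠ 1) {x : X} (hx : x ∉ dimGe X 2) :
    min (2 : WithBot ℕ∞) (Module.supportDim (X.presheaf.stalk x) (F.presheaf.stalk x)) ≤
      ((LocCoh.depth (X.presheaf.stalk x) (F.presheaf.stalk x) : ℕ∞) : WithBot ℕ∞) := by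
  refine (min_le_right _ _).trans ((Module.supportDim_le_ringKrullDim _ _).trans ?_)
  have hlt : ringKrullDim (X.presheaf.stalk x) < (2 : WithBot ℕ∞) := not_le.1 hx
  by_cases h1 : ringKrullDim (X.presheaf.stalk x) = 1
  · rw [h1]
    exact_mod_cast WithBot.coe_le_coe.2 (depth_one_of_not_ass hF fun hA => hass x hA h1)
  · have h0 : ringKrullDim (X.presheaf.stalk x) ≤ 0 := by
      revert hlt h1
      generalize ringKrullDim (X.presheaf.stalk x) = d
      intro hlt h1
      induction d using WithBot.recBotCoe with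
      | bot => exact bot_le
      | coe d =>
        induction d using ENat.recTopCoe with
        | top => exact absurd hlt (not_lt.2 (WithBot.coe_le_coe.2 (le_top : (2 : ℕ∞) ≤ ⊤)))
        | coe k =>
          rcases k with _ | _ | k
          · exact le_refl _
          · exact absurd rfl h1
          · exact absurd hlt (not_lt.2 (WithBot.coe_le_coe.2 (by exact_mod_cast (Nat.le_add_left 2 k))))
    exact h0.trans (WithBot.coe_le_coe.2 zero_le)

theorem setOf_S2_eq [IsLocallyNoetherian X] (hF : Coh.IsCoh F) (hsupp : ∀ x : X, Nontrivial (F.presheaf.stalk x))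
    (hass : ∀ x ∈ AssSch.Ass F, ringKrullDim (X.presheaf.stalk x) ≠ 1) :
    {x : X | ∀ x' : X, x' ⤳ x →
        min (2 : WithBot ℕ∞) (Module.supportDim (X.presheaf.stalk x') (F.presheaf.stalk x')) ≤
          ((LocCoh.depth (X.presheaf.stalk x') (F.presheaf.stalk x') : ℕ∞) : WithBot ℕ∞)} =
      {x : X | IsZClosedAt (dimGe X 2) F x} := by
  ext x
  refine Iff.trans ?_ (isZClosedAt_iff_depth (stable_dimGe 2) hF x).symm
  refine forall₂_congr fun x' _ => ?_
  by_cases hx : x' ∈ dimGe X 2
  · have h2 : (2 : WithBot ℕ∞) ≤ ringKrullDim (X.presheaf.stalk x') := hx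
    rw [supportDim_eq_of_supp hF hsupp, min_eq_left h2]
    exact ⟨fun h _ => WithBot.coe_le_coe.1 h, fun h => WithBot.coe_le_coe.2 (h hx)⟩
  · exact iff_of_true (S2_bound_of_not_mem hF hass hx) fun h => absurd h hx

end Groth.Agent.ZCl
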