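import Groth.Agent.ZCl.HullAlg
import Groth.Agent.ZCl.AssH0
import Groth.Agent.Easy4.HullFin
import Groth.Prelude.Def_FDesc
/-!
Coherence of the Z-closure on a scheme from finiteness of the height-one hulls at associated points.
-/
universe u
open AlgebraicGeometry CategoryTheory CategoryTheory.Limits TopologicalSpace Opposite ZClos
open Groth.Agent.WeakAssLib
set_option backward.isDefEq.respectTransparency false
set_option linter.style.haveILetI false
noncomputable section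

namespace Groth.Agent.ZCl

variable {X : Scheme.{u}} [IsLocallyNoetherian X] {Z : Set X} {F : X.Modules}

/-- the points of `Z` in an affine open, as primes -/
def affZ {V : X.Opens} (hV : IsAffineOpen V) (Z : Set X) : Set (PrimeSpectrum Γ(X, V)) :=
  {p | hV.fromSpec p ∈ Z}

theorem fromSpec_mem {V : X.Opens} (hV : IsAffineOpen V) (p : PrimeSpectrum Γ(X, V)) : hV.fromSpec p ∈ V := by
  rw [← SetLike.mem_coe, ← hV.range_fromSpec]
  exact ⟨p, rfl⟩

theorem primeIdealOf_fromSpec {V : X.Opens} (hV : IsAffineOpen V) (p : PrimeSpectrum Γ(X, V)) :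
    hV.primeIdealOf ⟨hV.fromSpec p, fromSpec_mem hV p⟩ = p :=
  hV.fromSpec.isOpenEmbedding.injective (fromSpec_primeIdealOf' hV _)

theorem localized_rho_bijective (hF : Coh.IsQCoh F) {V : X.Opens} (hV : IsAffineOpen V)
    (p : {p : PrimeSpectrum Γ(X, V) // p ∉ affZ hV Z}) :
    (∀ σ : Γ((H0 Z).obj F, V), ∃ (m : Γ(F, V)) (s : Γ(X, V)), s ∉ p.1.asIdeal ∧
      s • σ = appₗ (rhoApp Z F) V m) ∧
    Function.Bijective (LocalizedModule.map p.1.asIdeal.primeCompl (appₗ (rhoApp Z F) V)) := by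
  have hL : QC.IsLoc F V := QC.isLoc_of_isQCoh hV (hM := hF)
  have hLH : QC.IsLoc ((H0 Z).obj F) V := QC.isLoc_of_isQCoh hV (hM := isQCoh_H0 hF)
  have hxV := fromSpec_mem hV p.1
  have hx : Function.Bijective (stalkHom (rhoApp Z F) (hV.fromSpec p.1)) := isZClosedAt_of_not_mem p.2
  have hp : (hV.primeIdealOf ⟨hV.fromSpec p.1, hxV⟩).asIdeal = p.1.asIdeal := by rw [primeIdealOf_fromSpec]
  have hex : ∀ σ : Γ((H0 Z).obj F, V), ∃ (m : Γ(F, V)) (s : Γ(X, V)), s ∉ p.1.asIdeal ∧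
      s • σ = appₗ (rhoApp Z F) V m := fun σ => by
    obtain ⟨t, ht⟩ := hx.2 (mgerm _ hxV σ)
    obtain ⟨s, m, hs, hsm⟩ := exists_germ hV hL hxV t
    have h3 : mgerm ((H0 Z).obj F) hxV (s • σ - (rhoApp Z F).app V m) = 0 := by
      rw [map_sub, mgerm_smul, ← ht, ← stalkHom_smul, hsm, stalkHom_germ, sub_self]
    obtain ⟨a, ha, haz⟩ := (germ_eq_zero_iff hV hLH hxV _).1 h3
    rw [hp] at ha hs
    refine ⟨a • m, a * s, p.1.asIdeal.primeCompl.mul_mem ha hs, ?_⟩
    rw [smul_sub, sub_eq_zero] at haz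
    rw [map_smul, mul_smul, haz]
    rfl
  refine ⟨hex, (injective_iff_map_eq_zero _).2 fun z hz => ?_, fun z => ?_⟩
  · induction z using LocalizedModule.induction_on with
    | h m t =>
      rw [LocalizedModule.map_mk, ← LocalizedModule.zero_mk 1, LocalizedModule.mk_eq] at hz
      obtain ⟨w, hw⟩ := hz
      simp only [one_smul, smul_zero, Submonoid.smul_def] at hw
      have h0 : mgerm ((H0 Z).obj F) hxV ((rhoApp Z F).app V m) = 0 :=
        (germ_eq_zero_iff hV hLH hxV _).2 ⟨w.1, by rw [hp]; exact w.2, hw⟩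
      rw [← stalkHom_germ] at h0
      obtain ⟨a, ha, haz⟩ := (germ_eq_zero_iff hV hL hxV _).1 (hx.1 (h0.trans (map_zero _).symm))
      rw [hp] at ha
      rw [← LocalizedModule.zero_mk 1, LocalizedModule.mk_eq]
      exact ⟨⟨a, ha⟩, by simp only [one_smul, smul_zero, Submonoid.smul_def]; exact haz⟩
  · induction z using LocalizedModule.induction_on with
    | h σ t =>
      obtain ⟨m, s, hs, hm⟩ := hex σ
      refine ⟨LocalizedModule.mk m (⟨s, hs⟩ * t), ?_⟩
      rw [LocalizedModule.map_mk, ← hm]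
      exact LocalizedModule.mk_cancel_common_left ⟨s, hs⟩ t σ

/-- sections of the closure over an affine open as families of fractions off `Z` -/
def affTheta (hF : Coh.IsQCoh F) {V : X.Opens} (hV : IsAffineOpen V) :
    Γ((H0 Z).obj F, V) →ₗ[Γ(X, V)] Fam (affZ hV Z) Γ(F, V) :=
  LinearMap.pi fun p => ((LinearEquiv.ofBijective _ (localized_rho_bijective hF hV p).2).symm.toLinearMap.restrictScalars
    Γ(X, V)).comp (LocalizedModule.mkLinearMap p.1.asIdeal.primeCompl _)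

theorem affTheta_rho (hF : Coh.IsQCoh F) {V : X.Opens} (hV : IsAffineOpen V) (m : Γ(F, V))
    (p : {p : PrimeSpectrum Γ(X, V) // p ∉ affZ hV Z}) :
    affTheta hF hV (appₗ (rhoApp Z F) V m) p = LocalizedModule.mk m 1 :=
  (LinearEquiv.symm_apply_eq (LinearEquiv.ofBijective (LocalizedModule.map p.1.asIdeal.primeCompl (appₗ (rhoApp Z F) V))
    (localized_rho_bijective hF hV p).2)).2 (by
    rw [LinearEquiv.ofBijective_apply, LocalizedModule.map_mk]; rfl)

theorem affTheta_mem (hF : Coh.IsQCoh F) {V : X.Opens} (hV : IsAffineOpen V) (σ : Γ((H0 Z).obj F, V)) :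
    affTheta hF hV σ ∈ famSub (affZ hV Z) Γ(F, V) := by
  intro x
  obtain ⟨m, s, hs, hm⟩ := (localized_rho_bijective hF hV x).1 σ
  refine ⟨m, s, hs, fun y _ => ?_⟩
  rw [← Pi.smul_apply, ← map_smul, hm, affTheta_rho]

theorem affTheta_injective (hZ : StableUnderSpecialization Z) (hF : Coh.IsQCoh F) {V : X.Opens}
    (hV : IsAffineOpen V) : Function.Injective (affTheta (Z := Z) hF hV) := by
  refine (injective_iff_map_eq_zero _).2 fun σ h => ?_
  have hLH : QC.IsLoc ((H0 Z).obj F) V := QC.isLoc_of_isQCoh hV (hM := isQCoh_H0 hF)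
  obtain ⟨T, hT⟩ := exists_eq_zero_of_germ hZ σ fun x hx hxZ => by
    have hfx := fromSpec_primeIdealOf' hV hx
    let p : {p : PrimeSpectrum Γ(X, V) // p ∉ affZ hV Z} :=
      ⟨hV.primeIdealOf ⟨x, hx⟩, fun h => hxZ (hfx ▸ h)⟩
    have h1 : (LinearEquiv.ofBijective _ (localized_rho_bijective hF hV p).2).symm
        (LocalizedModule.mk σ 1) = 0 := congrFun h p
    rw [LinearEquiv.map_eq_zero_iff, mk_one_eq_zero_iff] at h1
    exact (germ_eq_zero_iff hV hLH hx σ).2 h1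
  exact pure_iff.1 (by haveI : IsIso (rhoApp Z ((H0 Z).obj F)) := isZClosed_H0; show Mono _; infer_instance) T V
    (hT.trans (map_zero _).symm)

theorem isCoh_H0_of_resPush (hF : Coh.IsCoh F) (T : Closeds X) (h : Coh.IsCoh ((resPush T.compl).obj F)) :
    Coh.IsCoh ((H0 (T : Set X)).obj F) := by
  let t : Cl (T : Set X) := ⟨T, subset_rfl⟩
  let ht : IsTerminal t := IsTerminal.ofUniqueHom (fun S => homOfLE S.2) fun S m => Subsingleton.elim _ _
  let D := (diagram (T : Set X)).obj F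
  let e : colimit D ≅ D.obj t := (colimit.isColimit D).coconePointUniqueUpToIso (colimitOfDiagramTerminal ht D)
  refine QC.isCoh_iff_finite_sections.mpr ⟨isQCoh_H0 hF.1, fun A => ?_⟩
  haveI : Module.Finite Γ(X, A.1) Γ(D.obj t, A.1) := (QC.isCoh_iff_finite_sections.mp h).2 A
  exact Module.Finite.of_surjective (appₗ e.inv A.1) (bijective_of_isIso e.inv A.1).2

theorem goodAt_of_resPush (hF : Coh.IsCoh F)
    (hd : ∀ y ∈ Z, ∃ T : Cl Z, y ∈ (T.1 : Set X) ∧ Coh.IsCoh ((resPush T.U).obj F))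
    {V : X.Opens} (hV : IsAffineOpen V) (p : PrimeSpectrum Γ(X, V))
    (hp : Curv2.IsAssPoint F (hV.fromSpec p)) (hpZ : p ∉ affZ hV Z) : GoodAt (affZ hV Z) p.asIdeal := by
  intro y hy hpy
  obtain ⟨T, hyT, hT⟩ := hd _ hy
  have hst : StableUnderSpecialization (T.1 : Set X) := T.1.isClosed.stableUnderSpecialization
  have hH : Coh.IsCoh ((H0 (T.1 : Set X)).obj F) := isCoh_H0_of_resPush hF T.1 hT
  have hxT : hV.fromSpec p ∉ (T.1 : Set X) := fun h => hpZ (T.2 h)
  have : IsNoetherianRing Γ(X, V) := IsLocallyNoetherian.component_noetherian ⟨V, hV⟩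
  have : Module.Finite Γ(X, V) Γ((H0 (T.1 : Set X)).obj F, V) := (QC.isCoh_iff_finite_sections.mp hH).2 ⟨V, hV⟩
  have hlt : p.asIdeal < y.asIdeal :=
    lt_of_le_of_ne hpy fun e => hpZ ((PrimeSpectrum.ext e : p = y) ▸ hy)
  obtain ⟨n, hn⟩ := AssLib.exists_colon_eq hV (QC.isLoc_of_isQCoh hV (hM := hH.1)) (fromSpec_mem hV p)
    (isAssPoint_H0 hxT hp)
  rw [primeIdealOf_fromSpec] at hn
  have hn' : ∀ a : Γ(X, V), a • n = 0 ↔ a ∈ p.asIdeal := fun a => by
    rw [show a ∈ p.asIdeal ↔ a ∈ LinearMap.ker (LinearMap.toSpanSingleton Γ(X, V) _ n) by rw [hn],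
      LinearMap.mem_ker, LinearMap.toSpanSingleton_apply]
  have hd2 : ((0 + 2 : ℕ) : ℕ∞) ≤ LocCoh.depth (Localization.AtPrime y.asIdeal)
      (LocalizedModule y.asIdeal.primeCompl Γ((H0 (T.1 : Set X)).obj F, V)) := by
    have := depth_fromSpec hH hV (fromSpec_mem hV y)
    rw [primeIdealOf_fromSpec] at this
    rw [← this]
    exact_mod_cast two_le_depth_of_isZClosedAt_self hst hH hyT (isZClosedAt_of_isZClosed isZClosed_H0 _)
  obtain ⟨P, hP, hpP, hPy, hne⟩ : ∃ P : Ideal Γ(X, V), P.IsPrime ∧ p.asIdeal ≤ P ∧ P ≤ y.asIdeal ∧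
      ¬ (P = p.asIdeal ∨ P = y.asIdeal) := by
    by_contra hc
    push Not at hc
    have h1 := LocH.depth_step hlt (fun P hP h1 h2 => by have := hc P hP h1 h2; tauto) _ 0 hd2
    exact not_ann_eq_of_depth (by exact_mod_cast h1) n hn'
  push Not at hne
  let π := Ideal.Quotient.mk p.asIdeal
  have hker : ∀ J, p.asIdeal ≤ J → RingHom.ker π ≤ J := fun J hJ => by rwa [Ideal.mk_ker]
  have hcm : ∀ J, p.asIdeal ≤ J → (J.map π).comap π = J := fun J hJ => by
    rw [Ideal.comap_map_of_surjective _ Ideal.Quotient.mk_surjective, ← RingHom.ker_eq_comap_bot, Ideal.mk_ker,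
      sup_eq_left.2 hJ]
  haveI := Ideal.map_isPrime_of_surjective (f := π) Ideal.Quotient.mk_surjective (hker P hpP)
  haveI := Ideal.map_isPrime_of_surjective (f := π) Ideal.Quotient.mk_surjective (hker y.asIdeal hpy)
  haveI : (⊥ : Ideal (Γ(X, V) ⧸ p.asIdeal)).IsPrime := Ideal.isPrime_bot
  have h1 : (⊥ : Ideal (Γ(X, V) ⧸ p.asIdeal)) < P.map π := by
    refine bot_lt_iff_ne_bot.2 fun e => hne.1 ?_
    rw [← hcm P hpP, e, ← RingHom.ker_eq_comap_bot, Ideal.mk_ker]
  have h2 : P.map π < y.asIdeal.map π := by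
    refine lt_of_le_of_ne (Ideal.map_mono hPy) fun e => hne.2 ?_
    rw [← hcm P hpP, e, hcm _ hpy]
  have h3 : (1 : ℕ∞) ≤ (P.map π).height := le_trans le_add_self (Ideal.height_add_one_le_of_lt_of_isPrime h1)
  exact le_trans (by rw [← one_add_one_eq_two]; exact add_le_add_left h3 1)
    (Ideal.height_add_one_le_of_lt_of_isPrime h2)

theorem heightOneHullFinite_of_ucat {A : Type u} [CommRing A] [IsNoetherianRing A] {q p : Ideal A} [q.IsPrime]
    [p.IsPrime] (e : q = p) (h : CAlg.IsUniversallyCatenary (A ⧸ q) ∧ CAlg.IsN1 (A ⧸ q)) :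
    EGA4.HeightOneHullFinite (A ⧸ p) := by
  subst e
  exact Easy4.HullFin.heightOneHullFinite h.1 h.2

theorem isCoh_H0_of_family (hZ : StableUnderSpecialization Z) (hF : Coh.IsCoh F)
    (hX : ∀ (V : X.Opens) (hV : IsAffineOpen V) (x : X) (hxV : x ∈ V), x ∈ AssSch.Ass F →
        CAlg.IsUniversallyCatenary (Γ(X, V) ⧸ (hV.primeIdealOf ⟨x, hxV⟩).asIdeal) ∧
          CAlg.IsN1 (Γ(X, V) ⧸ (hV.primeIdealOf ⟨x, hxV⟩).asIdeal))
    (hd : ∀ y ∈ Z, ∃ T : Cl Z, y ∈ (T.1 : Set X) ∧ Coh.IsCoh ((resPush T.U).obj F)) :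
    Coh.IsCoh ((H0 Z).obj F) := by
  refine QC.isCoh_iff_finite_sections.mpr ⟨isQCoh_H0 hF.1, fun A => ?_⟩
  obtain ⟨V, hV⟩ := A
  have : IsNoetherianRing Γ(X, V) := IsLocallyNoetherian.component_noetherian ⟨V, hV⟩
  have : Module.Finite Γ(X, V) Γ(F, V) := (QC.isCoh_iff_finite_sections.mp hF).2 ⟨V, hV⟩
  have hZ' : StableUnderSpecialization (affZ hV Z) := fun a b hab ha => hZ (hab.map hV.fromSpec.continuous) ha
  have hass : ∀ p : PrimeSpectrum Γ(X, V), p.asIdeal ∈ associatedPrimes Γ(X, V) Γ(F, V) → p ∉ affZ hV Z →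
      GoodAt (affZ hV Z) p.asIdeal ∧ EGA4.HeightOneHullFinite (Γ(X, V) ⧸ p.asIdeal) := fun p hp hpZ => by
    obtain ⟨-, t, ht⟩ := isAssociatedPrime_iff.1 hp
    have hx : Curv2.IsAssPoint F (hV.fromSpec p) :=
      AssLib.isAssPoint_of_colon_eq hV (QC.isLoc_of_isQCoh hV (hM := hF.1)) (fromSpec_mem hV p) t (by
        rw [primeIdealOf_fromSpec, ht]
        ext a
        rw [LinearMap.mem_ker, LinearMap.toSpanSingleton_apply, Submodule.mem_colon_singleton, Submodule.mem_bot])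
    exact ⟨goodAt_of_resPush hF hd hV p hx hpZ, heightOneHullFinite_of_ucat
      (congrArg PrimeSpectrum.asIdeal (primeIdealOf_fromSpec hV p)) (hX V hV _ (fromSpec_mem hV p) hx)⟩
  haveI := isNoetherian_famSub_of_ass hZ' Γ(F, V) hass
  exact Module.Finite.of_injective ((affTheta hF.1 hV).codRestrict (famSub (affZ hV Z) Γ(F, V)) (affTheta_mem hF.1 hV))
    fun a b hab => affTheta_injective hZ hF.1 hV (congrArg Subtype.val hab)

end Groth.Agent.ZCl
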