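import Groth.Agent.ZCl.HullAlg
import Groth.Agent.ZCl.Closed
import Groth.Agent.QC.SpecFT
import Groth.Prelude.Def_EGA4c
/-!
Global sections of the Z-closure of a module on an affine scheme as compatible families of fractions.
-/
universe u
open AlgebraicGeometry CategoryTheory CategoryTheory.Limits TopologicalSpace Opposite ZClos
set_option backward.isDefEq.respectTransparency false
set_option backward.isDefEq.respectTransparency.types false
set_option linter.style.haveILetI false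
set_option linter.unusedSectionVars false
noncomputable section

namespace Groth.Agent.ZCl

theorem exists_sec_app {X : Scheme.{u}} {Z : Set X} {F : X.Modules} (T : Cl Z) (V : X.Opens) :
    ∃ φ : (resPush T.U).obj F ⟶ (H0 Z).obj F, ∀ s : Γ(F, T.U ⊓ V),
      sec T V s = φ.app V (rs F (le_image T.U V) s) :=
  ⟨colimit.ι ((diagram Z).obj F) T, fun _ => rfl⟩

variable {A : Type u} [CommRing A] {M : Type u} [AddCommGroup M] [Module A M]
  {Z : Set (PrimeSpectrum A)}

/-- the scheme -/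
abbrev SX (A : Type u) [CommRing A] : Scheme.{u} := Spec (CommRingCat.of A)

instance instModuleSpec {G : (SX A).Modules} {U : (SX A).Opens} : Module A Γ(G, U) :=
  inferInstanceAs (Module A (((modulesSpecToSheaf (R := CommRingCat.of A)).obj G).obj.obj (op U)))

/-- the open where sections live -/
abbrev offT (T : Cl (X := SX A) Z) : (SX A).Opens := T.U ⊓ ⊤

lemma mem_offT (T : Cl (X := SX A) Z) (y : {y : PrimeSpectrum A // y ∉ Z}) : (y.1 : SX A) ∈ offT T :=
  ⟨fun h => y.2 (T.2 h), trivial⟩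

/-- value of a section at a point -/
def val {U : (SX A).Opens} (s : Γ(EGA4.tildeOf A M, U)) (y : PrimeSpectrum A) (hy : (y : SX A) ∈ U) :
    LocalizedModule y.asIdeal.primeCompl M :=
  s.1 ⟨y, hy⟩

lemma val_smul {U : (SX A).Opens} (a : A) (s : Γ(EGA4.tildeOf A M, U)) (y : PrimeSpectrum A) (hy : (y : SX A) ∈ U) :
    val (a • s) y hy = a • val s y hy := by
  let e := ((tilde.modulesSpecToSheafIso (R := CommRingCat.of A) (ModuleCat.of (CommRingCat.of A) M)).app (op U)).hom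
  exact congrFun (congrArg Subtype.val (map_smul e.hom a s)) ⟨y, hy⟩

/-- the germs of a section off `T` -/
def lam (T : Cl (X := SX A) Z) : Γ(EGA4.tildeOf A M, offT T) →ₗ[A] Fam Z M where
  toFun s y := val s y.1 (mem_offT T y)
  map_add' _ _ := rfl
  map_smul' a s := funext fun y => val_smul a s y.1 (mem_offT T y)

lemma lam_rs {T T' : Cl (X := SX A) Z} (h : offT T' ≤ offT T) (s : Γ(EGA4.tildeOf A M, offT T)) :
    lam T' (rs (EGA4.tildeOf A M) h s) = lam T s := rfl

lemma exists_frac {U : (SX A).Opens} (s : Γ(EGA4.tildeOf A M, U)) (x : PrimeSpectrum A) (hx : (x : SX A) ∈ U) :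
    ∃ (m : M) (t : A), t ∉ x.asIdeal ∧ ∀ (y : PrimeSpectrum A), t ∉ y.asIdeal →
      ∃ hy : (y : SX A) ∈ U, t • val s y hy = LocalizedModule.mk m 1 := by
  obtain ⟨V, hxV, i, r, c, hc⟩ := s.2 ⟨x, hx⟩
  obtain ⟨_, ⟨_, ⟨g, rfl⟩, rfl⟩, hxg, hgV⟩ :=
    PrimeSpectrum.isBasis_basic_opens.exists_subset_of_mem_open hxV V.2
  refine ⟨g • r, g * c, x.asIdeal.primeCompl.mul_mem hxg (hc ⟨x, hxV⟩).1, fun y hy => ?_⟩
  have hgy : g ∉ y.asIdeal := fun h => hy (Ideal.mul_mem_right _ _ h)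
  have hyV : y ∈ V := hgV hgy
  refine ⟨i.le hyV, ?_⟩
  obtain ⟨hcy, he⟩ := hc ⟨y, hyV⟩
  change (g * c) • s.1 (i ⟨y, hyV⟩) = _
  refine (congrArg ((g * c) • ·) he).trans ?_
  rw [mul_smul, LocalizedModule.smul'_mk, show LocalizedModule.mk (c • r) (⟨c, hcy⟩ : y.asIdeal.primeCompl) =
    LocalizedModule.mk r 1 from LocalizedModule.mk_cancel (⟨c, hcy⟩ : y.asIdeal.primeCompl) r, LocalizedModule.smul'_mk]

lemma lam_mem (T : Cl (X := SX A) Z) (s : Γ(EGA4.tildeOf A M, offT T)) : lam T s ∈ famSub Z M := by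
  intro x
  obtain ⟨m, t, ht, hm⟩ := exists_frac s x.1 (mem_offT T x)
  exact ⟨m, t, ht, fun y hy => (hm y.1 hy).2⟩

lemma lam_eq_zero_of_sec {T : Cl (X := SX A) Z} [IsNoetherianRing A] (s : Γ(EGA4.tildeOf A M, offT T))
    (h : sec T ⊤ s = 0) : lam T s = 0 := by
  obtain ⟨T', hT, hz⟩ := exists_eq_zero_of_sec (isCompact_univ (X := SX A)) s h
  rw [← lam_rs (T' := T') (inf_le_inf_right ⊤ (Cl.U_anti hT)) s, hz, map_zero]

lemma sec_eq_zero_of_lam [IsNoetherianRing A] (hZ : StableUnderSpecialization Z) {T : Cl (X := SX A) Z}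
    (s : Γ(EGA4.tildeOf A M, offT T)) (h : lam T s = 0) : sec T ⊤ s = 0 := by
  haveI : IsNoetherianRing (CommRingCat.of A) := inferInstanceAs (IsNoetherianRing A)
  obtain ⟨T', hT'⟩ := exists_eq_zero_of_germ (X := SX A) (F := EGA4.tildeOf A M) hZ s fun x hx hxZ => by
    obtain ⟨m, t, ht, hm⟩ := exists_frac s x hx
    obtain ⟨hy, hmx⟩ := hm x ht
    have h0 : (LocalizedModule.mk m 1 : LocalizedModule x.asIdeal.primeCompl M) = 0 := by
      rw [← hmx, show val s x hy = 0 from congrFun h ⟨x, hxZ⟩, smul_zero]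
    obtain ⟨u, hu, hum⟩ := (mk_one_eq_zero_iff x m).1 h0
    let W : (SX A).Opens := PrimeSpectrum.basicOpen (u * t)
    have hW : W ≤ offT T := fun y hy => (hm y fun h' => hy (Ideal.mul_mem_left _ _ h')).1
    have hxW : x ∈ W := x.asIdeal.primeCompl.mul_mem hu ht
    have hz : rs (EGA4.tildeOf A M) hW s = 0 := Subtype.ext (funext fun y => by
      have hyt : t ∉ y.1.asIdeal := fun h' => y.2 (Ideal.mul_mem_left _ _ h')
      have hyu : u ∉ y.1.asIdeal := fun h' => y.2 (Ideal.mul_mem_right _ _ h')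
      exact smul_eq_zero_cancel hyt ((hm y.1 hyt).2.trans ((mk_one_eq_zero_iff y.1 m).2 ⟨u, hyu, hum⟩)))
    rw [← germ_rs (EGA4.tildeOf A M) hW x hxW, hz, map_zero]
  rw [← sec_mono (le_sup_left : T ≤ T ⊔ T') ⊤ s]
  have hle : (T ⊔ T').U ⊓ ⊤ ≤ T'.U ⊓ offT T :=
    le_inf (inf_le_left.trans (Cl.U_anti le_sup_right)) (inf_le_inf_right ⊤ (Cl.U_anti le_sup_left))
  have h1 := congrArg (rs (EGA4.tildeOf A M) hle) hT'
  rw [rs_rs, map_zero] at h1
  rw [h1, sec_zero]

lemma app_smul_Spec {G G' : (SX A).Modules} (φ : G ⟶ G') (U : (SX A).Opens) (a : A) (s : Γ(G, U)) :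
    φ.app U (a • s) = a • φ.app U s :=
  ((modulesSpecToSheaf (R := CommRingCat.of A)).map φ).hom.app (op U) |>.hom.map_smul a s

lemma rs_smul {G : (SX A).Modules} {U V : (SX A).Opens} (h : V ≤ U) (a : A) (s : Γ(G, U)) :
    rs G h (a • s) = a • rs G h s :=
  (((modulesSpecToSheaf (R := CommRingCat.of A)).obj G).obj.map (homOfLE h).op).hom.map_smul a s

lemma sec_eq_app (T : Cl (X := SX A) Z) (F : (SX A).Modules) (s : Γ(F, offT T)) :
    sec T ⊤ s = (colimit.ι ((diagram Z).obj F) T).app ⊤ (rs F (le_image T.U ⊤) s) := rfl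

lemma resPush_rs (U : (SX A).Opens) (F : (SX A).Modules) {W V : (SX A).Opens} (h : W ≤ V)
    (a : Γ(F, U.ι ''ᵁ U.ι ⁻¹ᵁ V)) :
    rs ((resPush U).obj F) h a =
      rs F ((le_image U W).trans ((inf_le_inf_left U h).trans (image_le U V))) a := rfl

/-- sections off `T` as sections of the direct image -/
def toPush (U : (SX A).Opens) (F : (SX A).Modules) : Γ(F, U ⊓ ⊤) →+ Γ((resPush U).obj F, ⊤) :=
  rs F (le_image U ⊤)

lemma toPush_smul (U : (SX A).Opens) (F : (SX A).Modules) (a : A) (s : Γ(F, U ⊓ ⊤)) :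
    toPush U F (a • s) = a • toPush U F s := by
  have hinj : Function.Injective (rs ((resPush U).obj F) (le_top : U ⊓ ⊤ ≤ ⊤)) := fun x y hxy => by
    rw [resPush_rs, resPush_rs] at hxy
    refine (rs_bijective F _ ?_).1 hxy
    exact (le_image U ⊤).trans ((le_inf inf_le_left le_rfl).trans (image_le U (U ⊓ ⊤)))
  refine hinj ?_
  rw [rs_smul]
  have hη : ∀ r : Γ(F, U ⊓ ⊤), rs ((resPush U).obj F) (le_top : U ⊓ ⊤ ≤ ⊤) (toPush U F r) =
      ((resPushUnit U).app F).app (U ⊓ ⊤) r := fun r => by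
    rw [resPush_rs]
    exact (rs_rs F _ _ _).trans rfl
  rw [hη, hη]
  exact app_smul_Spec ((resPushUnit U).app F) _ a s

lemma app_resPush_smul (U : (SX A).Opens) (F G' : (SX A).Modules) (φ : (resPush U).obj F ⟶ G') (a : A)
    (s : Γ(F, U ⊓ ⊤)) :
    φ.app ⊤ (toPush U F (a • s)) = a • φ.app ⊤ (toPush U F s) := by
  rw [toPush_smul]
  exact app_smul_Spec φ ⊤ a _

lemma sec_smul' (T : Cl (X := SX A) Z) (F : (SX A).Modules) (a : A) (s : Γ(F, T.U ⊓ ⊤)) :
    sec T ⊤ (a • s) = a • sec T ⊤ s := by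
  obtain ⟨φ, hφ⟩ := exists_sec_app (F := F) T ⊤
  rw [hφ, hφ]
  exact app_resPush_smul T.U F _ φ a s

lemma sec_smul (T : Cl (X := SX A) Z) (a : A) (s : Γ(EGA4.tildeOf A M, offT T)) :
    sec T ⊤ (a • s) = a • sec T ⊤ s :=
  sec_smul' T _ a s

lemma sec_add (T : Cl (X := SX A) Z) (s t : Γ(EGA4.tildeOf A M, offT T)) :
    sec T ⊤ (s + t) = sec T ⊤ s + sec T ⊤ t := by
  have h := sec_sub T ⊤ (s + t) t
  rw [add_sub_cancel_right] at h
  rw [h, sub_add_cancel]

variable [IsNoetherianRing A]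

lemma lam_eq_of_sec_eq {T T' : Cl (X := SX A) Z} (s : Γ(EGA4.tildeOf A M, offT T))
    (s' : Γ(EGA4.tildeOf A M, offT T')) (h : sec T ⊤ s = sec T' ⊤ s') : lam T s = lam T' s' := by
  have h1 : sec (T ⊔ T') ⊤ (rs (EGA4.tildeOf A M) (inf_le_inf_right ⊤ (Cl.U_anti (le_sup_left : T ≤ T ⊔ T'))) s -
      rs (EGA4.tildeOf A M) (inf_le_inf_right ⊤ (Cl.U_anti (le_sup_right : T' ≤ T ⊔ T'))) s') = 0 := by
    rw [sec_sub, sec_mono le_sup_left, sec_mono le_sup_right, h, sub_self]
  have h2 := lam_eq_zero_of_sec _ h1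
  rw [map_sub, lam_rs, lam_rs, sub_eq_zero] at h2
  exact h2

lemma exists_sec_top (σ : Γ((H0 (X := SX A) Z).obj (EGA4.tildeOf A M), ⊤)) :
    ∃ (T : Cl (X := SX A) Z) (s : Γ(EGA4.tildeOf A M, offT T)), sec T ⊤ s = σ := by
  haveI : IsNoetherianRing (CommRingCat.of A) := inferInstanceAs (IsNoetherianRing A)
  exact exists_sec (isAffineOpen_top (SX A)) le_rfl σ

/-- global sections of the closure as families of germs off `Z` -/
def theta : Γ((H0 (X := SX A) Z).obj (EGA4.tildeOf A M), ⊤) →ₗ[A] Fam Z M where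
  toFun σ := lam (exists_sec_top σ).choose (exists_sec_top σ).choose_spec.choose
  map_add' σ τ := by
    set T := (exists_sec_top σ).choose
    set T' := (exists_sec_top τ).choose
    set s := (exists_sec_top σ).choose_spec.choose
    set t := (exists_sec_top τ).choose_spec.choose
    have hs : sec T ⊤ s = σ := (exists_sec_top σ).choose_spec.choose_spec
    have ht : sec T' ⊤ t = τ := (exists_sec_top τ).choose_spec.choose_spec
    refine (lam_eq_of_sec_eq (T' := T ⊔ T') _
      (rs (EGA4.tildeOf A M) (inf_le_inf_right ⊤ (Cl.U_anti (le_sup_left : T ≤ T ⊔ T'))) s +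
        rs (EGA4.tildeOf A M) (inf_le_inf_right ⊤ (Cl.U_anti (le_sup_right : T' ≤ T ⊔ T'))) t) ?_).trans ?_
    · rw [(exists_sec_top (σ + τ)).choose_spec.choose_spec, sec_add, sec_mono le_sup_left, sec_mono le_sup_right, hs, ht]
    · rw [map_add, lam_rs, lam_rs]
  map_smul' a σ := by
    refine (lam_eq_of_sec_eq _ (a • (exists_sec_top σ).choose_spec.choose) ?_).trans (map_smul _ _ _)
    rw [(exists_sec_top (a • σ)).choose_spec.choose_spec, sec_smul, (exists_sec_top σ).choose_spec.choose_spec]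

lemma theta_sec (T : Cl (X := SX A) Z) (s : Γ(EGA4.tildeOf A M, offT T)) : theta (sec T ⊤ s) = lam T s :=
  lam_eq_of_sec_eq _ _ (exists_sec_top (sec T ⊤ s)).choose_spec.choose_spec

lemma theta_mem (σ : Γ((H0 (X := SX A) Z).obj (EGA4.tildeOf A M), ⊤)) : theta σ ∈ famSub Z M := lam_mem _ _

lemma theta_injective (hZ : StableUnderSpecialization Z) :
    Function.Injective (theta (A := A) (M := M) (Z := Z)) := by
  refine (injective_iff_map_eq_zero _).2 fun σ h => ?_
  obtain ⟨T, s, rfl⟩ := exists_sec_top σ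
  rw [theta_sec] at h
  exact sec_eq_zero_of_lam hZ s h

/-- coherence of the closure from finiteness of compatible families -/
theorem isCoh_H0_tilde (hZ : StableUnderSpecialization Z) [IsNoetherian A (famSub Z M)] :
    Coh.IsCoh ((H0 (X := SX A) Z).obj (EGA4.tildeOf A M)) := by
  haveI : IsNoetherianRing (CommRingCat.of A) := inferInstanceAs (IsNoetherianRing A)
  have hq : Coh.IsQCoh ((H0 (X := SX A) Z).obj (EGA4.tildeOf A M)) := isQCoh_H0 (QC.isQCoh_tilde _)
  haveI : Module.Finite A Γ((H0 (X := SX A) Z).obj (EGA4.tildeOf A M), ⊤) :=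
    Module.Finite.of_injective ((theta (A := A) (M := M) (Z := Z)).codRestrict (famSub Z M) theta_mem)
      fun a b hab => theta_injective hZ (congrArg Subtype.val hab)
  haveI : ((H0 (X := SX A) Z).obj (EGA4.tildeOf A M)).IsQuasicoherent := hq
  refine ⟨hq, QC.isFT_of_epi (QC.isoTildeΓ ((H0 (X := SX A) Z).obj (EGA4.tildeOf A M))).hom ?_⟩
  haveI : Module.Finite (CommRingCat.of A) ((modulesSpecToSheaf.obj
      ((H0 (X := SX A) Z).obj (EGA4.tildeOf A M))).presheaf.obj (op ⊤)) :=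
    inferInstanceAs (Module.Finite A Γ((H0 (X := SX A) Z).obj (EGA4.tildeOf A M), ⊤))
  exact QC.isFT_tilde _

/-- finiteness of the image of the global sections of a coherent closure -/
theorem fg_range_theta (h : Coh.IsCoh ((H0 (X := SX A) Z).obj (EGA4.tildeOf A M))) :
    (LinearMap.range (theta (A := A) (M := M) (Z := Z))).FG := by
  haveI : IsNoetherianRing (CommRingCat.of A) := inferInstanceAs (IsNoetherianRing A)
  haveI : Module.Finite Γ(SX A, ⊤) Γ((H0 (X := SX A) Z).obj (EGA4.tildeOf A M), ⊤) :=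
    (QC.isCoh_iff_finite_sections.mp h).2 ⟨⊤, isAffineOpen_top (SX A)⟩
  haveI : Module.Finite A Γ((H0 (X := SX A) Z).obj (EGA4.tildeOf A M), ⊤) :=
    QC.finite_top_of_finite_sections (R := CommRingCat.of A) _
  exact Module.Finite.iff_fg.1 inferInstance

section Hull

variable (q : Ideal A) [q.IsPrime]

/-- primes of height at least two over `q` -/
def twoAbove : Set (PrimeSpectrum A) :=
  {y | q ≤ y.asIdeal ∧ (2 : ℕ∞) ≤ (y.asIdeal.map (Ideal.Quotient.mk q)).height}

lemma stable_twoAbove : StableUnderSpecialization (twoAbove q) := by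
  intro y y' h hy
  rw [← PrimeSpectrum.le_iff_specializes] at h
  exact ⟨hy.1.trans h, hy.2.trans (Ideal.height_mono (Ideal.map_mono h))⟩

lemma gen_not_mem_twoAbove : (⟨q, ‹_›⟩ : PrimeSpectrum A) ∉ twoAbove q := fun h => by
  have h2 := h.2
  rw [Ideal.map_quotient_self] at h2
  have : (⊥ : Ideal (A ⧸ q)).height = 0 := Ideal.height_eq_zero_iff.2 (by
    rw [IsDomain.minimalPrimes_eq_singleton_bot]; rfl)
  rw [this] at h2
  exact absurd h2 (by norm_num)

theorem mem_range_evalGen_theta {x : FractionRing (A ⧸ q)} (hx : x ∈ EGA4.heightOneHull (A ⧸ q)) :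
    x ∈ LinearMap.range ((evalGen (twoAbove q) q (gen_not_mem_twoAbove q)).comp
      (theta (A := A) (M := A ⧸ q) (Z := twoAbove q))) := by
  let B := A ⧸ q
  let den : Set A := {a | ∃ b : B, algebraMap B (FractionRing B) (Ideal.Quotient.mk q a) * x = algebraMap B _ b}
  have hqden : (q : Set A) ⊆ den := fun a ha => ⟨0, by rw [Ideal.Quotient.eq_zero_iff_mem.2 ha, map_zero, zero_mul]⟩
  have hC : PrimeSpectrum.zeroLocus den ⊆ twoAbove q := by
    intro y hy
    have hqy : q ≤ y.asIdeal := fun a ha => hy (hqden ha)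
    refine ⟨hqy, ?_⟩
    let p := y.asIdeal.map (Ideal.Quotient.mk q)
    have hker : RingHom.ker (Ideal.Quotient.mk q) ≤ y.asIdeal := by rwa [Ideal.mk_ker]
    haveI : p.IsPrime := Ideal.map_isPrime_of_surjective Ideal.Quotient.mk_surjective hker
    have hcomap : p.comap (Ideal.Quotient.mk q) = y.asIdeal := by
      rw [Ideal.comap_map_of_surjective _ Ideal.Quotient.mk_surjective, ← RingHom.ker_eq_comap_bot, Ideal.mk_ker,
        sup_eq_left.2 hqy]
    by_contra hlt
    rw [not_le] at hlt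
    have hsd : ∀ (s : B), s ∉ p → (∃ b : B, algebraMap B (FractionRing B) b = algebraMap B _ s * x) → False := by
      rintro s hs ⟨b, hb⟩
      obtain ⟨a, rfl⟩ := Ideal.Quotient.mk_surjective s
      exact hs (Ideal.mem_map_of_mem _ (hy ⟨b, hb.symm⟩))
    have h01 : p.height = 0 ∨ p.height = 1 := by
      rcases eq_or_ne p.height 0 with h0 | h0
      · exact Or.inl h0
      · exact Or.inr (le_antisymm ((ENat.lt_add_one_iff (by norm_num)).1 (by rw [one_add_one_eq_two]; exact hlt))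
          (Order.one_le_iff_ne_zero.2 h0))
    rcases h01 with h0 | h1
    · have hp0 : p = ⊥ := by
        have := Ideal.height_eq_zero_iff.1 h0
        rwa [IsDomain.minimalPrimes_eq_singleton_bot] at this
      obtain ⟨b, s, hs, rfl⟩ := IsFractionRing.div_surjective B x
      refine hsd s (fun h => nonZeroDivisors.ne_zero hs (by rwa [hp0, Ideal.mem_bot] at h)) ⟨b, ?_⟩
      rw [mul_div_cancel₀]
      exact IsFractionRing.to_map_ne_zero_of_mem_nonZeroDivisors hs
    · obtain ⟨s, hs, b, hb⟩ := hx p h1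
      exact hsd s hs ⟨b, hb⟩
  let T : Cl (X := SX A) (twoAbove q) :=
    ⟨⟨PrimeSpectrum.zeroLocus den, PrimeSpectrum.isClosed_zeroLocus den⟩, hC⟩
  have hcho : ∀ y : offT T, ∃ (a : A) (b : B), a ∉ y.1.asIdeal ∧
      algebraMap B (FractionRing B) (Ideal.Quotient.mk q a) * x = algebraMap B _ b := fun y => by
    obtain ⟨a, ⟨b, hb⟩, hay⟩ := Set.not_subset.1 (show ¬ den ⊆ (y.1.asIdeal : Set A) from y.2.1)
    exact ⟨a, b, hay, hb⟩
  choose a b ha hb using hcho
  have hcross : ∀ (a₁ a₂ : A) (b₁ b₂ : B),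
      algebraMap B (FractionRing B) (Ideal.Quotient.mk q a₁) * x = algebraMap B _ b₁ →
      algebraMap B (FractionRing B) (Ideal.Quotient.mk q a₂) * x = algebraMap B _ b₂ → a₁ • b₂ = a₂ • b₁ := by
    intro a₁ a₂ b₁ b₂ h₁ h₂
    apply IsFractionRing.injective B (FractionRing B)
    rw [show a₁ • b₂ = Ideal.Quotient.mk q a₁ * b₂ from rfl, show a₂ • b₁ = Ideal.Quotient.mk q a₂ * b₁ from rfl,
      map_mul, map_mul, ← h₁, ← h₂]
    ring
  let s : Γ(EGA4.tildeOf A B, offT T) :=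
    ⟨fun y => LocalizedModule.mk (b y) ⟨a y, ha y⟩, fun y => by
      refine ⟨offT T ⊓ PrimeSpectrum.basicOpen (a y), ⟨y.2, ha y⟩, homOfLE inf_le_left, b y, a y,
        fun z => ⟨z.2.2, ?_⟩⟩
      refine LocalizedModule.mk_eq.2 ⟨1, ?_⟩
      simp only [one_smul, Submonoid.smul_def]
      exact hcross _ _ _ _ (hb y) (hb _)⟩
  refine ⟨sec T ⊤ s, ?_⟩
  rw [LinearMap.comp_apply, theta_sec]
  let g : {y : PrimeSpectrum A // y ∉ twoAbove q} := ⟨⟨q, ‹_›⟩, gen_not_mem_twoAbove q⟩
  let y₀ : offT T := ⟨g.1, mem_offT T g⟩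
  have hm : a y₀ • lam T s g = LocalizedModule.mk (b y₀) 1 := by
    change a y₀ • LocalizedModule.mk (b y₀) (⟨a y₀, ha y₀⟩ : g.1.asIdeal.primeCompl) = _
    rw [LocalizedModule.smul'_mk]
    exact LocalizedModule.mk_cancel (⟨a y₀, ha y₀⟩ : g.1.asIdeal.primeCompl) (b y₀)
  have h1 := toFrac_spec q hm
  refine mul_left_cancel₀ ?_ (h1.trans (hb y₀).symm)
  exact fun h => ha y₀ (Ideal.Quotient.eq_zero_iff_mem.1
    (IsFractionRing.injective B (FractionRing B) (h.trans (map_zero _).symm)))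

lemma hull_subalgebra : ∃ B : Subalgebra (A ⧸ q) (FractionRing (A ⧸ q)),
    (B : Set (FractionRing (A ⧸ q))) = EGA4.heightOneHull (A ⧸ q) :=
  ⟨{ carrier := EGA4.heightOneHull (A ⧸ q)
     mul_mem' := fun {x y} hx hy p _ hp => by
       obtain ⟨s, hs, b, hb⟩ := hx p hp
       obtain ⟨t, ht, c, hc⟩ := hy p hp
       refine ⟨s * t, p.primeCompl.mul_mem hs ht, b * c, ?_⟩
       rw [map_mul, map_mul, hb, hc]; ring
     add_mem' := fun {x y} hx hy p _ hp => by
       obtain ⟨s, hs, b, hb⟩ := hx p hp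
       obtain ⟨t, ht, c, hc⟩ := hy p hp
       refine ⟨s * t, p.primeCompl.mul_mem hs ht, t * b + s * c, ?_⟩
       simp only [map_add, map_mul, hb, hc]; ring
     algebraMap_mem' := fun r p _ _ => ⟨1, p.primeCompl.one_mem, r, by simp⟩ }, rfl⟩

theorem heightOneHullFinite_of_isCoh
    (h : Coh.IsCoh ((H0 (X := SX A) (twoAbove q)).obj (EGA4.tildeOf A (A ⧸ q)))) :
    EGA4.HeightOneHullFinite (A ⧸ q) := by
  obtain ⟨B, hB⟩ := hull_subalgebra q
  let R := LinearMap.range ((evalGen (twoAbove q) q (gen_not_mem_twoAbove q)).comp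
      (theta (A := A) (M := A ⧸ q) (Z := twoAbove q)))
  haveI : IsNoetherian A R := isNoetherian_of_fg_of_noetherian _ (by
    change (LinearMap.range (LinearMap.comp _ _)).FG
    rw [LinearMap.range_comp]
    exact (fg_range_theta h).map _)
  let i : B →ₗ[A] R :=
    { toFun := fun x => ⟨x.1, mem_range_evalGen_theta q (hB ▸ x.2)⟩
      map_add' := fun _ _ => rfl
      map_smul' := fun _ _ => rfl }
  haveI : Module.Finite A B := Module.Finite.of_injective i fun x y hxy => Subtype.ext (congrArg Subtype.val hxy :)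
  exact ⟨B, hB, Module.Finite.of_restrictScalars_finite A _ _⟩

end Hull

end Groth.Agent.ZCl
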