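import Groth.Agent.SymAlg.PullBC
import Groth.Agent.ZCl.Basic

/-!
Flat base change of the sections of a quasi-coherent module over a union of finitely many basic opens.
-/

set_option autoImplicit false
set_option backward.isDefEq.respectTransparency false
set_option linter.style.haveILetI false
set_option maxHeartbeats 1000000

universe u

open CategoryTheory CategoryTheory.Limits AlgebraicGeometry TopologicalSpace Opposite
open Groth.Agent.QC (res resO resO_self resO_resO res_res res_self res_smul app_res)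
open scoped TensorProduct

noncomputable section

namespace Groth.Agent.ZCl

variable {A : Type u} [CommRing A] {X : Scheme.{u}} {V : X.Opens}

/-- Sections over `V ⊓ W`, with scalars through `φ`. -/
def Sec (_φ : A →+* Γ(X, V)) (G : X.Modules) (W : X.Opens) : Type u := Γ(G, V ⊓ W)

variable (φ : A →+* Γ(X, V)) (G : X.Modules)

instance (W : X.Opens) : AddCommGroup (Sec φ G W) := inferInstanceAs (AddCommGroup Γ(G, V ⊓ W))

instance secModuleΓ (W : X.Opens) : Module Γ(X, V) (Sec φ G W) :=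
  Module.compHom Γ(G, V ⊓ W) (resO X (inf_le_left : V ⊓ W ≤ V))

instance secModule (W : X.Opens) : Module A (Sec φ G W) :=
  Module.compHom (Sec φ G W) φ

theorem sec_smul_def {W : X.Opens} (a : A) (s : Sec φ G W) :
    a • s = (resO X (inf_le_left : V ⊓ W ≤ V) (φ a)) • (show Γ(G, V ⊓ W) from s) := rfl

/-- Restriction. -/
def secRho {W W' : X.Opens} (h : W' ≤ W) : Sec φ G W →ₗ[A] Sec φ G W' where
  toFun s := res G (inf_le_inf_left V h) s
  map_add' a b := map_add (res G (inf_le_inf_left V h)) a b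
  map_smul' a s := by
    refine (res_smul G _ _ _).trans ?_
    exact congrArg (· • res G (inf_le_inf_left V h) (show Γ(G, V ⊓ W) from s)) (resO_resO _ _ (φ a))

theorem secRho_apply {W W' : X.Opens} (h : W' ≤ W) (s : Γ(G, V ⊓ W)) :
    secRho φ G h s = res G (inf_le_inf_left V h) s := rfl

theorem secRho_comp {W W' W'' : X.Opens} (h : W' ≤ W) (h' : W'' ≤ W') (s : Sec φ G W) :
    secRho φ G h' (secRho φ G h s) = secRho φ G (h'.trans h) s := res_res G _ _ _

variable {ι : Type u} [Finite ι] (W : ι → X.Opens)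

/-- Restrictions to the members of a family. -/
def uMap : Sec φ G ⊤ →ₗ[A] ∀ i, Sec φ G (W i) := LinearMap.pi fun i => secRho φ G (le_top)

/-- Differences on the overlaps. -/
def vMap : (∀ i, Sec φ G (W i)) →ₗ[A] ∀ p : ι × ι, Sec φ G (W p.1 ⊓ W p.2) :=
  LinearMap.pi fun p => secRho φ G inf_le_left ∘ₗ LinearMap.proj p.1 - secRho φ G inf_le_right ∘ₗ LinearMap.proj p.2

omit [Finite ι] in
theorem vMap_eq_zero_iff (t : ∀ i, Sec φ G (W i)) :
    vMap φ G W t = 0 ↔ ∀ i j, secRho φ G (inf_le_left : W i ⊓ W j ≤ W i) (t i) = secRho φ G inf_le_right (t j) := by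
  constructor
  · intro h i j
    exact sub_eq_zero.1 (congrFun h (i, j))
  · intro h
    funext p
    exact sub_eq_zero.2 (h p.1 p.2)

omit [Finite ι] in
/-- Bijectivity of the restriction to a union, as exactness. -/
theorem bijective_rho_iff {O : X.Opens} (hO : O = ⨆ i, W i) :
    Function.Bijective (secRho φ G (le_top : O ≤ ⊤)) ↔
      Function.Injective (uMap φ G W) ∧ Function.Exact (uMap φ G W) (vMap φ G W) := by
  have hle : ∀ i, W i ≤ O := fun i => hO ▸ le_iSup W i
  have hcov : ∀ x ∈ V ⊓ O, ∃ i, x ∈ V ⊓ W i := fun x hx => by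
    have h : x ∈ ⨆ i, W i := hO ▸ hx.2
    obtain ⟨i, hi⟩ := Opens.mem_iSup.1 h
    exact ⟨i, hx.1, hi⟩
  have hext : ∀ s t : Sec φ G O, (∀ i, secRho φ G (hle i) s = secRho φ G (hle i) t) → s = t :=
    fun s t h => ext_cover G (fun i => V ⊓ W i) (fun i => inf_le_inf_left V (hle i)) hcov s t fun i => h i
  have hu : ∀ s i, uMap φ G W s i = secRho φ G (hle i) (secRho φ G (le_top : O ≤ ⊤) s) := fun s i =>
    (secRho_comp φ G _ _ s).symm
  constructor
  · intro hb
    refine ⟨fun s t h => hb.1 (hext _ _ fun i => by rw [← hu, ← hu, h]), fun t => ?_⟩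
    constructor
    · intro ht
      obtain ⟨σ, hσ⟩ := glue G (fun i => V ⊓ W i) (fun i => inf_le_inf_left V (hle i)) hcov t fun i j => by
        have h := congrArg (res G (show (V ⊓ W i) ⊓ (V ⊓ W j) ≤ V ⊓ (W i ⊓ W j) from
          le_inf (inf_le_left.trans inf_le_left) (inf_le_inf inf_le_right inf_le_right)))
          ((vMap_eq_zero_iff φ G W t).1 ht i j)
        exact (res_res G _ _ _).symm.trans (h.trans (res_res G _ _ _))
      obtain ⟨s, hs⟩ := hb.2 σ
      refine ⟨s, funext fun i => ?_⟩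
      rw [hu, hs]
      exact hσ i
    · rintro ⟨s, rfl⟩
      refine (vMap_eq_zero_iff φ G W _).2 fun i j => ?_
      exact (secRho_comp φ G (le_top : W i ≤ ⊤) _ s).trans (secRho_comp φ G (le_top : W j ≤ ⊤) _ s).symm
  · rintro ⟨hi, hex⟩
    refine ⟨fun s t h => hi (funext fun i => by rw [hu, hu, h]), fun σ => ?_⟩
    obtain ⟨s, hs⟩ := (hex fun i => secRho φ G (hle i) σ).1 ((vMap_eq_zero_iff φ G W _).2 fun i j =>
      (secRho_comp φ G _ _ σ).trans (secRho_comp φ G _ _ σ).symm)
    exact ⟨s, hext _ _ fun i => (hu s i).symm.trans (congrFun hs i)⟩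

/-- Sections over a basic open are a localisation. -/
theorem isLocalizedModule_secRho [hG : G.IsQuasicoherent] (hV : IsAffineOpen V) (a : A) {W : X.Opens}
    (hW : V ⊓ W = X.basicOpen (φ a)) :
    IsLocalizedModule (Submonoid.powers a) (secRho φ G (le_top : W ≤ ⊤)) := by
  have hloc := Groth.Agent.QC.isLoc_of_isQCoh hV (M := G)
  have hle : X.basicOpen (φ a) ≤ V ⊓ W := hW.ge
  have hle' : V ⊓ W ≤ X.basicOpen (φ a) := hW.le
  refine IsLocalizedModule.Away.mk_of_addCommGroup ?_ ?_ ?_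
  · have hu : IsUnit (resO X (inf_le_left : V ⊓ W ≤ V) (φ a)) := by
      have h := (X.toRingedSpace.isUnit_res_basicOpen (φ a)).map (resO X hle')
      change IsUnit (resO X hle' (resO X (X.basicOpen_le (φ a)) (φ a))) at h
      rwa [resO_resO] at h
    rw [Module.End.isUnit_iff]
    exact @IsUnit.smul_bijective _ Γ(G, V ⊓ W) _ _ _ hu
  · intro x
    obtain ⟨n, s, hs⟩ := hloc.exists_extend (φ a) (res G hle (show Γ(G, V ⊓ W) from x))
    refine ⟨n, res G (inf_le_left : V ⊓ ⊤ ≤ V) s, ?_⟩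
    have h2 := congrArg (res G hle') hs
    rw [res_res, res_smul, res_res, res_self, map_pow, resO_resO] at h2
    rw [sec_smul_def, map_pow, map_pow, ← h2]
    exact (res_res G (inf_le_inf_left V (le_top : W ≤ ⊤)) inf_le_left s).symm
  · intro x hx
    have hx' : res G (inf_le_inf_left V (le_top : W ≤ ⊤)) (show Γ(G, V ⊓ ⊤) from x) = 0 := hx
    obtain ⟨n, hn⟩ := hloc.exists_pow_smul_eq_zero (φ a) (res G (le_inf le_rfl le_top) (show Γ(G, V ⊓ ⊤) from x))
      (by rw [res_res, ← res_res G hle (inf_le_inf_left V (le_top : W ≤ ⊤)), hx', map_zero])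
    refine ⟨n, ?_⟩
    have h2 := congrArg (res G (inf_le_left : V ⊓ ⊤ ≤ V)) hn
    rw [res_smul, res_res, res_self, map_zero] at h2
    rw [sec_smul_def, map_pow]
    exact h2

section BC

variable {X' : Scheme.{u}} (f : X' ⟶ X) {V' : X'.Opens} (e : V' ≤ f ⁻¹ᵁ V)


variable (V) in
theorem inf_preimage_le (W : X.Opens) : V' ⊓ f ⁻¹ᵁ W ≤ f ⁻¹ᵁ (V ⊓ W) ↔ V' ⊓ f ⁻¹ᵁ W ≤ f ⁻¹ᵁ V :=
  ⟨fun h => h.trans (f.preimage_mono inf_le_left), fun h x hx => ⟨h hx, hx.2⟩⟩

include e in
theorem inf_le_preimage (W : X.Opens) : V' ⊓ f ⁻¹ᵁ W ≤ f ⁻¹ᵁ (V ⊓ W) :=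
  (inf_preimage_le V f W).2 (inf_le_left.trans e)

abbrev idA (V : X.Opens) : Γ(X, V) →+* Γ(X, V) := RingHom.id _

abbrev ψ : Γ(X, V) →+* Γ(X', V') := (f.appLE V V' e).hom

/-- The base change map on sections, `Γ(X, V)`-linear. -/
def secU (W : X.Opens) : Sec (idA V) G W →ₗ[Γ(X, V)] Sec (ψ f e) ((Scheme.Modules.pullback f).obj G) (f ⁻¹ᵁ W) where
  toFun s := RelTilde.resθ f ((Scheme.Modules.pullbackPushforwardAdjunction f).unit.app G)
    (inf_le_preimage f e W) s
  map_add' a b := map_add _ a b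
  map_smul' r s := by
    refine (LinearMap.map_smulₛₗ (RelTilde.resθ f ((Scheme.Modules.pullbackPushforwardAdjunction f).unit.app G)
      (inf_le_preimage f e W)) (resO X (inf_le_left : V ⊓ W ≤ V) r) (show Γ(G, V ⊓ W) from s)).trans ?_
    refine congrArg (· • RelTilde.resθ f ((Scheme.Modules.pullbackPushforwardAdjunction f).unit.app G)
      (inf_le_preimage f e W) (show Γ(G, V ⊓ W) from s)) ?_
    show (f.appLE (V ⊓ W) (V' ⊓ f ⁻¹ᵁ W) _).hom ((X.presheaf.map (homOfLE inf_le_left).op).hom r) =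
      ((X'.presheaf.map (homOfLE inf_le_left).op).hom ((f.appLE V V' e).hom r))
    rw [← CommRingCat.comp_apply, ← CommRingCat.comp_apply, Scheme.Hom.map_appLE, Scheme.Hom.appLE_map]

theorem secU_res {W W' : X.Opens} (h : W' ≤ W) (s : Sec (idA V) G W) :
    secRho (ψ f e) ((Scheme.Modules.pullback f).obj G) (f.preimage_mono h) (secU G f e W s) = secU G f e W' (secRho (idA V) G h s) := by
  let η := (Scheme.Modules.pullbackPushforwardAdjunction f).unit.app G
  have h1 := app_res η (inf_le_inf_left V h) (show Γ(G, V ⊓ W) from s)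
  refine (res_res ((Scheme.Modules.pullback f).obj G) _ (inf_le_preimage f e W) (η.app (V ⊓ W) (show Γ(G, V ⊓ W) from s))).trans ?_
  exact ((res_res ((Scheme.Modules.pullback f).obj G) (inf_le_preimage f e W')
    (f.preimage_mono (inf_le_inf_left V h)) _).symm.trans
      (congrArg (res ((Scheme.Modules.pullback f).obj G) (inf_le_preimage f e W')) h1))

/-- The comparison `Γ(X', V') ⊗ Γ(G, V ⊓ W) → Γ(((Scheme.Modules.pullback f).obj G), V' ⊓ f⁻¹ W)`. -/
def secTheta (W : X.Opens) :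
    letI := (ψ f e).toAlgebra
    Γ(X', V') ⊗[Γ(X, V)] Sec (idA V) G W →ₗ[Γ(X, V)] Sec (ψ f e) ((Scheme.Modules.pullback f).obj G) (f ⁻¹ᵁ W) :=
  letI := (ψ f e).toAlgebra
  haveI : IsScalarTower Γ(X, V) Γ(X', V') (Sec (ψ f e) ((Scheme.Modules.pullback f).obj G) (f ⁻¹ᵁ W)) :=
    IsScalarTower.of_algebraMap_smul fun _ _ => rfl
  ((secU G f e W).liftBaseChange Γ(X', V')).restrictScalars Γ(X, V)

theorem secTheta_res {W W' : X.Opens} (h : W' ≤ W) :
    letI := (ψ f e).toAlgebra
    ∀ z, secRho (ψ f e) ((Scheme.Modules.pullback f).obj G) (f.preimage_mono h) (secTheta G f e W z) =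
      secTheta G f e W' ((secRho (idA V) G h).lTensor Γ(X', V') z) := by
  letI := (ψ f e).toAlgebra
  intro z
  induction z using TensorProduct.induction_on with
  | zero => simp
  | add a b ha hb => simp only [map_add, ha, hb]
  | tmul b s =>
    haveI : ∀ W'' : X.Opens, IsScalarTower Γ(X, V) Γ(X', V') (Sec (ψ f e) ((Scheme.Modules.pullback f).obj G) (f ⁻¹ᵁ W'')) := fun _ =>
      IsScalarTower.of_algebraMap_smul fun _ _ => rfl
    rw [LinearMap.lTensor_tmul]
    show secRho (ψ f e) ((Scheme.Modules.pullback f).obj G) _ ((secU G f e W).liftBaseChange Γ(X', V') (b ⊗ₜ s)) =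
      (secU G f e W').liftBaseChange Γ(X', V') (b ⊗ₜ secRho (idA V) G h s)
    rw [LinearMap.liftBaseChange_tmul, LinearMap.liftBaseChange_tmul, ← secU_res]
    refine (res_smul ((Scheme.Modules.pullback f).obj G) _ _ _).trans ?_
    exact congrArg (· • res ((Scheme.Modules.pullback f).obj G) (inf_le_inf_left V' (f.preimage_mono h))
      (show Γ((Scheme.Modules.pullback f).obj G, V' ⊓ f ⁻¹ᵁ W) from secU G f e W s)) (resO_resO _ _ b)

theorem secTheta_top_bijective (hG : Coh.IsQCoh G) (hV : IsAffineOpen V) (hV' : IsAffineOpen V') :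
    Function.Bijective (secTheta G f e ⊤) := by
  letI := (ψ f e).toAlgebra
  haveI : IsScalarTower Γ(X, V) Γ(X', V') (Sec (ψ f e) ((Scheme.Modules.pullback f).obj G) (f ⁻¹ᵁ ⊤)) :=
    IsScalarTower.of_algebraMap_smul fun _ _ => rfl
  let η := (Scheme.Modules.pullbackPushforwardAdjunction f).unit.app G
  let Θ : Γ(X', V') ⊗[Γ(X, V)] Sec (idA V) G ⊤ →ₗ[Γ(X', V')] Sec (ψ f e) ((Scheme.Modules.pullback f).obj G) (f ⁻¹ᵁ ⊤) :=
    (secU G f e ⊤).liftBaseChange Γ(X', V')
  show Function.Bijective Θ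
  let w : Γ(G, V) →ₛₗ[(f.appLE V V' e).hom] (Γ(X', V') ⊗[Γ(X, V)] Sec (idA V) G ⊤) :=
    { toFun := fun m => (1 : Γ(X', V')) ⊗ₜ (show Sec (idA V) G ⊤ from res G (inf_le_left : V ⊓ ⊤ ≤ V) m)
      map_add' := fun a b => by
        rw [map_add]; exact TensorProduct.tmul_add _ _ _
      map_smul' := fun r m => by
        rw [res_smul]
        show (1 : Γ(X', V')) ⊗ₜ[Γ(X, V)] (r • (show Sec (idA V) G ⊤ from res G inf_le_left m)) = _
        rw [TensorProduct.tmul_smul, ← IsScalarTower.algebraMap_smul Γ(X', V') r]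
        rfl }
  obtain ⟨f₀, hf₀, -⟩ := RelTilde.isBC_unit f hG hV hV' e _ w
  let ρ : Γ(((Scheme.Modules.pullback f).obj G), V') →ₗ[Γ(X', V')] Sec (ψ f e) ((Scheme.Modules.pullback f).obj G) (f ⁻¹ᵁ ⊤) :=
    { toFun := fun t => res ((Scheme.Modules.pullback f).obj G) (inf_le_left : V' ⊓ f ⁻¹ᵁ ⊤ ≤ V') t
      map_add' := fun a b => map_add _ a b
      map_smul' := fun r t => res_smul ((Scheme.Modules.pullback f).obj G) _ r t }
  have hρ : Function.Bijective ρ := rs_bijective ((Scheme.Modules.pullback f).obj G) (inf_le_left : V' ⊓ f ⁻¹ᵁ ⊤ ≤ V') (le_inf le_rfl le_top)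
  have hρθ : ∀ m, ρ (RelTilde.resθ f η e m) =
      secU G f e ⊤ (res G (inf_le_left : V ⊓ ⊤ ≤ V) m) := fun m => by
    refine (res_res ((Scheme.Modules.pullback f).obj G) _ e (η.app V m)).trans ?_
    exact ((res_res ((Scheme.Modules.pullback f).obj G) (inf_le_preimage f e ⊤)
      (f.preimage_mono (inf_le_left : V ⊓ ⊤ ≤ V)) _).symm.trans
        (congrArg (res ((Scheme.Modules.pullback f).obj G) (inf_le_preimage f e ⊤))
          (app_res η (inf_le_left : V ⊓ ⊤ ≤ V) m)))
  have h1 : Θ ∘ₗ f₀ = ρ := by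
    obtain ⟨g, -, huniq⟩ := RelTilde.isBC_unit f hG hV hV' e (Sec (ψ f e) ((Scheme.Modules.pullback f).obj G) (f ⁻¹ᵁ ⊤))
      { toFun := fun m => ρ (RelTilde.resθ f η e m)
        map_add' := fun a b => by simp only [map_add]
        map_smul' := fun r m => by rw [LinearMap.map_smulₛₗ, map_smul] }
    refine (huniq _ fun m => ?_).trans (huniq _ fun m => rfl).symm
    show Θ (f₀ (RelTilde.resθ f η e m)) = ρ (RelTilde.resθ f η e m)
    rw [hf₀, hρθ]
    exact (LinearMap.liftBaseChange_tmul _ _ _ _).trans (one_smul _ _)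
  let ρe := LinearEquiv.ofBijective ρ hρ
  have h2 : ∀ z, f₀ (ρe.symm (Θ z)) = z := fun z => by
    induction z using TensorProduct.induction_on with
    | zero => rw [map_zero, map_zero, map_zero]
    | add a b ha hb => rw [map_add, map_add, map_add, ha, hb]
    | tmul b s =>
      obtain ⟨m, rfl⟩ := (rs_bijective G (inf_le_left : V ⊓ ⊤ ≤ V) (le_inf le_rfl le_top)).2 s
      refine (congrArg (fun y => f₀ (ρe.symm y)) ((LinearMap.liftBaseChange_tmul _ _ _ _).trans
        (congrArg (b • ·) ((hρθ m).symm.trans (show ρ (RelTilde.resθ f η e m) = ρe (RelTilde.resθ f η e m) from rfl))))).trans ?_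
      rw [map_smul, LinearEquiv.symm_apply_apply, map_smul, hf₀]
      show b • ((1 : Γ(X', V')) ⊗ₜ[Γ(X, V)] _) = _
      rw [TensorProduct.smul_tmul', smul_eq_mul, mul_one]
      rfl
  refine ⟨Function.LeftInverse.injective (g := fun y => f₀ (ρe.symm y)) h2, fun y => ?_⟩
  obtain ⟨t, rfl⟩ := hρ.2 y
  exact ⟨f₀ t, LinearMap.congr_fun h1 t⟩

theorem secTheta_basicOpen_bijective (hG : Coh.IsQCoh G) (hV : IsAffineOpen V) (hV' : IsAffineOpen V')
    (a : Γ(X, V)) {W : X.Opens} (hW : V ⊓ W = X.basicOpen a) :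
    Function.Bijective (secTheta G f e W) := by
  letI := (ψ f e).toAlgebra
  haveI hG1 : G.IsQuasicoherent := hG
  haveI : ((Scheme.Modules.pullback f).obj G).IsQuasicoherent := QC.isQCoh_pullback f hG
  have hW' : V' ⊓ f ⁻¹ᵁ W = X'.basicOpen (ψ f e a) := by
    rw [Scheme.basicOpen_appLE, ← hW]
    exact le_antisymm (le_inf inf_le_left (inf_le_preimage f e W))
      (inf_le_inf_left _ (f.preimage_mono inf_le_right))
  haveI h1 := isLocalizedModule_secRho (idA V) G hV a (W := W) hW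
  haveI h2 := isLocalizedModule_secRho (ψ f e) ((Scheme.Modules.pullback f).obj G) hV' a (W := f ⁻¹ᵁ W) hW'
  haveI h3 : IsLocalizedModule (Submonoid.powers a)
      ((secRho (idA V) G (le_top : W ≤ ⊤)).lTensor Γ(X', V')) := by
    have h := IsLocalizedModule.rTensor (R := Γ(X, V)) (A := Γ(X, V)) (N := Γ(X', V')) (Submonoid.powers a)
      (secRho (idA V) G (le_top : W ≤ ⊤))
    have h' := IsLocalizedModule.of_linearEquiv (Submonoid.powers a)
      (TensorProduct.AlgebraTensorModule.rTensor Γ(X, V) Γ(X', V') (secRho (idA V) G (le_top : W ≤ ⊤)))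
      (TensorProduct.comm Γ(X, V) _ _)
    have h'' := IsLocalizedModule.of_linearEquiv_right (Submonoid.powers a)
      ((TensorProduct.comm Γ(X, V) _ _).toLinearMap ∘ₗ
        TensorProduct.AlgebraTensorModule.rTensor Γ(X, V) Γ(X', V') (secRho (idA V) G (le_top : W ≤ ⊤)))
      (TensorProduct.comm Γ(X, V) Γ(X', V') (Sec (idA V) G ⊤))
    convert h''
    refine TensorProduct.ext' fun b s => ?_
    rfl
  have key : IsLocalizedModule.map (Submonoid.powers a) ((secRho (idA V) G (le_top : W ≤ ⊤)).lTensor Γ(X', V'))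
      (secRho (ψ f e) ((Scheme.Modules.pullback f).obj G) (le_top : f ⁻¹ᵁ W ≤ f ⁻¹ᵁ ⊤)) (secTheta G f e ⊤) =
      secTheta G f e W := by
    refine IsLocalizedModule.ext (Submonoid.powers a) ((secRho (idA V) G (le_top : W ≤ ⊤)).lTensor Γ(X', V'))
      (IsLocalizedModule.map_units (secRho (ψ f e) _ (le_top : f ⁻¹ᵁ W ≤ f ⁻¹ᵁ ⊤))) ?_
    refine (IsLocalizedModule.map_comp _ _ _ _).trans (LinearMap.ext fun z => ?_)
    exact secTheta_res G f e (le_top : W ≤ ⊤) z
  obtain ⟨hi, hs⟩ := secTheta_top_bijective G f e hG hV hV'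
  rw [← key]
  exact ⟨IsLocalizedModule.map_injective _ _ _ _ hi, IsLocalizedModule.map_surjective _ _ _ _ hs⟩

/-- Flat base change preserves bijectivity of restriction to a finite union of basic opens. -/
theorem bijective_secRho_pullback (hG : Coh.IsQCoh G) (hV : IsAffineOpen V) (hV' : IsAffineOpen V')
    (hflat : (ψ f e).Flat) (a : ι → Γ(X, V)) {O : X.Opens} (hO : O = ⨆ i, X.basicOpen (a i))
    (h : Function.Bijective (secRho (idA V) G (le_top : O ≤ ⊤))) :
    Function.Bijective (secRho (ψ f e) ((Scheme.Modules.pullback f).obj G) (le_top : f ⁻¹ᵁ O ≤ ⊤)) := by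
  classical
  letI := (ψ f e).toAlgebra
  haveI : Module.Flat Γ(X, V) Γ(X', V') := hflat
  haveI := Fintype.ofFinite ι
  let B := Γ(X', V')
  let G₁ := (Scheme.Modules.pullback f).obj G
  let W : ι → X.Opens := fun i => X.basicOpen (a i)
  let W' : ι → X'.Opens := fun i => f ⁻¹ᵁ W i
  obtain ⟨hi, hex⟩ := (bijective_rho_iff (idA V) G W hO).1 h
  refine (bijective_rho_iff (ψ f e) G₁ W' (by rw [hO, Scheme.Hom.preimage_iSup])).2 ?_
  have hθ1 : ∀ i, Function.Bijective (secTheta G f e (W i)) := fun i =>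
    secTheta_basicOpen_bijective G f e hG hV hV' (a i) (inf_eq_right.2 (X.basicOpen_le (a i)))
  have hθ2 : ∀ p : ι × ι, Function.Bijective (secTheta G f e (W p.1 ⊓ W p.2)) := fun p =>
    secTheta_basicOpen_bijective G f e hG hV hV' (a p.1 * a p.2)
      (by rw [X.basicOpen_mul, inf_eq_right.2 (inf_le_left.trans (X.basicOpen_le (a p.1)))])
  let E₀ := LinearEquiv.ofBijective (secTheta G f e ⊤) (secTheta_top_bijective G f e hG hV hV')
  let E₁ := (TensorProduct.piRight Γ(X, V) Γ(X, V) B (fun i => Sec (idA V) G (W i))) ≪≫ₗ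
    LinearEquiv.piCongrRight fun i => LinearEquiv.ofBijective (secTheta G f e (W i)) (hθ1 i)
  let E₂ := (TensorProduct.piRight Γ(X, V) Γ(X, V) B (fun p : ι × ι => Sec (idA V) G (W p.1 ⊓ W p.2))) ≪≫ₗ
    LinearEquiv.piCongrRight fun p => LinearEquiv.ofBijective (secTheta G f e (W p.1 ⊓ W p.2)) (hθ2 p)
  have hE₁ : ∀ (z : B ⊗[Γ(X, V)] (∀ i, Sec (idA V) G (W i))) i,
      E₁ z i = secTheta G f e (W i) ((LinearMap.proj (R := Γ(X, V)) (φ := fun i => Sec (idA V) G (W i)) i).lTensor B z) := by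
    intro z i
    induction z using TensorProduct.induction_on with
    | zero => simp
    | add p q hp hq => simp only [map_add, Pi.add_apply, hp, hq]
    | tmul b t => (simp [E₁] <;> rfl)
  have hE₂ : ∀ (z : B ⊗[Γ(X, V)] (∀ p : ι × ι, Sec (idA V) G (W p.1 ⊓ W p.2))) p,
      E₂ z p = secTheta G f e (W p.1 ⊓ W p.2)
        ((LinearMap.proj (R := Γ(X, V)) (φ := fun p : ι × ι => Sec (idA V) G (W p.1 ⊓ W p.2)) p).lTensor B z) := by
    intro z p
    induction z using TensorProduct.induction_on with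
    | zero => simp
    | add p q hp hq => simp only [map_add, Pi.add_apply, hp, hq]
    | tmul b t => (simp [E₂] <;> rfl)
  have hcu : ∀ z, uMap (ψ f e) G₁ W' (E₀ z) = E₁ ((uMap (idA V) G W).lTensor B z) := by
    intro z
    funext i
    refine Eq.trans ?_ (hE₁ _ i).symm
    refine (secTheta_res G f e (le_top : W i ≤ ⊤) z).trans (congrArg (secTheta G f e (W i)) ?_)
    exact LinearMap.lTensor_comp_apply B (LinearMap.proj i) (uMap (idA V) G W) z
  have hcv : ∀ z, vMap (ψ f e) G₁ W' (E₁ z) = E₂ ((vMap (idA V) G W).lTensor B z) := by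
    intro z
    funext p
    have h3 : (LinearMap.proj (R := Γ(X, V)) (φ := fun p : ι × ι => Sec (idA V) G (W p.1 ⊓ W p.2)) p).lTensor B
        ((vMap (idA V) G W).lTensor B z) =
        (secRho (idA V) G (inf_le_left : W p.1 ⊓ W p.2 ≤ W p.1)).lTensor B
          ((LinearMap.proj (R := Γ(X, V)) (φ := fun i => Sec (idA V) G (W i)) p.1).lTensor B z) -
        (secRho (idA V) G (inf_le_right : W p.1 ⊓ W p.2 ≤ W p.2)).lTensor B
          ((LinearMap.proj (R := Γ(X, V)) (φ := fun i => Sec (idA V) G (W i)) p.2).lTensor B z) := by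
      rw [← LinearMap.lTensor_comp_apply, ← LinearMap.lTensor_comp_apply, ← LinearMap.lTensor_comp_apply,
        ← LinearMap.sub_apply, ← LinearMap.lTensor_sub]
      rfl
    refine Eq.trans ?_ ((hE₂ _ p).trans (congrArg (secTheta G f e (W p.1 ⊓ W p.2)) h3)).symm
    refine Eq.trans ?_ (map_sub (secTheta G f e (W p.1 ⊓ W p.2)) _ _).symm
    exact congrArg₂ (· - ·)
      ((congrArg (secRho (ψ f e) G₁ (f.preimage_mono inf_le_left)) (hE₁ z p.1)).trans
        (secTheta_res G f e inf_le_left _))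
      ((congrArg (secRho (ψ f e) G₁ (f.preimage_mono inf_le_right)) (hE₁ z p.2)).trans
        (secTheta_res G f e inf_le_right _))
  refine ⟨fun x y hxy => ?_, fun t => ?_⟩
  · obtain ⟨x, rfl⟩ := E₀.surjective x
    obtain ⟨y, rfl⟩ := E₀.surjective y
    rw [hcu, hcu] at hxy
    exact congrArg E₀ (Module.Flat.lTensor_preserves_injective_linearMap _ hi (E₁.injective hxy))
  · obtain ⟨t, rfl⟩ := E₁.surjective t
    have hex' := (Module.Flat.lTensor_exact B hex) t
    rw [hcv]
    refine Iff.trans E₂.map_eq_zero_iff ?_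
    constructor
    · intro h0
      obtain ⟨z, hz⟩ := hex'.1 h0
      exact ⟨E₀ z, by rw [hcu, hz]⟩
    · rintro ⟨z, hz⟩
      obtain ⟨z, rfl⟩ := E₀.surjective z
      rw [hcu] at hz
      exact hex'.2 ⟨z, E₁.injective hz⟩

end BC

end Groth.Agent.ZCl
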