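import Mathlib
import Groth.Prelude.Def_EGA4b
/-!
Compatible families of fractions off a specialisation-closed set of primes: left exactness and finiteness.
-/
universe u

set_option linter.style.haveILetI false
set_option linter.unusedSectionVars false

noncomputable section

namespace Groth.Agent.ZCl

open LocalizedModule

variable {A : Type u} [CommRing A] (Z : Set (PrimeSpectrum A))

/-- families of germs off `Z` -/
abbrev Fam (M : Type u) [AddCommGroup M] [Module A M] : Type u :=
  ∀ y : {y : PrimeSpectrum A // y ∉ Z}, LocalizedModule y.1.asIdeal.primeCompl M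

variable {M N : Type u} [AddCommGroup M] [Module A M] [AddCommGroup N] [Module A N]

/-- a compatible family: locally on the complement of `Z` a fraction -/
def famSub (M : Type u) [AddCommGroup M] [Module A M] : Submodule A (Fam Z M) where
  carrier := {h | ∀ x : {y : PrimeSpectrum A // y ∉ Z}, ∃ (m : M) (s : A), s ∉ x.1.asIdeal ∧
    ∀ y : {y : PrimeSpectrum A // y ∉ Z}, s ∉ y.1.asIdeal → s • h y = mk m 1}
  zero_mem' := fun x => ⟨0, 1, x.1.2.one_notMem, fun y _ => by simp⟩
  add_mem' := fun {a b} ha hb x => by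
    obtain ⟨m, s, hs, hm⟩ := ha x
    obtain ⟨n, t, ht, hn⟩ := hb x
    refine ⟨t • m + s • n, t * s, x.1.asIdeal.primeCompl.mul_mem ht hs, fun y hy => ?_⟩
    have hy' : t ∉ y.1.asIdeal ∧ s ∉ y.1.asIdeal :=
      ⟨fun h => hy (Ideal.mul_mem_right _ _ h), fun h => hy (Ideal.mul_mem_left _ _ h)⟩
    rw [Pi.add_apply, smul_add]
    conv_lhs => arg 1; rw [mul_smul, hm y hy'.2, LocalizedModule.smul'_mk]
    conv_lhs => arg 2; rw [mul_comm, mul_smul, hn y hy'.1, LocalizedModule.smul'_mk]
    rw [LocalizedModule.mk_add_mk, one_smul, one_smul, mul_one]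
  smul_mem' := fun r a ha x => by
    obtain ⟨m, s, hs, hm⟩ := ha x
    exact ⟨r • m, s, hs, fun y hy => by
      rw [Pi.smul_apply, smul_comm, hm y hy, LocalizedModule.smul'_mk]⟩

variable {Z}

lemma mk_one_eq_zero_iff (y : PrimeSpectrum A) (m : M) :
    (mk m 1 : LocalizedModule y.asIdeal.primeCompl M) = 0 ↔ ∃ t ∉ y.asIdeal, t • m = 0 := by
  rw [← LocalizedModule.zero_mk 1, LocalizedModule.mk_eq]
  simp only [one_smul, smul_zero]
  exact ⟨fun ⟨u, hu⟩ => ⟨u.1, u.2, hu⟩, fun ⟨t, ht, h⟩ => ⟨⟨t, ht⟩, h⟩⟩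

lemma smul_eq_zero_cancel {y : PrimeSpectrum A} {s : A} (hs : s ∉ y.asIdeal)
    {z : LocalizedModule y.asIdeal.primeCompl M} (h : s • z = 0) : z = 0 := by
  induction z using LocalizedModule.induction_on with
  | h m t =>
    rw [LocalizedModule.smul'_mk, ← LocalizedModule.zero_mk 1, LocalizedModule.mk_eq] at h
    obtain ⟨u, hu⟩ := h
    rw [← LocalizedModule.zero_mk 1, LocalizedModule.mk_eq]
    refine ⟨u * ⟨s, hs⟩, ?_⟩
    simp only [Submonoid.smul_def, Submonoid.coe_mul, smul_zero, one_smul, mul_smul, Submonoid.coe_one] at hu ⊢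
    exact hu

lemma exists_rep (y : PrimeSpectrum A) (z : LocalizedModule y.asIdeal.primeCompl M) :
    ∃ (m : M) (s : A), s ∉ y.asIdeal ∧ s • z = mk m 1 := by
  induction z using LocalizedModule.induction_on with
  | h m t => exact ⟨m, t.1, t.2, by rw [LocalizedModule.smul'_mk]; exact LocalizedModule.mk_cancel t m⟩

lemma eq_zero_of_jointly_injective {ι : Type*} [Fintype ι] (f : ι → M →ₗ[A] N)
    (hf : ∀ m, (∀ i, f i m = 0) → m = 0) (y : PrimeSpectrum A)
    (z : LocalizedModule y.asIdeal.primeCompl M)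
    (h : ∀ i, LocalizedModule.map y.asIdeal.primeCompl (f i) z = 0) : z = 0 := by
  classical
  induction z using LocalizedModule.induction_on with
  | h m t =>
    have : ∀ i, ∃ u : y.asIdeal.primeCompl, (u : A) • f i m = 0 := fun i => by
      have := h i
      rw [LocalizedModule.map_mk, ← LocalizedModule.zero_mk 1, LocalizedModule.mk_eq] at this
      obtain ⟨u, hu⟩ := this
      simp only [one_smul, smul_zero] at hu
      exact ⟨u, hu⟩
    choose u hu using this
    rw [← LocalizedModule.zero_mk 1, LocalizedModule.mk_eq]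
    refine ⟨∏ i, u i, ?_⟩
    simp only [one_smul, smul_zero]
    refine hf _ fun i => ?_
    obtain ⟨d, hd⟩ := Finset.dvd_prod_of_mem u (Finset.mem_univ i)
    rw [Submonoid.smul_def, map_smul, hd, Submonoid.coe_mul, mul_comm, mul_smul, hu i, smul_zero]

variable (Z)

/-- functoriality of families -/
def famMap (f : M →ₗ[A] N) : Fam Z M →ₗ[A] Fam Z N :=
  LinearMap.pi fun y => ((LocalizedModule.map y.1.asIdeal.primeCompl f).restrictScalars A).comp (LinearMap.proj y)

lemma famMap_apply (f : M →ₗ[A] N) (h : Fam Z M) (y : {y : PrimeSpectrum A // y ∉ Z}) :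
    famMap Z f h y = LocalizedModule.map y.1.asIdeal.primeCompl f (h y) := rfl

lemma famMap_mem (f : M →ₗ[A] N) {h : Fam Z M} (hh : h ∈ famSub Z M) : famMap Z f h ∈ famSub Z N := by
  intro x
  obtain ⟨m, s, hs, hm⟩ := hh x
  refine ⟨f m, s, hs, fun y hy => ?_⟩
  rw [famMap_apply, ← LinearMap.map_smul_of_tower, hm y hy, LocalizedModule.map_mk]

/-- functoriality of compatible families -/
def subMap (f : M →ₗ[A] N) : famSub Z M →ₗ[A] famSub Z N :=
  ((famMap Z f).comp (famSub Z M).subtype).codRestrict _ fun h => famMap_mem Z f h.2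

lemma subMap_pi_injective {ι : Type*} [Fintype ι] (f : ι → M →ₗ[A] N)
    (hf : ∀ m, (∀ i, f i m = 0) → m = 0) : Function.Injective (LinearMap.pi fun i => subMap Z (f i)) := by
  refine (injective_iff_map_eq_zero _).2 fun h hh => Subtype.ext (funext fun y => ?_)
  exact eq_zero_of_jointly_injective f hf y.1 (h.1 y) fun i => congrFun (congrArg Subtype.val (congrFun hh i)) y

lemma isNoetherian_of_jointly_injective {ι : Type*} [Fintype ι] (f : ι → M →ₗ[A] N)
    (hf : ∀ m, (∀ i, f i m = 0) → m = 0) [IsNoetherian A (famSub Z N)] : IsNoetherian A (famSub Z M) :=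
  isNoetherian_of_injective _ (subMap_pi_injective Z f hf)

lemma ker_subMap_mkQ_le (M₁ : Submodule A M) :
    LinearMap.ker (subMap Z M₁.mkQ) ≤ LinearMap.range (subMap Z M₁.subtype) := by
  rintro ⟨h, hh⟩ hk
  have hk' : ∀ y, LocalizedModule.map y.1.asIdeal.primeCompl M₁.mkQ (h y) = 0 := fun y =>
    congrFun (congrArg Subtype.val (LinearMap.mem_ker.1 hk)) y
  have key : ∀ (y : {y : PrimeSpectrum A // y ∉ Z}) (m : M) (s : A), s ∉ y.1.asIdeal → s • h y = mk m 1 →
      ∃ t ∉ y.1.asIdeal, t • m ∈ M₁ := by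
    intro y m s _ hm
    have h0 : (mk (M₁.mkQ m) 1 : LocalizedModule y.1.asIdeal.primeCompl (M ⧸ M₁)) = 0 := by
      rw [← LocalizedModule.map_mk, ← hm, LinearMap.map_smul_of_tower, hk' y, smul_zero]
    obtain ⟨t, ht, htm⟩ := (mk_one_eq_zero_iff y.1 _).1 h0
    exact ⟨t, ht, (Submodule.Quotient.mk_eq_zero M₁).1 (by simpa using htm)⟩
  have hinj : ∀ y : PrimeSpectrum A, ∀ z, LocalizedModule.map y.asIdeal.primeCompl M₁.subtype z = 0 → z = 0 :=
    fun y z hz => eq_zero_of_jointly_injective (fun _ : Unit => M₁.subtype)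
      (fun m hm => Subtype.ext (hm ())) y z fun _ => hz
  have hex : ∀ y, ∃ z, LocalizedModule.map y.1.asIdeal.primeCompl M₁.subtype z = h y := by
    intro y
    obtain ⟨m, s, hs, hm⟩ := exists_rep y.1 (h y)
    obtain ⟨t, ht, htm⟩ := key y m s hs hm
    refine ⟨mk ⟨t • m, htm⟩ ⟨t * s, y.1.asIdeal.primeCompl.mul_mem ht hs⟩, ?_⟩
    refine sub_eq_zero.1 (smul_eq_zero_cancel (s := t * s) (y.1.asIdeal.primeCompl.mul_mem ht hs) ?_)
    rw [smul_sub, LocalizedModule.map_mk, LocalizedModule.smul'_mk, mul_smul t s (h y), hm, LocalizedModule.smul'_mk]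
    exact sub_eq_zero.2 (LocalizedModule.mk_cancel (⟨t * s, y.1.asIdeal.primeCompl.mul_mem ht hs⟩ : y.1.asIdeal.primeCompl) (t • m))
  choose g hg using hex
  refine ⟨⟨g, fun x => ?_⟩, Subtype.ext (funext hg)⟩
  obtain ⟨m, s, hs, hm⟩ := hh x
  obtain ⟨t, ht, htm⟩ := key x m s hs (hm x hs)
  refine ⟨⟨t • m, htm⟩, t * s, x.1.asIdeal.primeCompl.mul_mem ht hs, fun y hy => ?_⟩
  refine sub_eq_zero.1 (hinj y.1 _ ?_)
  rw [map_sub, LinearMap.map_smul_of_tower, hg, LocalizedModule.map_mk, mul_smul,
    hm y (fun h => hy (Ideal.mul_mem_left _ _ h)), LocalizedModule.smul'_mk]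
  exact sub_self _

lemma isNoetherian_of_exact (M₁ : Submodule A M) [IsNoetherian A (famSub Z M₁)]
    [IsNoetherian A (famSub Z (M ⧸ M₁))] : IsNoetherian A (famSub Z M) :=
  isNoetherian_of_range_eq_ker (subMap Z M₁.subtype) (subMap Z M₁.mkQ) (le_antisymm (by
    rintro _ ⟨w, rfl⟩
    refine LinearMap.mem_ker.2 (Subtype.ext (funext fun y => ?_))
    change LocalizedModule.map _ M₁.mkQ (LocalizedModule.map _ M₁.subtype (w.1 y)) = 0
    induction w.1 y using LocalizedModule.induction_on with
    | h m t =>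
      rw [LocalizedModule.map_mk, LocalizedModule.map_mk,
        show M₁.mkQ (M₁.subtype m) = 0 from (Submodule.Quotient.mk_eq_zero M₁).2 m.2, LocalizedModule.zero_mk])
    (ker_subMap_mkQ_le Z M₁))

lemma subsingleton_famSub (h : ∀ (y : {y : PrimeSpectrum A // y ∉ Z}) (m : M), ∃ t ∉ y.1.asIdeal, t • m = 0) :
    Subsingleton (famSub Z M) := by
  refine subsingleton_of_forall_eq 0 fun a => Subtype.ext (funext fun y => ?_)
  obtain ⟨m, s, hs, hm⟩ := exists_rep y.1 (a.1 y)
  exact smul_eq_zero_cancel hs (hm.trans ((mk_one_eq_zero_iff y.1 m).2 (h y m)))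

section Domain

variable (q : Ideal A) [q.IsPrime]

lemma isUnit_frac (a : q.primeCompl) :
    IsUnit ((algebraMap A (Module.End A (FractionRing (A ⧸ q)))) a) := by
  have ha : algebraMap A (FractionRing (A ⧸ q)) a.1 ≠ 0 := by
    rw [IsScalarTower.algebraMap_apply A (A ⧸ q) (FractionRing (A ⧸ q))]
    exact fun h => a.2 (Ideal.Quotient.eq_zero_iff_mem.1
      (IsFractionRing.injective (A ⧸ q) (FractionRing (A ⧸ q)) (h.trans (map_zero _).symm)))
  refine (Module.End.isUnit_iff _).2 ⟨fun x y h => ?_, fun x => ⟨x / algebraMap A _ a.1, ?_⟩⟩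
  · simp only [Module.algebraMap_end_apply, Algebra.smul_def] at h
    exact mul_left_cancel₀ ha h
  · simp only [Module.algebraMap_end_apply, Algebra.smul_def]
    exact mul_div_cancel₀ x ha

/-- germs at the generic point as elements of the fraction field -/
def toFrac : LocalizedModule q.primeCompl (A ⧸ q) →ₗ[A] FractionRing (A ⧸ q) :=
  LocalizedModule.lift q.primeCompl ((Algebra.linearMap (A ⧸ q) (FractionRing (A ⧸ q))).restrictScalars A)
    (isUnit_frac q)

lemma toFrac_spec {z : LocalizedModule q.primeCompl (A ⧸ q)} {m : A ⧸ q} {s : A} (h : s • z = mk m 1) :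
    algebraMap (A ⧸ q) (FractionRing (A ⧸ q)) (Ideal.Quotient.mk q s) * toFrac q z =
      algebraMap (A ⧸ q) (FractionRing (A ⧸ q)) m := by
  have h1 := congrArg (toFrac q) h
  rw [map_smul, toFrac, LocalizedModule.lift_mk_one, Algebra.smul_def,
    IsScalarTower.algebraMap_apply A (A ⧸ q) (FractionRing (A ⧸ q)), Ideal.Quotient.algebraMap_eq] at h1
  exact h1

lemma eq_zero_of_not_le {y : PrimeSpectrum A} (hy : ¬ q ≤ y.asIdeal) (z : LocalizedModule y.asIdeal.primeCompl (A ⧸ q)) :
    z = 0 := by
  obtain ⟨t, htq, hty⟩ := Set.not_subset.1 hy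
  refine smul_eq_zero_cancel hty ?_
  induction z using LocalizedModule.induction_on with
  | h m s =>
    obtain ⟨m, rfl⟩ := Ideal.Quotient.mk_surjective m
    rw [LocalizedModule.smul'_mk, show t • Ideal.Quotient.mk q m = 0 by
      rw [Algebra.smul_def, Ideal.Quotient.algebraMap_eq, Ideal.Quotient.eq_zero_iff_mem.2 htq, zero_mul],
      LocalizedModule.zero_mk]

/-- evaluation at the generic point -/
def evalGen (hq : (⟨q, ‹_›⟩ : PrimeSpectrum A) ∉ Z) : Fam Z (A ⧸ q) →ₗ[A] FractionRing (A ⧸ q) :=
  (toFrac q).comp (LinearMap.proj (⟨⟨q, ‹_›⟩, hq⟩ : {y : PrimeSpectrum A // y ∉ Z}))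

variable {Z}

theorem evalGen_injective (hq : (⟨q, ‹_›⟩ : PrimeSpectrum A) ∉ Z) :
    Function.Injective ((evalGen Z q hq).comp (famSub Z (A ⧸ q)).subtype) := by
  refine (injective_iff_map_eq_zero _).2 fun h h0 => Subtype.ext (funext fun y => ?_)
  by_cases hy : q ≤ y.1.asIdeal
  · obtain ⟨m, s, hs, hm⟩ := h.2 y
    have h1 := toFrac_spec q (hm ⟨⟨q, ‹_›⟩, hq⟩ fun hsq => hs (hy hsq))
    change algebraMap (A ⧸ q) _ _ * (evalGen Z q hq h.1) = _ at h1
    rw [show evalGen Z q hq h.1 = 0 from h0, mul_zero] at h1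
    have hm0 : m = 0 := IsFractionRing.injective (A ⧸ q) (FractionRing (A ⧸ q)) (h1.symm.trans (map_zero _).symm)
    refine smul_eq_zero_cancel hs ((hm y hs).trans ?_)
    rw [hm0, LocalizedModule.zero_mk]
  · exact eq_zero_of_not_le q hy _

/-- the height hypothesis at one prime -/
def GoodAt (Z : Set (PrimeSpectrum A)) (q : Ideal A) : Prop :=
  ∀ y ∈ Z, q ≤ y.asIdeal → (2 : ℕ∞) ≤ (y.asIdeal.map (Ideal.Quotient.mk q)).height

theorem evalGen_mem_hull (hq : (⟨q, ‹_›⟩ : PrimeSpectrum A) ∉ Z) (hgood : GoodAt Z q)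
    {h : Fam Z (A ⧸ q)} (hh : h ∈ famSub Z (A ⧸ q)) : evalGen Z q hq h ∈ EGA4.heightOneHull (A ⧸ q) := by
  intro p _ hp
  let y : PrimeSpectrum A := ⟨p.comap (Ideal.Quotient.mk q), inferInstance⟩
  have hqy : q ≤ y.asIdeal := fun a ha => by
    change Ideal.Quotient.mk q a ∈ p
    rw [Ideal.Quotient.eq_zero_iff_mem.2 ha]; exact p.zero_mem
  have hy : y ∉ Z := fun hy => by
    have := hgood y hy hqy
    rw [show y.asIdeal.map (Ideal.Quotient.mk q) = p from
      Ideal.map_comap_of_surjective _ Ideal.Quotient.mk_surjective p, hp] at this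
    exact absurd this (by norm_num)
  obtain ⟨m, s, hs, hm⟩ := hh ⟨y, hy⟩
  exact ⟨Ideal.Quotient.mk q s, hs, m, (toFrac_spec q (hm ⟨⟨q, ‹_›⟩, hq⟩ fun hsq => hs (hqy hsq))).symm⟩

theorem isNoetherian_famSub_quotient [IsNoetherianRing A] (hq : (⟨q, ‹_›⟩ : PrimeSpectrum A) ∉ Z)
    (hgood : GoodAt Z q) (hfin : EGA4.HeightOneHullFinite (A ⧸ q)) :
    IsNoetherian A (famSub Z (A ⧸ q)) := by
  obtain ⟨B, hB, hBf⟩ := hfin
  let S := (Subalgebra.toSubmodule B).restrictScalars A
  haveI : Module.Finite (A ⧸ q) B := hBf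
  haveI : Module.Finite A (A ⧸ q) := inferInstance
  haveI : Module.Finite A B := Module.Finite.trans (A ⧸ q) B
  haveI : Module.Finite A S := Module.Finite.equiv (LinearEquiv.refl A B : B ≃ₗ[A] S)
  let g : famSub Z (A ⧸ q) →ₗ[A] S := ((evalGen Z q hq).comp (famSub Z (A ⧸ q)).subtype).codRestrict S fun h => by
    change _ ∈ (B : Set (FractionRing (A ⧸ q)))
    rw [hB]
    exact evalGen_mem_hull q hq hgood h.2
  exact isNoetherian_of_injective g fun a b hab => evalGen_injective q hq (congrArg Subtype.val hab)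

end Domain

lemma exists_embed_free (B : Type u) [CommRing B] [IsDomain B] (Q : Type u) [AddCommGroup Q] [Module B Q]
    [Module.Finite B Q] [Module.IsTorsionFree B Q] :
    ∃ (n : ℕ) (φ : Q →ₗ[B] (Fin n → B)), Function.Injective φ := by
  obtain ⟨k, g, hg⟩ := Module.Finite.exists_fin (R := B) (M := Q)
  obtain ⟨s, hs, hmax'⟩ := exists_maximal_linearIndepOn B g
  have hc : ∀ i, ∃ c : B, c ≠ 0 ∧ c • g i ∈ Submodule.span B (g '' s) := fun i => by
    by_cases hi : i ∈ s
    · exact ⟨1, one_ne_zero, by rw [one_smul]; exact Submodule.subset_span ⟨i, hi, rfl⟩⟩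
    · exact hmax' i hi
  choose c hc0 hc using hc
  have hC : ∀ z, (∏ i, c i) • z ∈ Submodule.span B (g '' s) := fun z => by
    have hz : z ∈ Submodule.span B (Set.range g) := hg ▸ Submodule.mem_top
    induction hz using Submodule.span_induction with
    | mem x hx =>
      obtain ⟨i, rfl⟩ := hx
      rw [← Finset.prod_erase_mul _ _ (Finset.mem_univ i), mul_smul]
      exact Submodule.smul_mem _ _ (hc i)
    | zero => rw [smul_zero]; exact zero_mem _
    | add x y _ _ hx hy => rw [smul_add]; exact add_mem hx hy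
    | smul a x _ hx => rw [smul_comm]; exact Submodule.smul_mem _ _ hx
  let m : Q →ₗ[B] ↥(Submodule.span B (g '' s)) := ((∏ i, c i) • LinearMap.id).codRestrict _ hC
  have hm : Function.Injective m := fun x y h =>
    smul_right_injective Q (Finset.prod_ne_zero_iff.2 fun i _ => hc0 i) (congrArg Subtype.val h)
  haveI : Fintype s := Fintype.ofFinite _
  let β := (Module.Basis.span hs).reindex (Fintype.equivFin s)
  let ε : ↥(Submodule.span B (g '' s)) ≃ₗ[B] _ := (LinearEquiv.ofEq _ _ (by
    congr 1; ext; simp)).trans β.equivFun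
  exact ⟨_, ε.toLinearMap.comp m, ε.injective.comp hm⟩

/-- Finiteness of compatible families from finiteness of height-one hulls. -/
theorem isNoetherian_famSub_of_ass [IsNoetherianRing A] {Z : Set (PrimeSpectrum A)} (hZ : StableUnderSpecialization Z)
    (M : Type u) [AddCommGroup M] [Module A M] [Module.Finite A M]
    (hM : ∀ x : PrimeSpectrum A, x.asIdeal ∈ associatedPrimes A M → x ∉ Z → GoodAt Z x.asIdeal ∧ EGA4.HeightOneHullFinite (A ⧸ x.asIdeal)) :
    IsNoetherian A (famSub Z M) := by
  have key : ∀ N : Submodule A M,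
      (∀ x : PrimeSpectrum A, x.asIdeal ∈ associatedPrimes A (M ⧸ N) → x ∉ Z → GoodAt Z x.asIdeal ∧ EGA4.HeightOneHullFinite (A ⧸ x.asIdeal)) →
      IsNoetherian A (famSub Z (M ⧸ N)) := by
    intro N
    induction N using WellFoundedGT.induction with
    | _ N ih =>
      intro hN
      classical
      let K : Submodule A (M ⧸ N) := ⨅ y : {y : PrimeSpectrum A // y ∉ Z},
        LinearMap.ker (LocalizedModule.mkLinearMap y.1.asIdeal.primeCompl (M ⧸ N))
      have hK : ∀ z, z ∈ K ↔ ∀ y : {y : PrimeSpectrum A // y ∉ Z}, ∃ t ∉ y.1.asIdeal, t • z = 0 := fun z => by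
        simp only [K, Submodule.mem_iInf, LinearMap.mem_ker, LocalizedModule.mkLinearMap_apply, mk_one_eq_zero_iff]
      -- passing to a larger submodule
      have step : ∀ N' : Submodule A M, N ≤ N' →
          IsNoetherian A (famSub Z ↥(N'.map N.mkQ)) → IsNoetherian A (famSub Z (M ⧸ N')) →
            IsNoetherian A (famSub Z (M ⧸ N)) := by
        intro N' hle h1 h2
        let e := Submodule.quotientQuotientEquivQuotient N N' hle
        haveI := h1
        haveI : IsNoetherian A (famSub Z ((M ⧸ N) ⧸ N'.map N.mkQ)) := by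
          haveI := h2
          exact isNoetherian_of_jointly_injective Z (fun _ : Unit => e.toLinearMap)
            (fun m hm => e.injective ((hm ()).trans (map_zero e).symm))
        exact isNoetherian_of_exact Z (N'.map N.mkQ)
      by_cases hK0 : K = ⊥
      · -- every associated prime is off `Z`
        have hassZ : ∀ x : PrimeSpectrum A, x.asIdeal ∈ associatedPrimes A (M ⧸ N) → x ∉ Z := by
          intro x hx hxZ
          obtain ⟨hp, m, hm⟩ := (isAssociatedPrime_iff).1 hx
          have hm0 : m ≠ 0 := fun h0 => hp.ne_top (by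
            rw [hm]; ext a; simp [h0, Submodule.mem_colon_singleton])
          have hmK : m ∉ K := fun h => hm0 (by rw [hK0, Submodule.mem_bot] at h; exact h)
          rw [hK] at hmK
          push Not at hmK
          obtain ⟨y, hy⟩ := hmK
          refine y.2 (hZ ?_ hxZ)
          rw [← PrimeSpectrum.le_iff_specializes]
          intro a ha
          by_contra hay
          refine hy a hay ?_
          rw [hm] at ha
          simpa [Submodule.mem_colon_singleton] using ha
        rcases subsingleton_or_nontrivial (M ⧸ N) with hs | hs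
        · haveI := subsingleton_famSub Z (M := M ⧸ N) fun y m => ⟨1, y.1.2.one_notMem, Subsingleton.elim _ _⟩
          infer_instance
        obtain ⟨p, hp, hmax⟩ := (associatedPrimes.finite A (M ⧸ N)).exists_maximal (associatedPrimes.nonempty A (M ⧸ N))
        haveI := hp.isPrime
        have hpZ : (⟨p, ‹_›⟩ : PrimeSpectrum A) ∉ Z := hassZ _ hp
        let M₁ := Submodule.torsionBySet A (M ⧸ N) p
        let N' : Submodule A M := M₁.comap N.mkQ
        have hle : N ≤ N' := fun z hz => by
          change N.mkQ z ∈ M₁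
          rw [show N.mkQ z = 0 from (Submodule.Quotient.mk_eq_zero N).2 hz]; exact zero_mem _
        have hmap : N'.map N.mkQ = M₁ := Submodule.map_comap_eq_of_surjective N.mkQ_surjective _
        obtain ⟨-, m₀, hm₀⟩ := isAssociatedPrime_iff.1 hp
        have hm₀M : m₀ ∈ M₁ := (Submodule.mem_torsionBySet_iff _ _).2 fun a => by
          have := hm₀.le a.2
          simpa [Submodule.mem_colon_singleton] using this
        have hm₀0 : m₀ ≠ 0 := fun h0 => hp.isPrime.ne_top (by
          rw [hm₀]; ext a; simp [h0, Submodule.mem_colon_singleton])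
        have hlt : N < N' := by
          refine lt_of_le_of_ne hle fun heq => hm₀0 ?_
          obtain ⟨z, rfl⟩ := N.mkQ_surjective m₀
          exact (Submodule.Quotient.mk_eq_zero N).2 (heq ▸ hm₀M)
        -- the quotient embeds into copies of the module, hence keeps the hypothesis
        have hN' : ∀ x : PrimeSpectrum A, x.asIdeal ∈ associatedPrimes A (M ⧸ N') → x ∉ Z → GoodAt Z x.asIdeal ∧ EGA4.HeightOneHullFinite (A ⧸ x.asIdeal) := by
          intro x hx hxZ
          obtain ⟨k, g, hg⟩ := Submodule.fg_iff_exists_fin_generating_family.1 (IsNoetherian.noetherian p)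
          let ψ : M →ₗ[A] (Fin k → M ⧸ N) := LinearMap.pi fun i => g i • N.mkQ
          obtain ⟨hxp, z, hz⟩ := isAssociatedPrime_iff.1 hx
          obtain ⟨z, rfl⟩ := Submodule.Quotient.mk_surjective _ z
          have hiff : ∀ a : A, a ∈ x.asIdeal ↔ ∀ i, a • g i • N.mkQ z = 0 := fun a => by
            rw [hz, Submodule.mem_colon_singleton, Submodule.mem_bot, ← Submodule.Quotient.mk_smul,
              Submodule.Quotient.mk_eq_zero]
            change N.mkQ (a • z) ∈ M₁ ↔ _
            rw [Submodule.mem_torsionBySet_iff, map_smul]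
            refine ⟨fun h i => ?_, fun h b => ?_⟩
            · rw [smul_comm]; exact h ⟨g i, hg ▸ Submodule.subset_span ⟨i, rfl⟩⟩
            · obtain ⟨c, hc⟩ := (Submodule.mem_span_range_iff_exists_fun A).1
                (show (b : A) ∈ Submodule.span A (Set.range g) from hg ▸ b.2)
              rw [← hc, Finset.sum_smul]
              exact Finset.sum_eq_zero fun i _ => by
                rw [smul_eq_mul, mul_smul, smul_comm (g i) a, h i, smul_zero]
          obtain ⟨i, hi⟩ : ∃ i, ∀ a : A, a • g i • N.mkQ z = 0 → a ∈ x.asIdeal := by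
            by_contra hcon
            push Not at hcon
            choose a ha hax using hcon
            refine x.2.prod_mem_iff.not.2 (fun ⟨i, _, h⟩ => hax i h) ((hiff (∏ i, a i)).2 fun i => ?_)
            obtain ⟨d, hd⟩ := Finset.dvd_prod_of_mem a (Finset.mem_univ i)
            rw [hd, mul_comm, mul_smul, ha i, smul_zero]
          refine hN x (isAssociatedPrime_iff.2 ⟨x.2, g i • N.mkQ z, ?_⟩) hxZ
          ext a
          rw [Submodule.mem_colon_singleton, Submodule.mem_bot]
          exact ⟨fun h => (hiff a).1 h i, hi a⟩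
        refine step N' hle ?_ (ih N' hlt hN')
        rw [hmap]
        -- the part killed by `p` is torsion-free over `A ⧸ p`
        have htor : Module.IsTorsionBySet A M₁ p := fun z a =>
          Subtype.ext ((Submodule.mem_torsionBySet_iff _ _).1 z.2 a)
        letI : Module (A ⧸ p) M₁ := htor.module
        haveI : IsScalarTower A (A ⧸ p) M₁ := htor.isScalarTower
        haveI : Module.Finite (A ⧸ p) M₁ := Module.Finite.of_restrictScalars_finite A _ _
        haveI : Module.IsTorsionFree (A ⧸ p) M₁ := by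
          refine Module.isTorsionFree_iff_smul_eq_zero.2 fun c z hcz => ?_
          obtain ⟨a, rfl⟩ := Ideal.Quotient.mk_surjective c
          by_contra hcon
          rw [not_or] at hcon
          obtain ⟨ha, hz⟩ := hcon
          have hap : a ∉ p := fun h => ha (Ideal.Quotient.eq_zero_iff_mem.2 h)
          obtain ⟨r, hr, hler⟩ := exists_le_isAssociatedPrime_of_isNoetherianRing A (z : M ⧸ N)
            (fun h => hz (Subtype.ext h))
          have hpr : p ≤ r := fun b hb => hler (Submodule.mem_colon_singleton.2 (by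
            rw [Submodule.mem_bot]; exact (Submodule.mem_torsionBySet_iff _ _).1 z.2 ⟨b, hb⟩))
          exact hap (hmax hr hpr (hler (Submodule.mem_colon_singleton.2 (by
            rw [Submodule.mem_bot]; exact congrArg Subtype.val hcz))))
        obtain ⟨n, φ, hφ⟩ := exists_embed_free (A ⧸ p) M₁
        haveI := isNoetherian_famSub_quotient p hpZ (hN ⟨p, ‹_›⟩ hp hpZ).1 (hN ⟨p, ‹_›⟩ hp hpZ).2
        exact isNoetherian_of_jointly_injective Z
          (fun i => (LinearMap.proj i).comp (φ.restrictScalars A))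
          (fun m hm => hφ ((funext hm).trans (map_zero φ).symm))
      · -- remove the part supported in `Z`
        let N' : Submodule A M := K.comap N.mkQ
        have hle : N ≤ N' := fun z hz => by
          change N.mkQ z ∈ K
          rw [show N.mkQ z = 0 from (Submodule.Quotient.mk_eq_zero N).2 hz]; exact zero_mem _
        have hlt : N < N' := by
          refine lt_of_le_of_ne hle fun heq => hK0 (eq_bot_iff.2 fun z hz => ?_)
          obtain ⟨z, rfl⟩ := N.mkQ_surjective z
          exact (Submodule.mem_bot A).2 ((Submodule.Quotient.mk_eq_zero N).2 (heq ▸ hz))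
        have hmap : N'.map N.mkQ = K := Submodule.map_comap_eq_of_surjective N.mkQ_surjective _
        refine step N' hle ?_ (ih N' hlt fun x hx hxZ => ?_)
        · rw [hmap]
          haveI := subsingleton_famSub Z (M := K) fun y m => by
            obtain ⟨t, ht, h0⟩ := (hK m.1).1 m.2 y
            exact ⟨t, ht, Subtype.ext h0⟩
          infer_instance
        · obtain ⟨hxp, z, hz⟩ := isAssociatedPrime_iff.1 hx
          obtain ⟨z, rfl⟩ := Submodule.Quotient.mk_surjective _ z
          have hiff : ∀ a : A, a ∈ x.asIdeal ↔ a • N.mkQ z ∈ K := fun a => by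
            rw [hz, Submodule.mem_colon_singleton, Submodule.mem_bot, ← Submodule.Quotient.mk_smul,
              Submodule.Quotient.mk_eq_zero, ← map_smul]
            rfl
          obtain ⟨k, g, hg⟩ := Submodule.fg_iff_exists_fin_generating_family.1 (IsNoetherian.noetherian x.asIdeal)
          have hx' : ∀ i, ∃ t ∉ x.asIdeal, t • g i • N.mkQ z = 0 := fun i =>
            (hK _).1 ((hiff (g i)).1 (hg ▸ Submodule.subset_span ⟨i, rfl⟩)) ⟨x, hxZ⟩
          choose t ht htz using hx'
          refine hN x (isAssociatedPrime_iff.2 ⟨x.2, (∏ i, t i) • N.mkQ z, ?_⟩) hxZ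
          ext a
          rw [Submodule.mem_colon_singleton, Submodule.mem_bot]
          refine ⟨fun ha => ?_, fun ha => ?_⟩
          · obtain ⟨c, hc⟩ := (Submodule.mem_span_range_iff_exists_fun A).1
              (show a ∈ Submodule.span A (Set.range g) from hg ▸ ha)
            rw [← hc, Finset.sum_smul]
            exact Finset.sum_eq_zero fun i _ => by
              obtain ⟨d, hd⟩ := Finset.dvd_prod_of_mem t (Finset.mem_univ i)
              rw [hd, smul_eq_mul, smul_smul, show c i * g i * (t i * d) = (c i * d) * (t i * g i) by ring, mul_smul,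
                mul_smul (t i), htz i, smul_zero]
          · have : a * ∏ i, t i ∈ x.asIdeal := (hiff _).2 (by rw [mul_smul, ha]; exact zero_mem _)
            exact (x.2.mem_or_mem this).resolve_right fun h => by
              obtain ⟨i, -, hi⟩ := x.2.prod_mem_iff.1 h
              exact ht i hi
  let e : M ≃ₗ[A] M ⧸ (⊥ : Submodule A M) := (Submodule.quotEquivOfEqBot ⊥ rfl).symm
  haveI := key ⊥ fun x hx hxZ => hM x (IsAssociatedPrime.map_of_injective (f := e.symm.toLinearMap) hx e.symm.injective) hxZ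
  exact isNoetherian_of_jointly_injective Z (fun _ : Unit => e.toLinearMap)
    (fun m hm => e.injective ((hm ()).trans (map_zero e).symm))

theorem isNoetherian_famSub [IsNoetherianRing A] {Z : Set (PrimeSpectrum A)} (hZ : StableUnderSpecialization Z)
    (hhull : ∀ (q : Ideal A) [q.IsPrime], EGA4.HeightOneHullFinite (A ⧸ q))
    (M : Type u) [AddCommGroup M] [Module A M] [Module.Finite A M]
    (hM : ∀ x : PrimeSpectrum A, x.asIdeal ∈ associatedPrimes A M → x ∉ Z → GoodAt Z x.asIdeal) :
    IsNoetherian A (famSub Z M) :=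
  isNoetherian_famSub_of_ass hZ M fun x hx hxZ => ⟨hM x hx hxZ, hhull x.asIdeal⟩

end Groth.Agent.ZCl
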